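import Cfsg.Agent.H86.TameC

/-! Blocks with quaternion and semidihedral defect groups. -/

set_option autoImplicit false
set_option linter.unusedSectionVars false

open MonoidAlgebra Subgroup ComplexConjugate

namespace Cfsg.Agent.H86

open Cfsg Cfsg.Agent.H87 Cfsg.Agent.H32

section Grp

variable {H : Type*} [Group H] {x y u : H} {m : ℕ}

theorem Tame.sq_out (T : Tame x y m) (h : y * x * y⁻¹ = x⁻¹) (hu : u ∉ zpowers x) :
    u * u = y * y := by
  have h1 : x * y * (x * y) = y * y := by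
    rw [mul_inv_eq_iff_eq_mul] at h
    rw [mul_assoc, ← mul_assoc y, h]; group
  rcases T.conj_out hu with h2 | h2 <;> obtain ⟨c, rfl⟩ := _root_.isConj_iff.1 h2
  · rw [conj_mul, T.cj_of_mem_z c (T.sq_mem T.nm)]
  · rw [conj_mul, h1, T.cj_of_mem_z c (T.sq_mem T.nm)]

theorem Tame.isConj_of_sq (T : Tame x y m) (h : x * y * (x * y) ≠ 1) (hu : u ∉ zpowers x)
    (h1 : u * u = 1) : IsConj y u := (T.conj_out hu).resolve_right fun h2 => by
  obtain ⟨c, rfl⟩ := _root_.isConj_iff.1 h2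
  exact h (by rwa [conj_mul, conj_eq_one_iff] at h1)

theorem tame_of_inv {n : ℕ} (hn : 3 ≤ n) (h1 : orderOf x = 2 ^ (n - 1)) (h2 : Nat.card H = 2 ^ n)
    (h3 : y ∉ zpowers x) (h4 : y * x * y⁻¹ = x⁻¹) : Tame x y (2 ^ (n - 3)) := by
  obtain ⟨k, rfl⟩ := Nat.exists_eq_add_of_le' hn
  exact ⟨by rw [h1]; simp [pow_succ]; ring, by rw [h2]; simp [pow_succ]; ring, ⟨_, rfl⟩, h3, .inl h4⟩

theorem exists_tame_of_sd (h : IsQuasiDihedral H) : ∃ (x y : H) (m : ℕ), Tame x y m ∧ m ≠ 1 ∧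
    y * y = 1 ∧ x * y * (x * y) ≠ 1 := by
  obtain ⟨n, hn, h1, x, y, h2, h3, h4⟩ := h
  obtain ⟨k, rfl⟩ := Nat.exists_eq_add_of_le' hn
  have h5 : 0 < 2 ^ k := by positivity
  have h6 : y * x * y⁻¹ = x⁻¹ * x ^ (2 * (2 * 2 ^ k)) := by
    rw [h4, eq_inv_mul_iff_mul_eq, ← pow_succ']; congr 1; simp [pow_succ]; omega
  have h7 : y * y = 1 := by rw [← sq, ← h3, pow_orderOf_eq_one]
  have T : Tame x y (2 * 2 ^ k) := ⟨by rw [h2]; ring, by rw [h1]; ring, ⟨k + 1, by ring⟩, fun h => by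
    rw [Tame.cj_in h (mem_zpowers x), eq_inv_mul_iff_mul_eq, ← sq, pow_eq_pow_iff_modEq, h2] at h6
    exact absurd (h6.eq_of_lt_of_lt (by simp [pow_succ]; omega) (by simp [pow_succ]; omega))
      (by omega), .inr ⟨h6, even_two_mul _⟩⟩
  refine ⟨x, y, _, T, by omega, h7, fun h8 => T.z_ne ?_⟩
  rw [← h8, ← mul_right_inj x⁻¹, ← h6, inv_eq_of_mul_eq_one_right h7]; group

end Grp

variable {M : Ideal AlgInt} [hMm : M.IsMaximal] {G : Type*} [Group G] [Finite G]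
  {B : Set (IrrCharacter G)} {P : Subgroup G} {e : (Res M)[G]} {x y : P} {m : ℕ}

theorem exists_tame_of_dihedral {n : ℕ} (hn : 3 ≤ n) (f : P ≃* DihedralGroup (2 ^ (n - 1))) :
    ∃ x y : P, Tame x y (2 ^ (n - 3)) ∧ ∀ u ∉ zpowers x, u * u = 1 := by
  obtain ⟨a, ha, b, hb, h1, h2, h3, h4, -⟩ := H42.exists_gens_of_dihedral f
  have h5 : (⟨b, hb⟩ * ⟨a, ha⟩ * ⟨b, hb⟩⁻¹ : P) = ⟨a, ha⟩⁻¹ := Subtype.ext h3
  have T := tame_of_inv hn (by rw [orderOf_mk, h1]) (by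
    rw [Nat.card_congr f.toEquiv, DihedralGroup.nat_card, ← pow_succ']; congr 1; omega)
    (mt coe_mem_zpowers.2 h4) h5
  exact ⟨_, _, T, fun u hu => (T.sq_out h5 hu).trans (Subtype.ext h2)⟩

theorem exists_tame_of_quaternion {n : ℕ} (hn : 3 ≤ n) (f : P ≃* QuaternionGroup (2 ^ (n - 2))) :
    ∃ x y : P, Tame x y (2 ^ (n - 3)) ∧ ∀ u ∉ zpowers x, u * u ≠ 1 := by
  obtain ⟨a, ha, b, hb, h1, h2, h3, h4, -⟩ := H42.exists_gens_of_quaternion f
  have h5 : (⟨b, hb⟩ * ⟨a, ha⟩ * ⟨b, hb⟩⁻¹ : P) = ⟨a, ha⟩⁻¹ := Subtype.ext h3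
  have T := tame_of_inv hn (by rw [orderOf_mk, h1, ← pow_succ']; congr 1; omega) (by
    rw [Nat.card_congr f.toEquiv, Nat.card_eq_fintype_card, QuaternionGroup.card,
      show 4 = 2 ^ 2 from rfl, ← pow_add]; congr 1; omega) (mt coe_mem_zpowers.2 h4) h5
  refine ⟨_, _, T, fun u hu h6 => T.z_ne (Subtype.ext ?_)⟩
  have h7 := congrArg Subtype.val ((T.sq_out h5 hu).symm.trans h6)
  rw [← h7, ← pow_succ', show n - 3 + 1 = n - 2 by omega]
  exact h2.symm

variable [Fintype P]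

variable (e x) in
open Classical in
/-- The total rank of the subsections of order four not fused into `⟨x⟩`. -/
noncomputable def rho4 : ℝ :=
  ∑ u ∈ (rest e x).filter fun u : P => ¬ u * u = 1, wt 2 P e u * lb 2 P e u

variable (e x) in
open Classical in
/-- The total rank of the subsections of order two not fused into `⟨x⟩`. -/
noncomputable def rho2 : ℝ :=
  ∑ u ∈ (rest e x).filter fun u : P => u * u = 1, wt 2 P e u * lb 2 P e u

theorem rho_eq : rho e x = rho2 e x + rho4 e x := by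
  classical
  rw [rho, rho2, rho4, Finset.sum_filter_add_sum_filter_not]

namespace Tame

variable (T : Tame x y m) (h : Ctx M 2 B P e)
include T h

theorem nm_of_rest {u : P} (hu : u ∈ rest e x) : u ∉ zpowers x := fun h1 =>
  mem_rest.1 hu u h1 (h.fz_refl u.2)

theorem rho4_nonneg : 0 ≤ rho4 e x :=
  Finset.sum_nonneg fun u _ => mul_nonneg (h.wt_pos u.2).le (Nat.cast_nonneg _)

theorem rho2_of_q (hQ : ∀ u ∉ zpowers x, u * u ≠ 1) : rho2 e x = 0 := by
  classical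
  rw [rho2, Finset.filter_false_of_mem fun u hu => hQ u (T.nm_of_rest h hu), Finset.sum_empty]

theorem rho2_of_sd (h1 : y * y = 1) (h2 : x * y * (x * y) ≠ 1) [Decidable (y ∈ rest e x)] :
    rho2 e x = if y ∈ rest e x then 1 else 0 := by
  classical
  have h3 : ∀ u ∈ rest e x, u * u = 1 → Fz 2 P e y u := fun u hu h3 =>
    h.fz_of_isConj (T.isConj_of_sq h2 (T.nm_of_rest h hu) h3)
  split_ifs with h4
  · have h5 : ∀ u : P, Fz 2 P e y u → u ∈ rest e x := fun u hu => mem_rest.2 fun v hv h5 =>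
      mem_rest.1 h4 v hv (h.fz_trans h5 (h.fz_symm y.2 hu))
    have h6 : lb 2 P e y = 1 := h.r1_of_index y.2 fun v hv a ha b hb h6 h7 h8 h9 =>
      coe_mem_zpowers.2 (T.mul_inv_mem_out (T.nm_of_rest h (h5 ⟨v, hv.mem⟩ hv)) (a := ⟨a, ha⟩)
        (b := ⟨b, hb⟩) (Subtype.ext h6) (Subtype.ext h7) (mt coe_mem_zpowers.2 h8)
        (mt coe_mem_zpowers.2 h9))
    rw [rho2, ← h.sum_wt_fz y.2]
    refine Finset.sum_congr (Finset.ext fun u => ?_) fun u hu => ?_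
    · simp only [Finset.mem_filter, Finset.mem_univ, true_and]
      exact ⟨fun h => h3 u h.1 h.2, fun h => ⟨h5 u h, h.sq_iff.1 h1⟩⟩
    · rw [h.lb_fz y.2 (Finset.mem_filter.1 hu).2, h6, Nat.cast_one, mul_one]
  · rw [rho2, Finset.filter_false_of_mem fun u hu h5 => h4 (mem_rest.2 fun v hv h6 =>
      mem_rest.1 hu v hv (h.fz_trans h6 (h3 u hu h5))), Finset.sum_empty]

theorem lz_add : ∃ c : ℝ, lb 2 P e (x ^ (2 * m) : P) + rho4 e x + c = 3 ∧
    ((∀ u ∉ zpowers x, u * u ≠ 1) → c = 0) ∧ (y * y = 1 → x * y * (x * y) ≠ 1 → c = 1) := by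
  classical
  have h1 := T.No_le_Ce (npow_mem_zpowers _ _) (mem_zpowers (x ^ (2 * m)))
  obtain ⟨f, N, L⟩ := h.exists_lc (zpowers_le.2 (x ^ (2 * m)).2)
    ((le_Ce_comm.1 (zpowers_le.2 T.z_mem_Ce)).trans (Ce_le_No _))
  have hι := emb_subtype N
  obtain ⟨c, hc, hf⟩ := L.exists_blk h hι
  have h' := L.ctx h hι hc hf
  have hr := hι.coe_res (L.le h)
  generalize hι.res (L.le h) = r at hr
  have := Fintype.ofFinite (P.comap N.subtype)
  have T' := T.map r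
  have hz : ((r x ^ (2 * m) : P.comap N.subtype) : N) ∈ center N := mem_center_iff.2 fun g =>
    hι.inj (by
      rw [map_mul, map_mul, ← map_pow, hr]
      exact (isCent_zpowers _ _).1 (h1 ((L.mem g).1 g.2).1))
  have hm : ∀ u, r u ∈ zpowers (r x) ↔ u ∈ zpowers x := fun u =>
    exists_congr fun k => by simp only [← map_zpow, r.injective.eq_iff]
  have hq : ∀ u, r u * r u = 1 ↔ u * u = 1 := fun u => by rw [← map_mul, map_eq_one_iff r r.injective]
  have hR : ∀ u : P, u * u ≠ 1 → zpowers ((x ^ (2 * m) : P) : G) ≤ zpowers (N.subtype (r u)) :=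
    fun u hu => by rw [hr]; exact zpowers_le.2 (coe_mem_zpowers.2 (T.z_mem_of_sq hu))
  have h2 := T'.central h' hz
  have h3 := h'.lb_mul (one_mem _) (r x ^ (2 * m)).2 hz
  have h4 := L.lb_up h hι hc hf (u := r (x ^ (2 * m))) (r _).2 (by rw [hr])
  rw [one_mul, h'.lb_one, ← map_pow, h4, hr] at h3
  have h5 : rho4 e x = rho4 (pb N.subtype e) (r x) := by
    refine Finset.sum_equiv r.toEquiv (fun u => ?_) fun u hu => ?_
    · simp only [Finset.mem_filter, mem_rest, MulEquiv.toEquiv_eq_coe, EquivLike.coe_coe, hq]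
      refine and_congr_left fun hu => ?_
      rw [r.surjective.forall]
      refine forall_congr' fun v => imp_congr (hm v).symm (not_congr ?_)
      by_cases hv : v * v = 1
      · exact iff_of_false (fun h => hu (h.sq_iff.1 hv)) fun h =>
          hu ((hq u).1 (h.sq_iff.1 ((hq v).2 hv)))
      · rw [L.fz_up h hι hc hf (r v).2 (hR v hv) (hR u hu), hr, hr]
    · have hu' := (Finset.mem_filter.1 hu).2
      simp only [MulEquiv.toEquiv_eq_coe, EquivLike.coe_coe]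
      rw [L.lb_up h hι hc hf (r u).2 (hR u hu'), L.wt_up h hι hc hf (r u).2 fun v hv h5 =>
        zpowers_le.2 (coe_mem_zpowers.2 (T.z_mem_of_sq (u := ⟨v, hv⟩) fun h6 => hu' ?_)), hr]
      rw [← sq, ← orderOf_dvd_iff_pow_eq_one] at h6 ⊢
      rwa [orderOf_mk, h5, hr, orderOf_coe] at h6
  refine ⟨rho2 (pb N.subtype e) (r x), by rw [h3, h5, ← h2, rho_eq]; ring, fun hQ =>
    T'.rho2_of_q h' (r.surjective.forall.2 fun u hu => mt (hq u).1 (hQ u (mt (hm u).2 hu))),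
    fun h6 h7 => ?_⟩
  rw [T'.rho2_of_sd h' ((hq y).2 h6) (by rw [← map_mul]; exact mt (hq _).1 h7), if_pos]
  refine mem_rest.2 fun v hv h8 => T'.nm ?_
  obtain ⟨g, hg⟩ := _root_.isConj_iff.1 h8.isConj
  rw [mem_center_iff.1 (zpowers_le.2 hz (coe_mem_zpowers.2 (T'.mem_z_of_sq hv
    (h8.sq_iff.2 ((hq y).2 h6))))), mul_inv_cancel_right] at hg
  exact Subtype.ext hg ▸ hv

theorem main (hc : (∀ u ∉ zpowers x, u * u ≠ 1) ∨ (y * y = 1 ∧ x * y * (x * y) ≠ 1)) :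
    blockRank 2 B ≤ 3 ∧
    Nat.card {χ : IrrCharacter G // χ ∈ B ∧ blockHeight 2 B (χ : G → ℂ) = 0} = 4 ∧
    (∀ χ ∈ B, blockHeight 2 B (χ : G → ℂ) = 0 ∨ blockHeight 2 B (χ : G → ℂ) = 1 ∨
      2 ^ blockHeight 2 B (χ : G → ℂ) = 2 * m) ∧
    (Nat.card B : ℝ) = blockRank 2 B + lb 2 P e (x ^ (2 * m) : P) + (2 * m - 1) + rho e x ∧
    (m ≠ 1 → Nat.card {χ : IrrCharacter G // χ ∈ B ∧ blockHeight 2 B (χ : G → ℂ) = 1} + 1 = 2 * m ∧
      2 * m + 3 ≤ Nat.card B ∧ (2 * m + 5 ≤ Nat.card B → 3 ≤ lb 2 P e (x ^ (2 * m) : P))) := by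
  classical
  obtain ⟨S, δ, L, hS⟩ := T.exists_gl_w h
  obtain ⟨A, Z, s, t, r, H, -, -, -, hr, -⟩ := L.exists_td T hS
  have hs : ∀ χ ∈ fs B, blockHeight 2 B (χ : G → ℂ) = 0 → s χ = 4 * m - 2 := fun χ hχ h0 => by
    by_contra h1
    rcases H.nonstd hχ h0 h1 with h2 | ⟨-, -, h2, h3, -⟩
    · exact T.not_five h (by omega) h2.2.1 h2.2.2
    obtain ⟨c, h4, h5, h6⟩ := T.lz_add h
    rw [rho4, hr χ (mem_fs.1 hχ) h0 h3, Finset.filter_empty, Finset.sum_empty,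
      show lb 2 P e (x ^ (2 * m) : P) = 1 by omega] at h4
    rcases hc with h7 | h7
    · rw [h5 h7] at h4; norm_num at h4
    · rw [h6 h7.1 h7.2] at h4; norm_num at h4
  have h1 := H.l_le hs
  have h2 := card_split (fs B) fun χ => blockHeight 2 B (χ : G → ℂ)
  rw [H.k0, card_fs] at h2
  refine ⟨by omega, by rw [← card_filter_fs, H.k0], fun χ hχ => ?_, L.card_eq T hS, fun hm => ?_⟩
  · by_contra h3
    have := ((H.of_ne_zero (mem_fs.2 hχ) (by omega)).2.2.2 (by omega)).2.2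
    exact h3 (.inr (.inr (by exact_mod_cast this)))
  · have h3 := H.card_one hs (by omega)
    have h4 := H.three_le hs (by omega)
    rw [← card_filter_fs]
    omega

theorem quaternion (hQ : ∀ u ∉ zpowers x, u * u ≠ 1) : Nat.card B = blockRank 2 B + 2 * m + 2 := by
  obtain ⟨c, h1, h2, -⟩ := T.lz_add h
  have h3 := (T.main h (.inl hQ)).2.2.2.1
  rw [rho_eq, T.rho2_of_q h hQ] at h3
  rw [h2 hQ] at h1
  exact_mod_cast (show (Nat.card B : ℝ) = blockRank 2 B + 2 * m + 2 by linarith)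

theorem semidihedral (hm : m ≠ 1) (h1 : y * y = 1) (h2 : x * y * (x * y) ≠ 1) :
    2 * m + 3 ≤ Nat.card B ∧ Nat.card B ≤ 2 * m + 4 ∧
      (Nat.card B = blockRank 2 B + 2 * m + 1 ∧ y ∉ rest e x ∨
        Nat.card B = blockRank 2 B + 2 * m + 2) := by
  classical
  obtain ⟨c, h3, -, h4⟩ := T.lz_add h
  obtain ⟨-, -, -, h5, h6⟩ := T.main h (.inr ⟨h1, h2⟩)
  obtain ⟨-, h6, h7⟩ := h6 hm
  rw [rho_eq, T.rho2_of_sd h h1 h2] at h5
  rw [h4 h1 h2] at h3
  refine ⟨h6, by_contra fun h8 => ?_, ?_⟩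
  · have h9 : (3 : ℝ) ≤ lb 2 P e (x ^ (2 * m) : P) := by exact_mod_cast h7 (by omega)
    linarith [T.rho4_nonneg h]
  · split_ifs at h5 with h8
    · exact .inr (by exact_mod_cast (show (Nat.card B : ℝ) = blockRank 2 B + 2 * m + 2 by linarith))
    · exact .inl ⟨by exact_mod_cast (show (Nat.card B : ℝ) = blockRank 2 B + 2 * m + 1 by linarith),
        h8⟩

end Tame

end Cfsg.Agent.H86
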