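import Cfsg.Agent.H86.Gl
import Cfsg.Agent.H42.OddAut

/-! Orthogonality relations for contributions and generalized decomposition numbers. -/

set_option autoImplicit false
set_option linter.unusedSectionVars false

open MonoidAlgebra Subgroup ComplexConjugate

namespace Cfsg.Agent.H86

open Cfsg Cfsg.Agent.H87 Cfsg.Agent.H32

variable {M : Ideal AlgInt} [hMm : M.IsMaximal] {G : Type*} [Group G] [Finite G] {p : ℕ}
  {B : Set (IrrCharacter G)} {P : Subgroup G} {e : (Res M)[G]} {χ ψ : G → ℂ} {u v z : G}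

namespace Ctx

variable (h : Ctx M p B P e)
include h

theorem cn_fz (hχ : IsClassFunction G χ) (hψ : IsClassFunction G ψ) (hu : u ∈ P)
    (h1 : Fz p P e u v) : cn p P e v χ ψ = cn p P e u χ ψ := by
  have := Fintype.ofFinite G
  have hv := h1.mem
  obtain ⟨g, hg, rfl⟩ := h1
  have := Fintype.ofFinite (Ce (zpowers u))
  have := Fintype.ofFinite (Ce (zpowers (g * u * g⁻¹)))
  have h2 := W_conj h.hM.1 hχ hψ ((h.blk_spec hu).2.pair_iff.2 h.pair) g
  rw [h.cj_bi hg, W_idm h.hM hχ ψ (isCent_zpowers _) (h.pElt hu) (h.blk_spec hu).1,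
    W_idm h.hM hχ ψ (isCent_zpowers _) (h.pElt hv) (h.blk_spec hv).1,
    show Nat.card (Ce (zpowers (g * u * g⁻¹))) = Nat.card (Ce (zpowers u)) by
      rw [← cjS_zpowers, ← cjS_Ce, card_cjS]] at h2
  rw [cn_eq, cn_eq, mul_left_cancel₀ H5.natCard_ne_zero h2]

theorem fz_iff_of_fz (hu : u ∈ P) (h1 : Fz p P e u v) (w : G) : Fz p P e v w ↔ Fz p P e u w :=
  ⟨h.fz_trans h1, h.fz_trans (h.fz_symm hu h1)⟩

theorem fz_comm (hu : u ∈ P) (hv : v ∈ P) : Fz p P e u v ↔ Fz p P e v u :=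
  ⟨h.fz_symm hu, h.fz_symm hv⟩

theorem fz_of_isConj {u v : P} (h1 : IsConj u v) : Fz p P e u v := by
  obtain ⟨c, rfl⟩ := isConj_iff.1 h1
  exact h.fz_conj u.2 c.2

theorem wt_fz (hu : u ∈ P) (h1 : Fz p P e u v) : wt p P e v = wt p P e u := by
  simp only [h.wt_eq hu, h.wt_eq h1.mem, h.fz_iff_of_fz hu h1]

theorem lb_fz (hu : u ∈ P) (h1 : Fz p P e u v) : lb p P e v = lb p P e u := by
  refine Nat.cast_injective (R := ℂ) ?_
  rw [← h.sum_cn_self hu, ← h.sum_cn_self h1.mem]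
  exact Finset.sum_congr rfl fun χ _ => h.cn_fz (irr_cf χ.2) (irr_cf χ.2) hu h1

open Classical in
theorem sum_wt_fz [Fintype P] (hu : u ∈ P) :
    ∑ v ∈ Finset.univ.filter fun v : P => Fz p P e u v, wt p P e v = 1 := by
  rw [Finset.sum_congr rfl fun v hv => h.wt_fz hu (Finset.mem_filter.1 hv).2, Finset.sum_const,
    nsmul_eq_mul, h.wt_eq hu, ← Fintype.card_subtype, ← Nat.card_eq_fintype_card, mul_inv_cancel₀]
  have : Nonempty {v : P // Fz p P e u v} := ⟨⟨u, hu⟩, h.fz_refl hu⟩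
  exact Nat.cast_ne_zero.2 Nat.card_pos.ne'

open Classical in
theorem sum_sat [Fintype P] {F : P → ℂ} (hF : ∀ u v : P, Fz p P e u v → F v = F u) (S : Finset P)
    (a : P → ℂ) (ha : ∀ v ∈ S, ∑ w ∈ S.filter fun w : P => Fz p P e v w, a w = 1) :
    ∑ u ∈ Finset.univ.filter fun u : P => ∃ v ∈ S, Fz p P e v u, wt p P e u * F u =
      ∑ v ∈ S, a v * F v := by
  have h1 : ∀ v : P, a v * F v = ∑ u : P, if Fz p P e v u then a v * (wt p P e u * F u) else 0 :=
    fun v => by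
      rw [← Finset.sum_filter, ← Finset.mul_sum, Finset.sum_congr rfl fun u hu => by
        rw [hF _ _ (Finset.mem_filter.1 hu).2], ← Finset.sum_mul, ← Complex.ofReal_sum,
        h.sum_wt_fz v.2, Complex.ofReal_one, one_mul]
  simp only [h1]
  rw [Finset.sum_comm, Finset.sum_filter]
  refine Finset.sum_congr rfl fun u _ => ?_
  rw [← Finset.sum_filter, ← Finset.sum_mul]
  split_ifs with h2
  · obtain ⟨v, hv, h2⟩ := h2
    rw [Finset.filter_congr fun (w : P) _ => (h.fz_comm w.2 u.2).trans (h.fz_iff_of_fz v.2 h2 w), ha v hv,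
      one_mul]
  · rw [Finset.filter_false_of_mem fun w hw h3 => h2 ⟨w, hw, h3⟩, Finset.sum_empty, zero_mul]

open Classical in
theorem stab_ind (u : G) : Stab p P e fun v => if Fz p P e u v then 1 else 0 :=
  h.stab_iff.2 fun v _ h1 => if_congr ⟨fun h2 => h.fz_trans h2 (h.fz_symm v.2 h1),
    fun h2 => h.fz_trans h2 h1⟩ rfl rfl

open Classical in
theorem ci_st_ind [Fintype G] (hu : u ∈ P) (hχ : IsClassFunction G χ) (hψ : IsClassFunction G ψ) :
    classInner (st p e (fun v : P => if Fz p P e u v then 1 else 0) χ) ψ = cn p P e u χ ψ := by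
  have := Fintype.ofFinite P
  rw [h.ci_eq (h.cf_st (h.stab_ind u) hχ) (h.blockPart_st (h.stab_ind u) hχ) hψ]
  simp only [h.cn_st_left (h.stab_ind u) hχ, ite_mul, one_mul, zero_mul, mul_ite, mul_zero]
  rw [← Finset.sum_filter, Finset.sum_congr rfl fun v hv => by
    rw [h.cn_fz hχ hψ hu (Finset.mem_filter.1 hv).2], ← Finset.sum_mul, ← Complex.ofReal_sum,
    h.sum_wt_fz hu, Complex.ofReal_one, one_mul]

open Classical in
theorem st_ind_eq (hu : u ∈ P) (hχ : IsClassFunction G χ) :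
    st p e (fun v : P => if Fz p P e u v then 1 else 0) χ =
      ∑ β ∈ fs B, cn p P e u χ β • (β : G → ℂ) := by
  have := Fintype.ofFinite G
  rw [← h.blockPart_st (h.stab_ind u) hχ, blockPart_eq]
  simp only [h.ci_st_ind hu hχ (irr_cf (Subtype.prop _))]

open Classical in
theorem sum_cn_mul_cn (hu : u ∈ P) (hv : v ∈ P) (hχ : IsClassFunction G χ)
    (hψ : IsClassFunction G ψ) : ∑ β ∈ fs B, cn p P e u χ β * cn p P e v β ψ =
      if Fz p P e u v then cn p P e u χ ψ else 0 := by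
  have := Fintype.ofFinite G
  have h1 := h.cn_st_left (ψ := ψ) (h.stab_ind u) hχ ⟨v, hv⟩
  rw [← h.ci_st_ind hv (h.cf_st (h.stab_ind u) hχ) hψ, h.st_ind_eq hu hχ, st_sum,
    H5.classInner_sum_left] at h1
  simp only [st_smul, H5.classInner_smul_left, h.ci_st_ind hv (irr_cf (Subtype.prop _)) hψ] at h1
  rw [h1]
  split_ifs with h2
  · rw [one_mul, h.cn_fz hχ hψ hu h2]
  · rw [zero_mul]

theorem D_ne_zero (hu : u ∈ P) (h1 : R1 p P e u) {χ : IrrCharacter G} (hχ : χ ∈ B)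
    (h0 : blockHeight p B (χ : G → ℂ) = 0) : D p P e u χ ≠ 0 := fun h2 =>
  (h1.not_mem_iff h hu hχ).2 h0 (h2 ▸ zero_mem _)

open Classical in
theorem sum_D_mul_conj (hu : u ∈ P) (hv : v ∈ P) (h1 : R1 p P e u) :
    ∑ β ∈ fs B, D p P e v β * conj (D p P e u β) =
      if Fz p P e u v then (p : ℂ) ^ df p P e u else 0 := by
  obtain ⟨ξ, hξ, h0⟩ := exists_height_zero (p := p) (isPBlock_nonempty h.hB)
  have h2 := D_st h (h.stab_ind u) (irr_cf ξ.2) ⟨v, hv⟩
  rw [h.st_ind_eq hu (irr_cf ξ.2), D, dn_sum] at h2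
  refine mul_left_cancel₀ (h.D_ne_zero hu h1 hξ h0) ?_
  have h3 : _ = (p : ℂ) ^ df p P e u * _ := congrArg ((p : ℂ) ^ df p P e u * ·) h2
  rw [Finset.mul_sum] at h3 ⊢
  refine (Finset.sum_congr rfl fun β _ => ?_).trans (h3.trans ?_)
  · rw [H87.dn_smul, ← mul_assoc (_ ^ _), h1.pow_mul_cn h hu (irr_cf ξ.2) (irr_cf β.2)]; ring
  · split_ifs with h4
    · rw [D_fz h (irr_cf ξ.2) hu h4]; ring
    · simp

theorem bi_eq_of_Ce_eq (hu : u ∈ P) (hv : v ∈ P) (h1 : Ce (zpowers u) = Ce (zpowers v)) :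
    bi p P e u = bi p P e v := by
  have : Fact p.Prime := ⟨h.hM.1⟩
  have := res_charP h.hM
  obtain ⟨f, hf⟩ := exists_sub h.pair (sup_le (zpowers_le.2 hu) (zpowers_le.2 hv))
  have hf' := hf.pair_iff.2 h.pair
  have key : ∀ w ∈ P, Ce (zpowers w) = Ce (zpowers u) → w ∈ zpowers u ⊔ zpowers v →
      f = bi p P e w := fun w hw h2 h3 => h.eq_bi (Sub.trans (NSub.sub ⟨⟨isPGroup_zpowers
    (h.pElt hw), le_No_top _, by simpa only [Ce_sup, ← h1, inf_idem, ← h2] using hf'.blk⟩, hf',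
    zpowers_le.2 h3, (sup_le (zpowers_le.2 (h2 ▸ (isCent_zpowers u).mem))
      (zpowers_le.2 (h2 ▸ h1 ▸ (isCent_zpowers v).mem))).trans (Ce_le_No _), hf'.inv,
    by rw [hf'.Br_self, hf'.blk.idem]⟩) hf)
  rw [← key u hu rfl (mem_sup_left (mem_zpowers u)), ← key v hv h1.symm (mem_sup_right (mem_zpowers v))]

omit h in
theorem _root_.Cfsg.Agent.H86.isCent_mul (hz : z ∈ center G) :
    IsCent (Ce (zpowers u)) (u * z) := fun g => by
  rw [isCent_zpowers u g, mul_assoc, ← mem_center_iff.1 hz, ← mul_assoc, ← mul_assoc, mul_left_inj]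

theorem sub_mul (hu : u ∈ P) (hzP : z ∈ P) (hz : z ∈ center G) :
    Sub p ⊤ (zpowers (u * z)) (bi p P e u) P e :=
  h.bi_eq_of_Ce_eq hu (mul_mem hu hzP) (isCent_mul hz).eq_Ce ▸ (h.blk_spec (mul_mem hu hzP)).2

omit h in
theorem _root_.Cfsg.Agent.H86.shift_mul {C : Subgroup G} {a : ℂ} (h : ∀ g, χ (z * g) = a * χ g)
    (hz : z ∈ center G) : shift C (u * z) χ = a • shift C u χ := by
  funext c
  rw [Pi.smul_apply, shift_apply, shift_apply, mem_center_iff.1 hz, mul_assoc, h, smul_eq_mul]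

theorem cn_mul (hu : u ∈ P) (hzP : z ∈ P) (hz : z ∈ center G) {a b : ℂ}
    (ha : ∀ g, χ (z * g) = a * χ g) (hb : ∀ g, ψ (z * g) = b * ψ g) :
    cn p P e (u * z) χ ψ = a * conj b * cn p P e u χ ψ := by
  have := Fintype.ofFinite G
  have := Fintype.ofFinite (Ce (zpowers u))
  rw [h.cn_eq_con (isCent_mul hz) (h.blk_spec hu).1 (h.sub_mul hu hzP hz), cn_eq,
    con_eq h.hM (h.blk_spec hu).1, con_eq h.hM (h.blk_spec hu).1, gen, gen, shift_mul ha hz,
    shift_mul hb hz, reg_smul, blockPart_smul, H5.classInner_smul_left, H5.classInner_smul_right,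
    mul_assoc]

theorem D_mul (hχ : IsClassFunction G χ) (hu : u ∈ P) (hzP : z ∈ P) (hz : z ∈ center G) {a : ℂ}
    (ha : ∀ g, χ (z * g) = a * χ g) : D p P e (u * z) χ = a * D p P e u χ := by
  have := Fintype.ofFinite (Ce (zpowers u))
  have h1 := tau_idm hχ (isCent_mul hz) (h.blk_spec hu).1 1
  have h2 := tau_idm hχ (isCent_zpowers u) (h.blk_spec hu).1 1
  rw [coe_one, mul_one] at h1 h2
  rw [D, D, ← h.eq_bi (h.sub_mul hu hzP hz), H87.dn, H87.dn, h1, h2, ← (isCent_mul hz).eq_Ce,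
    shift_mul ha hz, blockPart_smul, Pi.smul_apply, smul_eq_mul, mul_div_assoc]

theorem lb_mul (hu : u ∈ P) (hzP : z ∈ P) (hz : z ∈ center G) : lb p P e (u * z) = lb p P e u :=
  h.lb_eq ((emb_subtype _).of_eq (isCent_mul hz).eq_Ce) (h.blk_spec hu).1 (h.sub_mul hu hzP hz)

end Ctx

/-- If the centralizers in `P` of the elements fused to `u` are small, then `l(e_u) = 1`. -/
theorem Ctx.r1_of_index (h : Ctx M 2 B P e) (hu : u ∈ P) (H : ∀ v, Fz 2 P e u v → ∀ a ∈ P, ∀ b ∈ P,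
    a * v = v * a → b * v = v * b → a ∉ zpowers v → b ∉ zpowers v → a * b⁻¹ ∈ zpowers v) :
    R1 2 P e u := by
  have := res_charP h.hM
  have hf := (h.blk_spec hu).2.pair_iff.2 h.pair
  refine r1_of_nilp h hu fun Q f hQ x hx _ hp => ?_
  have h1 := hf.nsub_sup_of_bpair hQ
  obtain ⟨g, hg⟩ := h.bpair_iff.1 ((h.bpair_of_sub (h.blk_spec hu).2).of_sub' le_rfl
    (blk_eB h.hB).mem (blk_eB h.hB).idem h1.sub le_top)
  have h2 : Fz 2 P e u (g * u * g⁻¹) := ⟨g, Into.of_sub h1.sub hg, rfl⟩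
  have h3 := H42.OddAut.of_conj h1.right.pgp (No_inf_No_le_sup _ _ ⟨Ce_le_No _ hx.1.2, hx.2⟩)
    (Nat.odd_iff.2 (Nat.two_dvd_ne_zero.1 hp))
  have h4 : ∀ a ∈ zpowers u, x * a * x⁻¹ = a := fun a ha => by
    rw [← mem_Ce.1 hx.1.2 a ha, mul_inv_cancel_right]
  have h5 : ∀ q ∈ Q, g * q * g⁻¹ * (g * u * g⁻¹) = g * u * g⁻¹ * (g * q * g⁻¹) := fun q hq => by
    rw [conj_mul, conj_mul, mem_Ce.1 (hQ.le hq).2 u (mem_zpowers u)]
  have h6 : ∀ q, g * q * g⁻¹ ∈ zpowers (g * u * g⁻¹) ↔ q ∈ zpowers u := fun q => by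
    rw [← cjS_zpowers, mem_cjS, show g⁻¹ * (g * q * g⁻¹) * g = q by group]
  refine mem_Ce.2 fun q hq => (mul_inv_eq_iff_eq_mul.1 ?_).symm
  by_cases h7 : q ∈ zpowers u
  · exact h4 q h7
  have h8 := conj_mem_of_No hx.2 hq
  refine h3.fix_of_fix (mem_sup_right hq) (h4 _ ((h6 _).1 ?_))
  rw [← conj_mul, ← conj_inv]
  refine H _ h2 _ (hg.le (conj_mem_cjS (mem_sup_right h8))) _
    (hg.le (conj_mem_cjS (mem_sup_right hq))) (h5 _ h8) (h5 _ hq) (fun h9 => h7 ?_)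
    (mt (h6 q).1 h7)
  have h10 := h4 _ ((h6 _).1 h9)
  rw [mul_left_cancel (mul_right_cancel h10).symm]
  exact (h6 _).1 h9

end Cfsg.Agent.H86
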