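import Cfsg.Agent.H86.TameA
import Cfsg.Agent.H86.Orth

/-! The numerical data of a block with defect group of maximal class. -/

set_option autoImplicit false
set_option linter.unusedSectionVars false

open MonoidAlgebra Subgroup ComplexConjugate

namespace Cfsg.Agent.H86

open Cfsg Cfsg.Agent.H87 Cfsg.Agent.H32

theorem card_eq_four {ι : Type*} {I : Finset ι} {a : ι → ℤ} {h : ι → ℕ}
    (h1 : ∑ i ∈ I, a i ^ 2 = 4) (h2 : ∀ i ∈ I, h i = 0 ↔ Odd (a i)) (h3 : ∃ i ∈ I, h i = 0) :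
    (I.filter (h · = 0)).card = 4 := by
  have h4 : 4 ∣ ∑ i ∈ I with h i = 0, (a i ^ 2 - 1) := Finset.dvd_sum fun i hi => by
    obtain ⟨c, hc⟩ := (h2 i (Finset.mem_filter.1 hi).1).1 (Finset.mem_filter.1 hi).2
    exact ⟨c ^ 2 + c, by rw [hc]; ring⟩
  have h5 : 4 ∣ ∑ i ∈ I with ¬ h i = 0, a i ^ 2 := Finset.dvd_sum fun i hi => by
    obtain ⟨c, hc⟩ := Int.not_odd_iff_even.1 (mt (h2 i (Finset.mem_filter.1 hi).1).2
      (Finset.mem_filter.1 hi).2)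
    exact ⟨c ^ 2, by rw [hc]; ring⟩
  have h6 : 0 ≤ ∑ i ∈ I with h i = 0, (a i ^ 2 - 1) := Finset.sum_nonneg fun i hi => by
    obtain ⟨c, hc⟩ := (h2 i (Finset.mem_filter.1 hi).1).1 (Finset.mem_filter.1 hi).2
    rw [hc]; nlinarith [Int.le_self_sq (-c)]
  have h7 : 0 ≤ ∑ i ∈ I with ¬ h i = 0, a i ^ 2 := Finset.sum_nonneg fun i _ => sq_nonneg _
  obtain ⟨i, hi⟩ := h3
  have h8 := Finset.card_pos.2 ⟨i, (Finset.mem_filter (p := (h · = 0))).2 hi⟩
  rw [← Finset.sum_filter_add_sum_filter_not I (h · = 0)] at h1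
  rw [Finset.sum_sub_distrib, Finset.sum_const, nsmul_eq_mul] at h4 h6
  omega

variable {M : Ideal AlgInt} [hMm : M.IsMaximal] {G : Type*} [Group G] [Finite G]
  {B : Set (IrrCharacter G)} {P : Subgroup G} {e : (Res M)[G]} {χ ψ : G → ℂ}

theorem Ctx.exists_mat (h : Ctx M 2 B P e) {u : G} (hu : u ∈ P) (hc : u ∈ Ce P) (h2 : u * u = 1) :
    ∃ A, Mat (fs B) (fun χ => blockHeight 2 B (χ : G → ℂ)) (Nat.card P) (lb 2 P e u) A ∧
      ∀ χ ψ : IrrCharacter G, (Nat.card P : ℂ) * cn 2 P e u χ ψ = A χ ψ := by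
  have h1 : ∀ χ ψ : IrrCharacter G, ∃ n : ℤ, (Nat.card P : ℂ) * cn 2 P e u χ ψ = n := fun χ ψ => by
    obtain ⟨Q, hQ⟩ := h.fam_cn two_ne_zero (IsPrimitiveRoot.neg_one 0 (by norm_num)) hu
      (orderOf_dvd_of_pow_eq_one (by rw [sq, h2])) (H53.virt_of_irr χ.2) (H53.virt_of_irr ψ.2)
    have h3 := hQ 1 (by norm_num)
    simp only [pow_one, h.df_of_central hu hc, ← Nat.cast_pow, ← h.card_eq] at h3
    exact ⟨Q.eval (-1), by
      simpa [h3] using Polynomial.aeval_algebraMap_apply_eq_algebraMap_eval (A := ℂ) (-1) Q⟩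
  choose A hA using h1
  have h3 : ∀ χ ψ, A χ ψ = A ψ χ := fun χ ψ => Int.cast_injective (α := ℂ) (by
    rw [← hA, ← conj_cn, ← map_intCast (starRingEnd ℂ), ← hA, map_mul, map_natCast])
  have h4 : ((2 : ℕ) : ℂ) ^ blockDefect 2 B = Nat.card P := by rw [h.card_eq, Nat.cast_pow]
  refine ⟨A, ⟨fun χ _ ψ _ => h3 χ ψ, fun χ _ => Int.cast_injective (α := ℂ) ?_,
    Int.cast_injective (α := ℂ) ?_, fun χ _ ψ hψ => ?_, fun χ hχ ψ hψ => ?_, fun χ hχ => ?_⟩, hA⟩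
  · have h5 := h.sum_cn_mul_cn hu hu (irr_cf χ.2) (irr_cf χ.2)
    rw [if_pos (h.fz_refl hu)] at h5
    push_cast
    rw [← hA, ← h5, Finset.mul_sum, Finset.mul_sum]
    refine Finset.sum_congr rfl fun ψ _ => ?_
    rw [sq]; nth_rw 2 [h3]; rw [← hA, ← hA]; ring
  · push_cast
    simp only [← hA]
    rw [← Finset.mul_sum, h.sum_cn_self hu]
  · exact (int_div_pow_mem_locRing_iff h.hM _ _).1
      (hA χ ψ ▸ h4 ▸ h.cn_div_mem hu (H53.virt_of_irr χ.2) (mem_fs.1 hψ))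
  · rw [← h.cn_div_mem_iff hu hc (mem_fs.1 hχ) (mem_fs.1 hψ), h4, hA]
    exact (int_div_pow_mem_locMax_iff h.hM _ _).symm
  · have h5 := hA χ χ
    rw [cn_self_eq_norm] at h5
    have h6 : (Nat.card P : ℝ) * ‖cn 2 P e u χ χ‖ = A χ χ := by exact_mod_cast h5
    exact_mod_cast h6 ▸ mul_pos (Nat.cast_pos.2 Nat.card_pos)
      (norm_pos_iff.2 (h.cn_self_ne_zero_of_central hu hc (mem_fs.1 hχ)))

theorem Fz.sq_iff {p : ℕ} {u v : P} (h : Fz p P e u v) : u * u = 1 ↔ v * v = 1 := by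
  rw [← sq, ← sq, ← orderOf_dvd_iff_pow_eq_one, ← orderOf_dvd_iff_pow_eq_one, ← orderOf_coe,
    orderOf_isConj h.isConj, orderOf_coe]

theorem Fz.one_iff {p : ℕ} {u v : P} (h : Fz p P e u v) : u = 1 ↔ v = 1 := by
  rw [← orderOf_eq_one_iff (x := u), ← orderOf_eq_one_iff (x := v), ← orderOf_coe,
    orderOf_isConj h.isConj, orderOf_coe]

variable [Fintype P] {x y : P} {m : ℕ} {S : Set P} {δ : P → ℂ}

variable (e x) in
open Classical in
/-- The elements of `P` which are not fused into `⟨x⟩`. -/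
noncomputable def rest : Finset P :=
  Finset.univ.filter fun u : P => ¬ ∃ v ∈ zpowers x, Fz 2 P e v u

theorem mem_rest {u : P} : u ∈ rest e x ↔ ∀ v ∈ zpowers x, ¬ Fz 2 P e v u := by simp [rest]

variable (e x) in
/-- The total rank of the subsections not fused into `⟨x⟩`. -/
noncomputable def rho : ℝ := ∑ u ∈ rest e x, wt 2 P e u * lb 2 P e u

theorem Tame.z_mem_Ce (T : Tame x y m) : ((x ^ (2 * m) : P) : G) ∈ Ce P :=
  mem_Ce.2 fun q hq => congrArg Subtype.val (T.z_comm ⟨q, hq⟩)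

namespace Gl

variable (L : Gl M 2 B P e S (x ^ (2 * m)) δ) (T : Tame x y m) (hS : ∀ u ∈ sS x m, u ∈ S)
include L T hS

theorem fz_C {u v : P} (hu : u ∈ zpowers x) (hv : v ∈ zpowers x) :
    Fz 2 P e u v ↔ v = u ∨ v = y * u * y⁻¹ := by
  refine ⟨fun h1 => ?_, fun h1 => L.ctx.fz_of_isConj ((T.isConj_iff hu).2 h1)⟩
  by_cases h2 : u * u = 1
  · have h3 := T.mem_z.1 (T.mem_z_of_sq hu h2)
    have h4 := T.mem_z.1 (T.mem_z_of_sq hv (h1.sq_iff.1 h2))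
    have h5 := h1.one_iff
    grind
  · exact (T.isConj_iff hu).1 ((L.fz u (hS u (mem_sS.2 ⟨hu, mt T.sq_of_mem_z h2⟩)) v
      (hS v (mem_sS.2 ⟨hv, mt T.sq_of_mem_z (mt h1.sq_iff.2 h2)⟩))).1 h1)

theorem sum_wt {F : P → ℂ} (hF : ∀ u v : P, Fz 2 P e u v → F v = F u) :
    ∑ u : P, wt 2 P e u * F u = F 1 + F (x ^ (2 * m)) + 2⁻¹ * ∑ u ∈ sS x m, F u +
      ∑ u ∈ rest e x, wt 2 P e u * F u := by
  classical
  have h1 := L.ctx.sum_sat hF (Finset.univ.filter (· ∈ zpowers x))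
    (fun u => if u ∈ zpowers (x ^ (2 * m)) then 1 else 2⁻¹) fun v hv => by
      rw [Finset.mem_filter_univ] at hv
      rw [show Finset.filter _ _ = {v, y * v * y⁻¹} from Finset.ext fun w => by
        simp only [Finset.mem_filter, Finset.mem_univ, true_and, Finset.mem_insert,
          Finset.mem_singleton]
        exact ⟨fun h => (L.fz_C T hS hv h.1).1 h.2, fun h =>
          have := h.elim (· ▸ hv) (· ▸ T.cj_mem_iff.2 hv); ⟨this, (L.fz_C T hS hv this).2 h⟩⟩]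
      by_cases h2 : v ∈ zpowers (x ^ (2 * m))
      · rw [T.cj_of_mem_z y h2, Finset.pair_eq_singleton, Finset.sum_singleton, if_pos h2]
      · have h3 := mem_sS.2 ⟨hv, h2⟩
        rw [Finset.sum_pair (T.cj_ne h3).symm, if_neg h2, if_neg (mem_sS.1 (T.cj_mem_sS h3 y)).2]
        norm_num
  have h2 : ∑ u ∈ sS x m, (if u ∈ zpowers (x ^ (2 * m)) then 1 else 2⁻¹) * F u =
      2⁻¹ * ∑ u ∈ sS x m, F u := by
    rw [Finset.mul_sum]
    exact Finset.sum_congr rfl fun u hu => by rw [if_neg (mem_sS.1 hu).2]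
  rw [Finset.sum_subtype (p := (· ∈ zpowers x)) (Finset.univ.filter (· ∈ zpowers x)) (by simp),
    T.sum_C fun u => (if u ∈ zpowers (x ^ (2 * m)) then 1 else 2⁻¹) * F u, if_pos (one_mem _),
    if_pos (mem_zpowers _), one_mul, one_mul, h2] at h1
  rw [← h1, rest, ← Finset.sum_filter_add_sum_filter_not _ fun u : P =>
    ∃ v ∈ zpowers x, Fz 2 P e v u]
  simp

theorem card_eq : (Nat.card B : ℝ) =
    blockRank 2 B + lb 2 P e (x ^ (2 * m) : P) + (2 * m - 1) + rho e x := by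
  have h1 := L.sum_wt T hS (F := fun u => lb 2 P e u) fun u v h => by rw [L.ctx.lb_fz u.2 h]
  rw [← L.ctx.card_eq_sum, Finset.sum_congr rfl fun u hu => by
    rw [show lb 2 P e u = 1 from L.r1 u (hS u hu)], coe_one, L.ctx.lb_one, Finset.sum_const] at h1
  have h2 : ((sS x m).card : ℂ) = 4 * m - 2 := by
    rw [eq_sub_iff_add_eq]; exact_mod_cast T.card_sS
  refine Complex.ofReal_injective ?_
  rw [nsmul_eq_mul, h2] at h1
  push_cast [rho] at h1 ⊢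
  linear_combination h1

theorem pow_df {u : P} (hu : u ∈ sS x m) : ((2 : ℕ) : ℂ) ^ H86.df 2 P e u = 4 * m := by
  rw [← Nat.cast_pow, L.df u (hS u hu), T.card_cent (mem_sS.1 hu).1 (mem_sS.1 hu).2]; simp

open Classical in
theorem sum_D {u v : P} (hu : u ∈ sS x m) (hv : v ∈ zpowers x) :
    ∑ β ∈ fs B, D 2 P e v β * conj (D 2 P e u β) = if IsConj u v then (4 * m : ℂ) else 0 := by
  rw [L.ctx.sum_D_mul_conj u.2 v.2 (L.r1 u (hS u hu)), L.pow_df T hS hu,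
    if_congr ((L.fz_C T hS (mem_sS.1 hu).1 hv).trans (T.isConj_iff (mem_sS.1 hu).1).symm) rfl rfl]

theorem exists_td : ∃ A Z s t r, TD (fs B) (fun χ => blockHeight 2 B (χ : G → ℂ)) m
    (blockRank 2 B) (lb 2 P e (x ^ (2 * m) : P)) A Z s t r ∧
    (∀ χ ψ : IrrCharacter G, 8 * m * cn 2 P e 1 χ ψ = A χ ψ) ∧
    (∀ χ ψ : IrrCharacter G, 8 * m * cn 2 P e (x ^ (2 * m) : P) χ ψ = Z χ ψ) ∧
    (∀ χ ∈ B, (s χ : ℂ) = ∑ u ∈ sS x m, D 2 P e u χ * conj (D 2 P e u χ)) ∧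
    (∀ χ ∈ B, blockHeight 2 B (χ : G → ℂ) = 0 → r χ = 0 → rest e x = ∅) ∧
    (x ^ (2 * m) ∈ S → ∀ χ ∈ B, Z χ χ = t χ ^ 2) := by
  classical
  have := Fintype.ofFinite G
  have h := L.ctx
  obtain ⟨A, hA, hA'⟩ := h.exists_mat P.one_mem (one_mem _) (mul_one _)
  obtain ⟨Z, hZ, hZ'⟩ := h.exists_mat (x ^ (2 * m)).2 T.z_mem_Ce (congrArg Subtype.val T.zz)
  rw [T.card, Nat.cast_mul, Nat.cast_ofNat] at hA hA' hZ hZ'
  rw [h.lb_one] at hA
  obtain ⟨X, hX, hXc, hXy, hnum⟩ := T.exists_num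
  choose! τ h1 h2 h3 h4 using L.virt
  choose! s t a h5 h6 h7 h8 using fun χ hχ => hnum _ (h1 χ hχ)
  have hm : (m : ℂ) ≠ 0 := Nat.cast_ne_zero.2 T.pos.ne'
  have h9 : ∀ χ ∈ B, ∀ u ∈ S, ∀ v ∈ S, τ χ v * conj (τ χ u) =
      δ u * conj (δ v) * (D 2 P e v χ * conj (D 2 P e u χ)) := fun χ hχ u hu v hv => by
    rw [h2 χ hχ u hu, h2 χ hχ v hv, map_mul]
    linear_combination -τ χ v * conj (τ χ u) * (L.norm v + δ v * conj (δ v) * L.norm u)
  have h10 : ∀ χ ∈ B, (s χ : ℂ) = ∑ u ∈ sS x m, D 2 P e u χ * conj (D 2 P e u χ) := fun χ hχ => by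
    rw [← Complex.ofReal_intCast, ← h6 χ hχ, Complex.ofReal_sum]
    refine Finset.sum_congr rfl fun u hu => ?_
    rw [Complex.ofReal_pow, ← Complex.mul_conj', h9 χ hχ u (hS u hu) u (hS u hu), L.norm, one_mul]
  have h11 : ∀ χ ∈ B, ((8 * m - A χ χ - Z χ χ - s χ : ℤ) : ℝ) =
      8 * m * ∑ u ∈ rest e x, wt 2 P e u * ‖cn 2 P e u χ χ‖ := fun χ hχ => by
    have h11 := L.sum_wt T hS (F := fun u => cn 2 P e u χ χ) fun u v h1 =>
      h.cn_fz (irr_cf χ.2) (irr_cf χ.2) u.2 h1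
    rw [← h.ci_eq (irr_cf χ.2) (blockPart_irr_of_mem hχ) (irr_cf χ.2),
      H5.classInner_irr_self χ.2] at h11
    have h12 : 4 * m * ∑ u ∈ sS x m, cn 2 P e u χ χ = s χ := by
      rw [h10 χ hχ, Finset.mul_sum]
      exact Finset.sum_congr rfl fun u hu => by
        rw [← L.pow_df T hS hu, (L.r1 u (hS u hu)).pow_mul_cn h u.2 (irr_cf χ.2) (irr_cf χ.2)]
    refine Complex.ofReal_injective ?_
    push_cast
    simp only [← cn_self_eq_norm]
    rw [← hA', ← hZ', ← h12]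
    linear_combination 8 * m * h11
  have h12 : ∀ χ ∈ B, 2 ^ blockHeight 2 B (χ : G → ℂ) ∣ t χ ∧
      ¬ 2 ^ (blockHeight 2 B (χ : G → ℂ) + 1) ∣ t χ := fun χ hχ => by
    have h12 := h3 χ hχ
    have h13 := h4 χ hχ
    rw [T.z_inv, h7 χ hχ] at h12 h13
    exact ⟨(int_div_pow_mem_locRing_iff h.hM _ _).1 h12,
      mt (int_div_pow_mem_locMax_iff h.hM _ _).2 h13⟩
  have h13 : ∀ u ∈ X, ∑ v ∈ X, ∑ χ ∈ fs B, τ χ v * conj (τ χ u) = 8 * m := fun u hu => by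
    rw [Finset.sum_congr rfl fun v hv => by
      rw [Finset.sum_congr rfl fun χ hχ => h9 χ (mem_fs.1 hχ) u (hS u (hX hu)) v (hS v (hX hv)),
        ← Finset.mul_sum, L.sum_D T hS (hX hu) (mem_sS.1 (hX hv)).1, mul_ite, mul_zero,
        if_congr (T.isConj_iff (mem_sS.1 (hX hu)).1) rfl rfl], ← Finset.sum_filter,
      show Finset.filter _ _ = {u, y * u * y⁻¹} from Finset.ext fun w => by
        simp only [Finset.mem_filter, Finset.mem_insert, Finset.mem_singleton]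
        exact and_iff_right_of_imp fun h => h.elim (· ▸ hu) (· ▸ hXy u hu),
      Finset.sum_pair (T.cj_ne (hX hu)).symm, L.inv u _ (isConj_iff.2 ⟨y, rfl⟩), L.norm]
    ring
  have h14 : ∑ χ ∈ fs B, a χ ^ 2 = 4 := by
    refine Int.cast_injective (α := ℂ) (mul_left_cancel₀ (pow_ne_zero 2 (mul_ne_zero two_ne_zero hm))
      (Eq.trans ?_ ((Finset.sum_congr rfl h13).trans ?_)))
    · rw [Int.cast_sum, Finset.mul_sum, Finset.sum_congr rfl fun u _ => Finset.sum_comm,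
        Finset.sum_comm]
      refine Finset.sum_congr rfl fun χ hχ => ?_
      rw [Finset.sum_comm, ← Finset.sum_mul_sum, ← map_sum, h8 χ (mem_fs.1 hχ)]
      simp only [map_mul, map_ofNat, map_natCast, map_intCast]
      push_cast; ring
    · rw [Finset.sum_const, hXc, nsmul_eq_mul]; push_cast; ring
  refine ⟨A, Z, s, t, fun χ => 8 * m - A χ χ - Z χ χ - s χ, ⟨?_, hA, hZ, card_eq_four h14
    (fun χ hχ => ?_) ?_, fun χ hχ => ⟨_, h5 χ (mem_fs.1 hχ)⟩, fun χ hχ => h12 χ (mem_fs.1 hχ),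
    fun χ _ => by ring, fun χ hχ => ?_, fun χ hχ => ?_, Int.cast_injective (α := ℂ) ?_⟩, hA', hZ',
    h10, fun χ hχ h0 hr => ?_, fun hz χ hχ => Int.cast_injective (α := ℂ) ?_⟩
  · obtain ⟨k, hk⟩ := T.pow; exact ⟨k, by simp [hk]⟩
  · have h15 := (h5 χ (mem_fs.1 hχ)).par
    obtain ⟨h16, h17⟩ := h12 χ (mem_fs.1 hχ)
    refine ⟨fun h0 => ?_, fun h0 => by_contra fun h18 => ?_⟩
    · rw [h0, zero_add, pow_one, ← even_iff_two_dvd] at h17; grind
    · have := even_iff_two_dvd.2 ((dvd_pow_self 2 h18).trans h16); grind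
  · obtain ⟨χ, hχ, h0⟩ := exists_height_zero (p := 2) (isPBlock_nonempty h.hB)
    exact ⟨χ, mem_fs.2 hχ, h0⟩
  · exact_mod_cast h6 χ (mem_fs.1 hχ) ▸ Finset.sum_nonneg fun u _ => sq_nonneg ‖τ χ u‖
  · exact_mod_cast h11 χ (mem_fs.1 hχ) ▸ mul_nonneg (by positivity) (Finset.sum_nonneg fun (u : P) _ =>
      mul_nonneg (h.wt_pos u.2).le (norm_nonneg _))
  · rw [Int.cast_sum, Finset.sum_congr rfl fun χ hχ => h10 χ (mem_fs.1 hχ), Finset.sum_comm,
      Finset.sum_congr rfl fun u hu => by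
        rw [L.sum_D T hS hu (mem_sS.1 hu).1, if_pos (IsConj.refl u)], Finset.sum_const, nsmul_eq_mul,
      show ((sS x m).card : ℂ) = 4 * m - 2 by rw [eq_sub_iff_add_eq]; exact_mod_cast T.card_sS]
    push_cast; ring
  · refine Finset.eq_empty_of_forall_notMem fun u hu => ?_
    have h15 := h11 χ hχ
    rw [show 8 * m - A χ χ - Z χ χ - s χ = 0 from hr, Int.cast_zero] at h15
    exact h15.not_lt (mul_pos (by have := T.pos; positivity) (Finset.sum_pos (fun u _ => mul_pos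
      (h.wt_pos u.2) (norm_pos_iff.2 (h.cn_ne_zero u.2 hχ hχ h0 h0))) ⟨u, hu⟩))
  · have h15 := (L.r1 _ hz).pow_mul_cn h (x ^ (2 * m)).2 (irr_cf χ.2) (irr_cf χ.2)
    have h16 := h9 χ hχ _ hz _ hz
    rw [h.df_of_central (x ^ (2 * m)).2 T.z_mem_Ce, ← Nat.cast_pow, ← h.card_eq, T.card] at h15
    rw [L.norm, one_mul, ← h15, h7 χ hχ, map_intCast] at h16
    rw [← hZ']; push_cast at h16 ⊢; linear_combination -h16

end Gl

end Cfsg.Agent.H86
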