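import Cfsg.Agent.H11.BaseDefs
import Cfsg.Agent.H85.Action
import Cfsg.Agent.H8.NavRizo
import Cfsg.Agent.H1.Glauberman
import Cfsg.Agent.H20.PiHom

/-! Reduction of the base-size-two theorems for coprime actions of solvable groups
to irreducible modules. -/

set_option autoImplicit false

namespace Cfsg.Agent.H86

open Cfsg Cfsg.Agent.H85 Cfsg.Agent.H11 Pointwise

universe u v

open Classical in
theorem card_le_eq_add {L Z : Type*} [PartialOrder L] [Fintype L] [Finite Z] (k : Z → L) (b : L) :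
    Nat.card {z // b ≤ k z} =
      Nat.card {z // k z = b} + ∑ c ∈ Finset.univ.filter (b < ·), Nat.card {z // k z = c} := by
  have := Fintype.ofFinite Z
  simp only [Nat.card_eq_fintype_card, Fintype.card_subtype]
  rw [Finset.card_eq_sum_card_fiberwise (f := k) (t := insert b (Finset.univ.filter (b < ·))),
    Finset.sum_insert (by simp)]
  · congr 1
    · congr 1; ext z; simp only [Finset.mem_filter, Finset.mem_univ, true_and]
      exact ⟨fun h => h.2, fun h => ⟨h.ge, h⟩⟩
    · refine Finset.sum_congr rfl fun c hc => ?_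
      congr 1; ext z; simp only [Finset.mem_filter, Finset.mem_univ, true_and] at hc ⊢
      exact ⟨fun h => h.2, fun h => ⟨h ▸ hc.le, h⟩⟩
  · intro z hz
    simp only [Finset.coe_filter, Finset.mem_univ, true_and, Set.mem_ofPred_eq, Finset.coe_insert,
      Set.mem_insert_iff] at hz ⊢
    exact hz.eq_or_lt.imp Eq.symm id

/-- two maps into a finite partial order with the same "marks" have the same fibres -/
theorem marks_eq {L X Y : Type*} [PartialOrder L] [Finite L] [Finite X] [Finite Y]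
    (f : X → L) (g : Y → L)
    (h : ∀ b, Nat.card {x // b ≤ f x} = Nat.card {y // b ≤ g y}) (b : L) :
    Nat.card {x // f x = b} = Nat.card {y // g y = b} := by
  classical
  have := Fintype.ofFinite L
  induction b using WellFoundedGT.induction with
  | ind b ih =>
    have h1 := h b
    rw [card_le_eq_add f, card_le_eq_add g,
      Finset.sum_congr rfl fun c hc => ih c (by simpa using hc)] at h1
    exact add_right_cancel h1

theorem exists_of_marks {L X Y : Type*} [PartialOrder L] [Finite L] [Finite X] [Finite Y]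
    (f : X → L) (g : Y → L)
    (h : ∀ b, Nat.card {x // b ≤ f x} = Nat.card {y // b ≤ g y}) (y : Y) : ∃ x, f x = g y := by
  have h1 := marks_eq f g h (g y)
  have : Nonempty {y' // g y' = g y} := ⟨⟨y, rfl⟩⟩
  have h2 : 0 < Nat.card {x // f x = g y} := h1 ▸ Nat.card_pos
  obtain ⟨⟨x, hx⟩⟩ := (Nat.card_pos_iff.1 h2).1
  exact ⟨x, hx⟩

section
variable {A K : Type*} [Group A] [Group K] [MulDistribMulAction A K]

/-- the fixed points of `B` -/
def fixSub (K : Type*) [Group K] [MulDistribMulAction A K] (B : Subgroup A) : Subgroup K where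
  carrier := {x | ∀ b ∈ B, b • x = x}
  one_mem' b _ := smul_one b
  mul_mem' {x y} hx hy b hb := by rw [smul_mul', hx b hb, hy b hb]
  inv_mem' {x} hx b hb := by rw [smul_inv', hx b hb]

theorem mem_fixSub {B : Subgroup A} {x : K} : x ∈ fixSub K B ↔ ∀ b ∈ B, b • x = x := Iff.rfl

theorem SD_map_inf (B : Subgroup A) (H : Subgroup K) :
    H.map (SemidirectProduct.inl : K →* SD A K) ⊓ Subgroup.centralizer
      ((B.map (SemidirectProduct.inr : A →* SD A K) : Subgroup _) : Set _) =
      (H ⊓ fixSub K B).map (SemidirectProduct.inl : K →* SD A K) := by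
  ext z
  constructor
  · rintro ⟨⟨x, hx, rfl⟩, h⟩
    exact ⟨x, ⟨hx, (SD_mem_centralizer_iff B x).1 h⟩, rfl⟩
  · rintro ⟨x, ⟨hx, h⟩, rfl⟩
    exact ⟨⟨x, hx, rfl⟩, (SD_mem_centralizer_iff B x).2 h⟩

variable [Finite A] [Finite K]

/-- coprime action: a fixed coset contains a fixed point -/
theorem exists_fixed_lift (hA : Group.IsSolvable A) (N : Subgroup K)
    (hN : ∀ a : A, ∀ x ∈ N, a • x ∈ N) (hcop : (Nat.card A).Coprime (Nat.card N))
    (B : Subgroup A) (k : K) (h : ∀ b ∈ B, k⁻¹ * b • k ∈ N) :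
    ∃ n ∈ N, ∀ b ∈ B, b • (k * n) = k * n := by
  have := finite_SD (A := A) (G := K)
  obtain ⟨_, ⟨n, hn, rfl⟩, hc⟩ := H1.coset_fixed (B.map (SemidirectProduct.inr : A →* SD A K))
    (N.map (SemidirectProduct.inl : K →* SD A K))
    ((SD_le_normalizer_iff B N).2 fun a _ => hN a)
    (by rw [SD_card_left, SD_card_right]
        exact hcop.coprime_dvd_left (Subgroup.card_subgroup_dvd_card B))
    (Or.inl (SD_solvable_right B inferInstance)) (SemidirectProduct.inl k) (by
      rintro _ ⟨b, hb, rfl⟩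
      refine ⟨_, h b hb, ?_⟩
      rw [map_mul, map_inv, ← SD_conj]; group)
  rw [← map_mul, SD_mem_centralizer_iff] at hc
  exact ⟨n, hn, hc⟩

/-- coprime action: an invariant Sylow subgroup meets the fixed points in a Sylow subgroup -/
theorem card_sylow_inf_fix (hA : Group.IsSolvable A)
    (hcop : (Nat.card A).Coprime (Nat.card K)) {p : ℕ} [Fact p.Prime] (P : Sylow p K)
    (hP : ∀ a : A, ∀ x ∈ (P : Subgroup K), a • x ∈ (P : Subgroup K)) (B : Subgroup A) :
    Nat.card ↥((P : Subgroup K) ⊓ fixSub K B) = p ^ (Nat.card (fixSub K B)).factorization p := by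
  have := finite_SD (A := A) (G := K)
  let e : K ≃* ((⊤ : Subgroup K).map (SemidirectProduct.inl : K →* SD A K)) :=
    Subgroup.topEquiv.symm.trans
      ((⊤ : Subgroup K).equivMapOfInjective _ SemidirectProduct.inl_injective)
  let Q := P.mapSurjective (f := e.toMonoidHom) e.surjective
  have hQ : (Q : Subgroup _).map
      ((⊤ : Subgroup K).map (SemidirectProduct.inl : K →* SD A K)).subtype =
      (P : Subgroup K).map (SemidirectProduct.inl : K →* SD A K) := by
    have h0 : (Q : Subgroup _) = (P : Subgroup _).map e.toMonoidHom := rfl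
    rw [h0, Subgroup.map_map]
    rfl
  have h1 := H8.sylIn_card_eq (H8.sylIn_inf_centralizer
    (B.map (SemidirectProduct.inr : A →* SD A K))
    ((⊤ : Subgroup K).map (SemidirectProduct.inl : K →* SD A K))
    ((SD_le_normalizer_iff B ⊤).2 fun _ _ _ _ => trivial)
    (by rw [SD_card_left, SD_card_right, Subgroup.card_top]
        exact hcop.coprime_dvd_left (Subgroup.card_subgroup_dvd_card B))
    (Or.inl (SD_solvable_right B inferInstance)) Q
    (by rw [hQ]; exact (SD_le_normalizer_iff B _).2 fun a _ => hP a))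
  rwa [hQ, SD_map_inf, SD_map_inf, SD_card_left, SD_card_left, top_inf_eq] at h1

end

/-- `Base2Mod` for an acting group in any universe -/
theorem base2_univ (h : Base2Mod.{v}) {A : Type u} {V : Type v} [Group A] [Finite A]
    [AddCommGroup V] [Finite V] [DistribMulAction A V] (hA : Group.IsSolvable A)
    (hcop : (Nat.card A).Coprime (Nat.card V)) (hirr : IrrMod A V) :
    ∃ x y : V, ∀ g : A, g • x = x → g • y = y → ∀ w : V, g • w = w := by
  let R := (MulAction.toPermHom A V).range
  let : DistribMulAction R V :=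
    { smul := fun r w => (r : Equiv.Perm V) w
      one_smul := fun _ => rfl
      mul_smul := fun _ _ _ => rfl
      smul_zero := by rintro ⟨_, a, rfl⟩; exact smul_zero a
      smul_add := by rintro ⟨_, a, rfl⟩ x y; exact smul_add a x y }
  have hs := (MulAction.toPermHom A V).rangeRestrict_surjective
  obtain ⟨x, y, hxy⟩ := h R V (Group.isSolvable_of_surjective hs)
    (hcop.coprime_dvd_left (Subgroup.card_dvd_of_surjective _ hs))
    (fun U hU => hirr U fun g w hw => hU ⟨_, g, rfl⟩ w hw)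
  exact ⟨x, y, fun g hx hy w => hxy ⟨_, g, rfl⟩ hx hy w⟩

theorem base2_nilpotent (h : Base2Mod.{v}) {A : Type u} [Group A] [Finite A]
    (hA : Group.IsSolvable A) (n : ℕ) : ∀ (K : Type v) [Group K] [Finite K]
    [MulDistribMulAction A K], Nat.card K = n → Group.IsNilpotent K →
    (Nat.card A).Coprime (Nat.card K) →
    ∃ x y : K, ∀ g : A, g • x = x → g • y = y → ∀ w : K, g • w = w := by
  induction n using Nat.strong_induction_on with
  | _ n ih =>
  intro K _ _ _ hn hK hcop
  rcases subsingleton_or_nontrivial K with hs | hs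
  · exact ⟨1, 1, fun _ _ _ _ => Subsingleton.elim _ _⟩
  have hZ : Subgroup.center K ≠ ⊥ := Group.IsNilpotent.center_ne_bot K
  obtain ⟨N, ⟨hN0, hNZ, hN⟩, hmin⟩ := (wellFounded_lt (α := Subgroup K)).has_min
    {N | N ≠ ⊥ ∧ N ≤ Subgroup.center K ∧ ∀ a : A, ∀ x ∈ N, a • x ∈ N}
    ⟨_, hZ, le_rfl, smul_mem_of_characteristic _⟩
  have : N.Normal := ⟨fun x hx g => by
    rw [Subgroup.mem_center_iff.1 (hNZ hx) g, mul_inv_cancel_right]; exact hx⟩
  have hcN : (Nat.card A).Coprime (Nat.card N) :=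
    hcop.coprime_dvd_right (Subgroup.card_subgroup_dvd_card N)
  -- the quotient
  let := quotAction N hN
  obtain ⟨x, y, hxy⟩ := ih (Nat.card (K ⧸ N)) (by
      rw [← hn, Subgroup.card_eq_card_quotient_mul_card_subgroup N]
      exact lt_mul_of_one_lt_right Nat.card_pos ((Subgroup.one_lt_card_iff_ne_bot N).2 hN0))
    (K ⧸ N) rfl inferInstance
    (hcop.coprime_dvd_right (Subgroup.card_quotient_dvd_card N))
  -- the module
  let : CommGroup N := { (inferInstance : Group N) with
    mul_comm := fun a b => Subtype.ext (Subgroup.mem_center_iff.1 (hNZ b.2) a) }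
  let : DistribMulAction A (Additive N) :=
    { smul := fun a w => Additive.ofMul ⟨a • (w.toMul : K), hN a _ w.toMul.2⟩
      one_smul := fun w => congrArg Additive.ofMul (Subtype.ext (one_smul A (w.toMul : K)))
      mul_smul := fun a b w => congrArg Additive.ofMul (Subtype.ext (mul_smul a b (w.toMul : K)))
      smul_zero := fun a => congrArg Additive.ofMul (Subtype.ext (smul_one a))
      smul_add := fun a w w' => congrArg Additive.ofMul
        (Subtype.ext (smul_mul' a (w.toMul : K) (w'.toMul : K))) }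
  obtain ⟨n₁, n₂, hn12⟩ := base2_univ h (A := A) (V := Additive N) hA hcN (by
    intro U hU
    by_cases h0 : U = ⊥
    · exact Or.inl h0
    refine Or.inr ?_
    let U' : Subgroup K := (AddSubgroup.toSubgroup' U).map N.subtype
    have hle : U' ≤ N := Subgroup.map_subtype_le _
    have hU' : U' = N := by
      by_contra hne
      refine hmin U' ⟨fun h1 => h0 ?_, hle.trans hNZ, ?_⟩ (lt_of_le_of_ne hle hne)
      · rw [eq_bot_iff]
        intro w hw
        have : (w.toMul : K) ∈ U' := ⟨w.toMul, hw, rfl⟩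
        rw [h1, Subgroup.mem_bot] at this
        exact congrArg Additive.ofMul (Subtype.ext this)
      · rintro a _ ⟨w, hw, rfl⟩
        exact ⟨_, hU a (Additive.ofMul w) hw, rfl⟩
    rw [eq_top_iff]
    intro w _
    obtain ⟨w', hw', e⟩ := hU'.ge w.toMul.2
    have : w' = w.toMul := Subtype.ext e
    subst this
    exact hw')
  -- lifting
  have lift : ∀ (z : K ⧸ N) (m : N), ∃ k : K, ∀ g : A, g • k = k →
      g • z = z ∧ g • (m : K) = m := by
    intro z m
    obtain ⟨k, rfl⟩ := QuotientGroup.mk_surjective z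
    obtain ⟨t, ht, hf⟩ := exists_fixed_lift hA N hN hcN (MulAction.stabilizer A (k : K ⧸ N)) k
      fun b hb => QuotientGroup.eq.1 (Eq.symm hb)
    refine ⟨k * t * m, fun g hg => ?_⟩
    have e : ((k * t * m : K) : K ⧸ N) = k := by
      rw [mul_assoc]; exact QuotientGroup.mk_mul_of_mem k (N.mul_mem ht m.2)
    have h1 : g • (k : K ⧸ N) = k := by rw [← e, quotAction_smul_mk, hg]
    refine ⟨h1, ?_⟩
    rw [smul_mul', hf g h1] at hg
    exact mul_left_cancel hg
  obtain ⟨k₁, hk₁⟩ := lift x n₁.toMul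
  obtain ⟨k₂, hk₂⟩ := lift y n₂.toMul
  refine ⟨k₁, k₂, fun g h1 h2 w => ?_⟩
  have hq := hxy g (hk₁ g h1).1 (hk₂ g h2).1
  have hm := hn12 g (congrArg Additive.ofMul (Subtype.ext (hk₁ g h1).2))
    (congrArg Additive.ofMul (Subtype.ext (hk₂ g h2).2))
  have hB : ∀ b ∈ Subgroup.zpowers g, ∀ z : K ⧸ N, b • z = z := fun b hb z =>
    Subgroup.zpowers_le.2 (show g ∈ MulAction.stabilizer A z from hq z) hb
  obtain ⟨t, ht, hf⟩ := exists_fixed_lift hA N hN hcN (Subgroup.zpowers g) w
    fun b hb => QuotientGroup.eq.1 (hB b hb w).symm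
  have h3 : g • t = t := congrArg (fun s : Additive N => (s.toMul : K)) (hm (Additive.ofMul ⟨t, ht⟩))
  have h4 := hf g (Subgroup.mem_zpowers g)
  rw [smul_mul', h3] at h4
  exact mul_right_cancel h4

/-- base size two for coprime actions of solvable groups (non-faithful form) -/
theorem base2_group (h : Base2Mod.{v}) {A : Type u} {K : Type v} [Group A] [Finite A] [Group K]
    [Finite K] [MulDistribMulAction A K] (hA : Group.IsSolvable A)
    (hcop : (Nat.card A).Coprime (Nat.card K)) :
    ∃ x y : K, ∀ g : A, g • x = x → g • y = y → ∀ w : K, g • w = w := by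
  classical
  let I := {p // p ∈ (Nat.card K).primeFactors}
  have hI : ∀ p : I, Fact (p : ℕ).Prime := fun p => ⟨Nat.prime_of_mem_primeFactors p.2⟩
  choose P hP using fun p : I => exists_invariant_sylow hcop (Or.inl hA) (p : ℕ)
  have hxy : ∀ p : I, ∃ x y : P p, ∀ g : A, g • (x : K) = x → g • (y : K) = y →
      ∀ w ∈ (P p : Subgroup K), g • w = w := by
    intro p
    let := subAction (P p : Subgroup K) (hP p)
    obtain ⟨x, y, hxy⟩ := base2_nilpotent h hA _ (P p : Subgroup K) rfl
      (P p).isPGroup'.isNilpotent (hcop.coprime_dvd_right (Subgroup.card_subgroup_dvd_card _))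
    exact ⟨x, y, fun g h1 h2 w hw =>
      congrArg Subtype.val (hxy g (Subtype.ext h1) (Subtype.ext h2) ⟨w, hw⟩)⟩
  choose x y hxy using hxy
  have hcard : ∀ B : Subgroup A, Nat.card (fixSub K B) =
      ∏ p : I, Nat.card ↥((P p : Subgroup K) ⊓ fixSub K B) := by
    intro B
    simp only [fun p : I => card_sylow_inf_fix hA hcop (P p) (hP p) B]
    rw [Finset.prod_coe_sort (Nat.card K).primeFactors
      fun p => p ^ (Nat.card (fixSub K B)).factorization p]
    conv_lhs => rw [← Nat.prod_factorization_pow_eq_self (Nat.card_pos (α := fixSub K B)).ne']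
    refine Finsupp.prod_of_support_subset _ ?_ _ fun _ _ => pow_zero _
    rw [Nat.support_factorization]
    exact Nat.primeFactors_mono (Subgroup.card_subgroup_dvd_card _) Nat.card_pos.ne'
  have hm : ∀ B : Subgroup A, Nat.card {k : K // B ≤ MulAction.stabilizer A k} =
      Nat.card {z : ∀ p : I, P p // B ≤ ⨅ p, MulAction.stabilizer A (z p : K)} := by
    intro B
    have h1 : Nat.card {k : K // B ≤ MulAction.stabilizer A k} = Nat.card (fixSub K B) := rfl
    rw [h1, hcard, ← Nat.card_pi]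
    refine Nat.card_congr
      { toFun := fun z => ⟨fun p => ⟨z p, (z p).2.1⟩, le_iInf fun p => (z p).2.2⟩
        invFun := fun z p => ⟨z.1 p, (z.1 p).2, (le_iInf_iff.1 z.2) p⟩
        left_inv := fun _ => rfl
        right_inv := fun _ => rfl }
  obtain ⟨x₀, hx₀⟩ := exists_of_marks _ _ hm x
  obtain ⟨y₀, hy₀⟩ := exists_of_marks _ _ hm y
  refine ⟨x₀, y₀, fun g h1 h2 w => ?_⟩
  have h3 : ∀ p : I, (P p : Subgroup K) ≤ fixSub K (Subgroup.zpowers g) := fun p w hw b hb =>
    Subgroup.zpowers_le.2 (show g ∈ MulAction.stabilizer A w from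
      hxy p g (Subgroup.mem_iInf.1 (hx₀ ▸ h1 : g ∈ ⨅ p, MulAction.stabilizer A (x p : K)) p)
        (Subgroup.mem_iInf.1 (hy₀ ▸ h2 : g ∈ ⨅ p, MulAction.stabilizer A (y p : K)) p) w hw) hb
  have h4 : fixSub K (Subgroup.zpowers g) = fixSub K (⊥ : Subgroup A) := by
    have ht : fixSub K (⊥ : Subgroup A) = ⊤ :=
      eq_top_iff.2 fun w _ b hb => by rw [Subgroup.mem_bot.1 hb, one_smul]
    refine Subgroup.eq_of_le_of_card_ge (ht ▸ le_top) (le_of_eq ?_)
    rw [hcard, hcard]
    refine Finset.prod_congr rfl fun p _ => ?_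
    rw [ht, inf_top_eq, inf_eq_left.2 (h3 p)]
  have h5 : w ∈ fixSub K (Subgroup.zpowers g) :=
    h4 ▸ fun b hb => by rw [Subgroup.mem_bot.1 hb, one_smul]
  exact h5 g (Subgroup.mem_zpowers g)

theorem s4372_of (h : Base2Mod.{v}) {A : Type u} {K : Type v} [Group A] [Finite A] [Group K]
    [Finite K] [MulDistribMulAction A K] [FaithfulSMul A K] (hA : Group.IsSolvable A)
    (hcop : (Nat.card A).Coprime (Nat.card K)) :
    ∃ x y : K, ∀ a : A, a • x = x → a • y = y → a = 1 := by
  obtain ⟨x, y, hxy⟩ := base2_group h hA hcop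
  exact ⟨x, y, fun a h1 h2 => eq_of_smul_eq_smul (α := K) fun w => by
    rw [hxy a h1 h2 w, one_smul]⟩

theorem s4621_of (h : Base2Mod.{v}) {F : Type*} [Field F] {V : Type v} [AddCommGroup V]
    [Module F V] [Finite V] {G : Type*} [Group G] [Finite G] [Group.IsSolvable G]
    (ρ : Representation F G V) (hfaith : Function.Injective ρ)
    (hcop : (Nat.card G).Coprime (Nat.card V)) :
    ∃ x y : V, ∀ g : G, ρ g x = x → ρ g y = y → g = 1 := by
  let : MulDistribMulAction G (Multiplicative V) :=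
    { smul := fun g w => Multiplicative.ofAdd (ρ g w.toAdd)
      one_smul := fun w => congrArg Multiplicative.ofAdd (by rw [map_one]; rfl)
      mul_smul := fun a b w => congrArg Multiplicative.ofAdd (by rw [map_mul]; rfl)
      smul_one := fun a => congrArg Multiplicative.ofAdd (map_zero (ρ a))
      smul_mul := fun a w w' => congrArg Multiplicative.ofAdd (map_add (ρ a) _ _) }
  obtain ⟨x, y, hxy⟩ := base2_group h (A := G) (K := Multiplicative V) inferInstance hcop
  refine ⟨x.toAdd, y.toAdd, fun g h1 h2 => hfaith ?_⟩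
  ext w
  rw [map_one]
  exact congrArg Multiplicative.toAdd (hxy g (congrArg Multiplicative.ofAdd h1)
    (congrArg Multiplicative.ofAdd h2) (Multiplicative.ofAdd w))

section
open Cfsg.Agent.H49 Cfsg.Agent.H20 Subgroup
variable {G : Type u} [Group G] [Finite G] {π : Set ℕ}

theorem piSep_interval (h : PiSep π G) {K L : Subgroup G} [K.Normal] [L.Normal] (hKL : K < L) :
    ∃ M : Subgroup G, M.Normal ∧ K < M ∧ M ≤ L ∧
      (IsPiNat π (K.relIndex M) ∨ IsPiNat πᶜ (K.relIndex M)) := by
  obtain ⟨N, ⟨hN, hNL⟩, hmax⟩ := (wellFounded_gt (α := Subgroup G)).has_min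
    {N | N.Normal ∧ N ⊓ L = K} ⟨K, inferInstance, inf_eq_left.2 hKL.le⟩
  obtain ⟨M, hM, hlt, hi⟩ := h N hN fun e => hKL.ne (by rw [← hNL, e, top_inf_eq])
  have hd : K.relIndex (M ⊓ L) ∣ N.relIndex M := by
    have e : K = N ⊓ (M ⊓ L) := by rw [← inf_assoc, inf_eq_left.2 hlt.le, hNL]
    rw [e, inf_relIndex_right]
    exact relIndex_dvd_of_norm le_normalizer_of_normal inf_le_left
  refine ⟨M ⊓ L, inferInstance, lt_of_le_of_ne (hNL ▸ inf_le_inf_right L hlt.le)
    fun e => hmax M ⟨hM, e.symm⟩ hlt, inf_le_right, hi.imp (·.of_dvd hd) (·.of_dvd hd)⟩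

/-- Hall–Higman 1.2.3 for `π`-separable groups -/
theorem piSep_cent_le (h : PiSep π G) (hO : piCoreOf π (⊤ : Subgroup G) = ⊥) :
    𝒞(piCoreOf πᶜ (⊤ : Subgroup G)) ≤ piCoreOf πᶜ ⊤ := by
  set K := piCoreOf πᶜ (⊤ : Subgroup G) with hKd
  have hK : IsPi πᶜ K := piCoreOf_pi _ _
  have : K.Normal := normal_iff_top_le_norm.2 (le_norm_piCoreOf _ _)
  by_contra hc
  obtain ⟨M, hM, hlt, hMC, hi⟩ := piSep_interval h (K := K ⊓ 𝒞(K)) (L := 𝒞(K))
    (lt_of_le_of_ne inf_le_right fun e => hc (e ▸ inf_le_left))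
  have hMn : ⊤ ≤ 𝒩(M) := le_normalizer_of_normal
  have hZ : IsPi πᶜ (K ⊓ 𝒞(K)) := hK.of_le inf_le_left
  rcases hi with hi | hi
  · have hH : IsPiHallOf πᶜ (K ⊓ 𝒞(K)) M := hall_mk hlt.le hZ hi.compl_compl
    have hn : M ≤ 𝒩(K ⊓ 𝒞(K)) := le_normalizer_of_normal
    obtain ⟨R, hR⟩ := exists_hall_compl hH hn
    rw [compl_compl] at hR
    have e := (hR.isProd hH).sup_eq
    have hRn : M ≤ 𝒩(R) := e ▸ sup_le le_normalizer
      (norm_of_cent (inf_le_left.trans (cent_symm (hR.le.trans hMC))))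
    have hR1 : R ≤ ⊥ := hO ▸ le_piCoreOf le_top (hMn.trans (hR.norm_of_normal hRn)) hR.pi
    rw [le_bot_iff.1 hR1, bot_sup_eq] at e
    exact hlt.ne e
  · exact hlt.not_ge (le_inf (le_piCoreOf le_top hMn (hZ.of_relIndex' hi)) hMC)

theorem s4373_of (h : Base2Mod.{u}) (π : Set ℕ)
    (hsolv : (∃ (n : ℕ) (N : Fin (n + 1) → Subgroup G), N 0 = ⊥ ∧ N (Fin.last n) = ⊤ ∧ Monotone N ∧ (∀ i, (N i).Normal) ∧
      ∀ i : Fin n, (∃ p ∈ π, p.Prime ∧ ∃ k : ℕ, (N i.castSucc).relIndex (N i.succ) = p ^ k) ∨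
        (∀ q : ℕ, q.Prime → q ∣ (N i.castSucc).relIndex (N i.succ) → q ∉ π))) (H : Subgroup G)
    (hH : IsPiHall π H) :
    ∃ x y : G, H ⊓ MulAut.conj x • H ⊓ MulAut.conj y • H = piCore π G := by
  obtain ⟨n, N, h0, h1, hmono, hn, hi⟩ := hsolv
  have hHpi : IsPi π H := hH.1
  have hsep : PiSep π G := piSep_of_chain h0 h1 hn fun i => (hi i).imp
    (fun ⟨p, hp, hpp, k, hk⟩ q hq hd => by
      rw [hk] at hd
      rwa [(Nat.prime_dvd_prime_iff_eq hq hpp).1 (hq.dvd_of_dvd_pow hd)]) id
  have hsolH : Group.IsSolvable H := by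
    have key : ∀ i, Group.IsSolvable ↥(H ⊓ N i) := by
      intro i
      refine Fin.induction (motive := fun i => Group.IsSolvable ↥(H ⊓ N i)) ?_ (fun i ih => ?_) i
      · rw [h0, inf_bot_eq]; infer_instance
      · have := hn i.castSucc
        let f := (QuotientGroup.mk' (N i.castSucc)).comp (H ⊓ N i.succ).subtype
        have hle : H ⊓ N i.castSucc ≤ H ⊓ N i.succ :=
          inf_le_inf_left H (hmono Fin.castSucc_lt_succ.le)
        have hr : Nat.card f.range = (N i.castSucc).relIndex (H ⊓ N i.succ) := by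
          rw [← index_ker, ← MonoidHom.comap_ker, QuotientGroup.ker_mk']; rfl
        have hd : Nat.card f.range ∣ (N i.castSucc).relIndex (N i.succ) :=
          hr ▸ relIndex_dvd_of_norm le_normalizer_of_normal inf_le_right
        have hs : Group.IsSolvable f.range := by
          rcases hi i with ⟨p, -, hpp, k, hk⟩ | hq
          · have := Fact.mk hpp
            obtain ⟨j, -, hj⟩ := (Nat.dvd_prime_pow hpp).1 (hk ▸ hd)
            have := (IsPGroup.of_card hj).isNilpotent
            infer_instance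
          · have h1 : Nat.card f.range = 1 := by
              refine Nat.eq_one_iff_not_exists_prime_dvd.2 fun q hqq hqd => hq q hqq (hqd.trans hd) ?_
              exact hH.1 q hqq (hqd.trans ((card_range_dvd f).trans (card_dvd_of_le inf_le_left)))
            have := (Nat.card_eq_one_iff_unique.1 h1).1
            infer_instance
        refine Group.isSolvable_of_ker_le_range (inclusion hle) f.rangeRestrict fun z hz => ?_
        rw [MonoidHom.ker_rangeRestrict] at hz
        exact ⟨⟨z, z.2.1, (QuotientGroup.eq_one_iff _).1 hz⟩, rfl⟩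
    have := key (Fin.last n)
    rwa [h1, inf_top_eq] at this
  rw [← piCoreOf_top]
  set O := piCoreOf π (⊤ : Subgroup G) with hO
  have hOn : O.Normal := normal_iff_top_le_norm.2 (le_norm_piCoreOf _ _)
  let f := QuotientGroup.mk' O
  set K := piCoreOf πᶜ (⊤ : Subgroup (G ⧸ O)) with hK
  have hKn : K.Normal := normal_iff_top_le_norm.2 (le_norm_piCoreOf _ _)
  have hKpi : IsPi πᶜ K := piCoreOf_pi _ _
  have hC : 𝒞(K) ≤ K := piSep_cent_le (hsep.quotient O) (piCoreOf_quotient π)
  have hdis : ∀ g ∈ H, f g ∈ K → f g = 1 := fun g hg hk =>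
    mem_bot.1 (((hHpi.map f).inf_eq_bot hKpi) ▸ (⟨⟨g, hg, rfl⟩, hk⟩ : f g ∈ H.map f ⊓ K))
  let : MulDistribMulAction H K :=
    MulDistribMulAction.compHom K ((MulAut.conjNormal (H := K)).comp (f.comp H.subtype))
  obtain ⟨x, y, hxy⟩ := base2_group h (A := H) (K := K) hsolH (IsPiNat.coprime hHpi hKpi)
  obtain ⟨x', hx'⟩ := QuotientGroup.mk'_surjective O x
  obtain ⟨y', hy'⟩ := QuotientGroup.mk'_surjective O y
  have hOH : ∀ z : G, O ≤ MulAut.conj z • H := fun z w hw => by
    rw [mem_pointwise_smul_iff_inv_smul_mem]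
    have hh : IsPiHallOf π H ⊤ := ⟨le_top, hH.1, by rw [relIndex_top_right]; exact hH.2⟩
    refine hh.le_of_norm (K := O) le_top (piCoreOf_pi _ _) (Or.inr le_normalizer_of_normal) ?_
    exact hOn.conj_mem' w hw z
  refine ⟨x', y', le_antisymm (fun g ⟨⟨hg, hgx⟩, hgy⟩ => ?_)
    (le_inf (le_inf (by simpa using hOH 1) (hOH _)) (hOH _))⟩
  have fix : ∀ (z : K) (z' : G), f z' = z → g ∈ MulAut.conj z' • H → (⟨g, hg⟩ : H) • z = z := by
    intro z z' e hz
    rw [mem_pointwise_smul_iff_inv_smul_mem] at hz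
    have h2 : f (z'⁻¹ * g * z' * g⁻¹) = 1 := hdis _ (H.mul_mem hz (H.inv_mem hg)) (by
      have := K.mul_mem (K.inv_mem z.2) (hKn.conj_mem _ z.2 (f g))
      simpa [e, mul_assoc] using this)
    refine Subtype.ext ?_
    change f g * z * (f g)⁻¹ = z
    simp only [map_mul, map_inv, e] at h2
    calc f g * z * (f g)⁻¹ = z * ((z : G ⧸ O)⁻¹ * f g * z * (f g)⁻¹) := by group
      _ = z := by rw [h2, mul_one]
  have h3 : f g ∈ 𝒞(K) := fun w hw => by
    have := congrArg Subtype.val (hxy ⟨g, hg⟩ (fix x x' hx' hgx) (fix y y' hy' hgy) ⟨w, hw⟩)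
    change f g * w * (f g)⁻¹ = w at this
    rw [mul_inv_eq_iff_eq_mul] at this
    exact this.symm
  exact (QuotientGroup.eq_one_iff _).1 (hdis g hg (hC h3))

end

end Cfsg.Agent.H86
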