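import Cfsg.Agent.H30.Det
import Cfsg.Agent.H6.Ito
import Cfsg.Agent.H5.ClassFn
import Cfsg.Agent.H88.Deg2
import Cfsg.Agent.H86.MonoLin
import Cfsg.Prelude.Def_DegreeGraph

set_option autoImplicit false
open Cfsg

namespace Cfsg.Agent.H86
open H5 H6 H30

variable {G : Type*} [Group G]

theorem detChar_character [Finite G] {V : Type*} [AddCommGroup V] [Module ℂ V]
    [FiniteDimensional ℂ V] (ρ : Representation ℂ G V) :
    detChar ρ.character = fun g => LinearMap.det (ρ g) := by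
  obtain ⟨n, σ, h1, h2⟩ := exists_rep_detChar (H5.isCharacter_character ρ)
  obtain ⟨φ⟩ := H5.nonempty_equiv_of_character_eq ρ σ h1.symm
  rw [h2]
  exact funext (det_eq_of_equiv φ)

theorem detChar_nsmul [Finite G] {χ : G → ℂ} (h : IsCharacter G χ) (n : ℕ) :
    detChar (n • χ) = detChar χ ^ n := by
  induction n with
  | zero =>
    have h1 := isCharacter_character (Representation.trivial ℂ G (Fin 0 → ℂ))
    rw [zero_smul, ← eq_zero_of_degree_eq_zero h1 (by simp), detChar_character]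
    ext; simp
  | succ n ih =>
    obtain ⟨_, σ, h1⟩ := isCharacter_nsmul h n
    obtain ⟨_, ρ, rfl⟩ := h
    rw [succ_nsmul, pow_succ, ← ih, ← h1, ← character_prod, detChar_character, detChar_character,
      detChar_character]
    exact funext fun g => LinearMap.det_prodMap _ _

theorem detChar_hom_mul' [Finite G] (μ : G →* ℂˣ) {χ : G → ℂ} (h : IsCharacter G χ) {d : ℕ}
    (hd : χ 1 = d) : detChar (homCoe G μ * χ) = homCoe G μ ^ d * detChar χ := by
  obtain ⟨n, ρ, rfl⟩ := h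
  have hn : Module.finrank ℂ (Fin n → ℂ) = d := by
    rw [ρ.char_one] at hd
    exact_mod_cast hd
  refine (congrArg detChar (character_twistRep μ ρ)).symm.trans ?_
  rw [detChar_character, detChar_character, ← hn]
  exact funext fun g => LinearMap.det_smul _ _

theorem detChar_res [Finite G] {χ : G → ℂ} (h : IsCharacter G χ) {N : Subgroup G}
    (hN : N ≤ commutator G) : detChar (fun x : N => χ x) = 1 := by
  obtain ⟨n, ρ, rfl⟩ := h
  refine (detChar_character (ρ.comp N.subtype)).trans (funext fun x => ?_)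
  exact congrArg Units.val (Abelianization.commutator_subset_ker (detHom ρ) (hN x.2))

theorem pow_eq_one_of_hom_mul [Finite G] {μ : G →* ℂˣ} {χ : G → ℂ} (h : IsCharacter G χ) {d : ℕ}
    (hd : χ 1 = d) (h1 : homCoe G μ * χ = χ) : μ ^ d = 1 := by
  have := detChar_hom_mul' μ h hd
  obtain ⟨δ, hδ⟩ := exists_hom_detChar χ
  rw [h1, show detChar χ = homCoe G δ from hδ, ← map_pow, ← map_mul] at this
  exact right_eq_mul.1 (homCoe_injective this)

theorem exists_mul_of_coprime_index [Finite G] {A B : Subgroup G} (h : A.index.Coprime B.index)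
    (g : G) : ∃ a ∈ A, ∃ b ∈ B, a * b = g := by
  have h1 : B.index ∣ B.relIndex A := h.symm.dvd_of_dvd_mul_right (by
    rw [← Subgroup.inf_relIndex_left, Subgroup.relIndex_mul_index inf_le_left]
    exact Subgroup.index_dvd_of_le inf_le_right)
  obtain ⟨q, hq⟩ := ((Subgroup.quotientSubgroupOfEmbeddingOfLE B (le_top : A ≤ ⊤)).injective
    |>.bijective_of_nat_card_le (Nat.le_of_dvd (Nat.pos_of_ne_zero
      Subgroup.index_ne_zero_of_finite) (B.relIndex_top_right ▸ h1 : B.relIndex ⊤ ∣ _))).2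
    (QuotientGroup.mk ⟨g, trivial⟩)
  obtain ⟨a, rfl⟩ := QuotientGroup.mk_surjective q
  exact ⟨a, a.2, _, (QuotientGroup.eq.1 hq :), mul_inv_cancel_left _ _⟩

variable (N : Subgroup G) [N.Normal]

/-- conjugate of a linear character -/
def cj (g : G) (ν : N →* ℂˣ) : N →* ℂˣ := ν.comp (MulAut.conjNormal g).toMonoidHom

theorem coe_cj (g : G) (ν : N →* ℂˣ) : homCoe N (cj N g ν) = conjChar N g (homCoe N ν) := rfl

theorem conjChar_mul' (g : G) (θ φ : N → ℂ) :
    conjChar N g (θ * φ) = conjChar N g θ * conjChar N g φ := rfl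

theorem dvd_of_orbit_inv [Finite G] {ε : N →* ℂˣ} {φ : N → ℂ} (hφ : IsCharacter N φ) {d : ℕ}
    (hd : φ 1 = d) (h : ∀ x, ∃ y, conjChar N y φ = homCoe N ε * conjChar N x φ) {q : ℕ}
    (hq : q.Prime) (hε : orderOf ε = q) : q ∣ (inertia N φ).index * d := by
  classical
  have := Fact.mk hq
  have := Fintype.ofFinite (G ⧸ inertia N φ)
  let F : G ⧸ inertia N φ → N → ℂ := Quotient.lift (fun x => conjChar N x⁻¹ φ) fun a b hab =>
    (conjChar_eq_iff N).2 (by simpa using QuotientGroup.leftRel_apply.1 hab)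
  have hF : Function.Injective F := by
    rintro ⟨a⟩ ⟨b⟩ hab
    exact QuotientGroup.eq.2 (by simpa using (conjChar_eq_iff N).1 hab)
  have h1 : ∀ x, ∃ y, F y = homCoe N ε * F x := by
    rintro ⟨x⟩
    obtain ⟨y, hy⟩ := h x⁻¹
    exact ⟨(y⁻¹ : G), (congrArg (conjChar N · φ) (inv_inv y)).trans hy⟩
  choose σ hσ using h1
  have h2 : ∀ j x, F (σ^[j] x) = homCoe N ε ^ j * F x := fun j => by
    induction j with
    | zero => simp
    | succ j ih => intro x; rw [Function.iterate_succ_apply', hσ, ih, pow_succ', mul_assoc]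
  have h3 := Equiv.Perm.card_fixedPoints_modEq (f := σ) (p := q) (n := 1) (funext fun x => hF (by
    rw [pow_one]
    refine (h2 q x).trans ?_
    rw [← map_pow, ← hε, pow_orderOf_eq_one, map_one, one_mul]; rfl))
  by_cases h4 : Nonempty (Function.fixedPoints σ)
  · obtain ⟨⟨x⟩, hx⟩ := h4
    refine (hε ▸ orderOf_dvd_of_pow_eq_one (pow_eq_one_of_hom_mul
      (isCharacter_conjChar N hφ x⁻¹) ((conjChar_apply_one N _ _).trans hd) ?_)).mul_left _
    exact (hσ _).symm.trans (congrArg F hx)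
  · rw [Fintype.card_eq_zero_iff.2 (not_nonempty_iff.1 h4), ← Nat.card_eq_fintype_card] at h3
    exact ((Nat.modEq_zero_iff_dvd).1 h3).mul_right _

theorem dl [Finite G] {ν : N →* ℂˣ} {φ : N → ℂ} (hφ : IsCharacter N φ) {d : ℕ} (hd : φ 1 = d)
    (h1 : (inertia N φ).index.Coprime (inertia N (homCoe N ν)).index)
    (h2 : (inertia N (homCoe N ν)).index.Coprime (inertia N (homCoe N ν * φ)).index)
    (h3 : (inertia N (homCoe N ν)).index ≠ 1) : ∃ q, q.Prime ∧ q ∣ orderOf ν ∧
      q ∣ (inertia N φ).index * d ∧ ∀ e, φ ^ e = 1 → q ∣ e := by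
  have s1 : ∀ g, ∃ h, conjChar N h φ = homCoe N (ν * (cj N g ν)⁻¹) * φ := fun g => by
    obtain ⟨a, ha, s, hs, rfl⟩ := exists_mul_of_coprime_index h2 g
    refine ⟨s, ?_⟩
    rw [mem_inertia] at ha hs
    have : cj N (a * s) ν = cj N s ν := homCoe_injective (by rw [coe_cj, conjChar_mul, ha, coe_cj])
    rw [this, mul_comm ν, map_mul, mul_assoc, ← hs, conjChar_mul', ← coe_cj, ← mul_assoc, ← map_mul,
      show (cj N s ν)⁻¹ * cj N s ν = 1 from inv_mul_cancel (G := N →* ℂˣ) _, map_one, one_mul]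
  have s2 : ∀ g x, ∃ y, conjChar N y φ = homCoe N (ν * (cj N g ν)⁻¹) * conjChar N x φ := by
    intro g x
    obtain ⟨b, hb, a, ha, rfl⟩ := exists_mul_of_coprime_index h1 x
    obtain ⟨h, hh⟩ := s1 (g * a⁻¹)
    rw [mem_inertia] at ha hb
    refine ⟨h * a, ?_⟩
    rw [conjChar_mul, conjChar_mul, hb, hh, conjChar_mul', ← coe_cj]
    congr 2
    refine (show cj N a _ = cj N a ν * (cj N a (cj N (g * a⁻¹) ν))⁻¹ from rfl).trans ?_
    rw [show cj N a ν = ν from homCoe_injective ha, show cj N a (cj N (g * a⁻¹) ν) = cj N g ν from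
      homCoe_injective (by rw [coe_cj, coe_cj, ← conjChar_mul, inv_mul_cancel_right, coe_cj])]
  obtain ⟨g, hg⟩ : ∃ g, g ∉ inertia N (homCoe N ν) := by
    by_contra! h
    exact h3 (Subgroup.index_eq_one.2 (eq_top_iff.2 fun g _ => h g))
  set ε := ν * (cj N g ν)⁻¹ with hε
  have hε1 : orderOf ε ≠ 1 := fun h => hg (congrArg (homCoe N)
    (mul_inv_eq_one.1 (orderOf_eq_one_iff.1 h) : ν = cj N g ν).symm)
  have s3 : ∀ j x, ∃ y, conjChar N y φ = homCoe N (ε ^ j) * conjChar N x φ := fun j => by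
    induction j with
    | zero => exact fun x => ⟨x, by simp⟩
    | succ j ih =>
      intro x
      obtain ⟨y, hy⟩ := ih x
      obtain ⟨z, hz⟩ := s2 g y
      exact ⟨z, by rw [hz, hy, pow_succ', (homCoe N).map_mul ε, mul_assoc]⟩
  obtain ⟨q, hq, hqε⟩ := Nat.exists_prime_and_dvd hε1
  refine ⟨q, hq, hqε.trans (orderOf_dvd_of_pow_eq_one ?_), dvd_of_orbit_inv N hφ hd (s3 _) hq
    (orderOf_pow_orderOf_div (orderOf_hom_pos ε).ne' hqε), fun e he =>
      hqε.trans (orderOf_dvd_of_pow_eq_one (homCoe_injective ?_))⟩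
  · refine MonoidHom.ext fun x => ?_
    have := fun y => DFunLike.congr_fun (pow_orderOf_eq_one ν) y
    change (ν x * (ν _)⁻¹) ^ _ = 1
    rw [mul_pow, inv_pow]
    exact mul_inv_eq_one.2 ((this _).trans (this (MulAut.conjNormal g x)).symm)
  · obtain ⟨h, hh⟩ := s1 g
    have := congrArg (· ^ e) hh
    simp only [mul_pow, he, mul_one] at this
    rw [map_pow, ← this]
    exact (show _ = conjChar N h (φ ^ e) from rfl).trans (by rw [he]; rfl)

variable [Fintype G] [Fintype N]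

/-- `a` is the degree of an irreducible character of `G` over `θ` -/
def Ov (a : ℕ) (θ : N → ℂ) : Prop := IsIrrCharacter N θ ∧
  ∃ χ : G → ℂ, IsIrrCharacter G χ ∧ χ 1 = a ∧ classInner (fun n : N => χ n) θ ≠ 0

variable {N} {a c d l : ℕ} {θ φ : N → ℂ}

omit [N.Normal] in
theorem exists_ov (h : IsIrrCharacter N θ) : ∃ a, Ov N a θ := by
  obtain ⟨χ, h1, h2⟩ := H88.exists_irr_over N h
  obtain ⟨a, -, ha⟩ := exists_pos_nat_degree h1
  exact ⟨a, h, χ, h1, ha, h2⟩

omit [N.Normal] [Fintype G] in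
theorem ov_one : Ov N 1 1 := ⟨isIrrCharacter_one, fun _ => 1, isIrrCharacter_one, by simp,
  (classInner_irr_self (G := N) isIrrCharacter_one).trans_ne one_ne_zero⟩

theorem Ov.dvd (h : Ov N a θ) (hd : θ 1 = d) : (inertia N θ).index * d ∣ a := by
  obtain ⟨h1, χ, h2, h3, h4⟩ := h
  obtain ⟨e, he⟩ := exists_nat_classInner (isCharacter_restrict (isCharacter_of_isIrr h2) N)
    (isCharacter_of_isIrr h1)
  have := clifford_degree N h2 h1 h4
  rw [h3, he, hd] at this
  exact ⟨e, by rw [mul_comm _ e, ← mul_assoc]; exact_mod_cast this⟩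

theorem Ov.dvd' (h : Ov N a θ) : (inertia N θ).index ∣ a := by
  obtain ⟨d, -, hd⟩ := exists_pos_nat_degree h.1
  exact (dvd_mul_right _ _).trans (h.dvd hd)

omit [N.Normal] in
theorem Ov.mem (h : Ov N a θ) (h1 : θ ≠ 1) : a ∈ relCharDegrees N := by
  obtain ⟨h0, χ, h2, h3, h4⟩ := h
  refine ⟨⟨χ, h2⟩, ?_, by simp [charDegree, h3]⟩
  by_contra! h
  exact h1 (eq_one_of_forall_eq_degree h0 fun g => apply_eq_degree_of_constituent
    (isCharacter_restrict (isCharacter_of_isIrr h2) N) h0 h4 (h g g.2))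

omit [N.Normal] [Fintype G] in
theorem exists_ov_of_mem (h : a ∈ relCharDegrees N) : ∃ θ, θ ≠ 1 ∧ Ov N a θ := by
  obtain ⟨χ, ⟨x, hx, h1⟩, rfl⟩ := h
  by_contra! h
  obtain ⟨d, -, hd⟩ := exists_pos_nat_degree χ.2
  refine h1 (apply_eq_degree_of_forall_constituent (isCharacter_restrict
    (isCharacter_of_isIrr χ.2) N) (g := ⟨x, hx⟩) fun ψ h2 h3 => ?_)
  by_contra h4
  exact h ψ (by rintro rfl; exact h4 rfl) ⟨h2, χ, χ.2, by simp [charDegree, hd], h3⟩

theorem Ov.pow_eq_one (hN : N ≤ commutator G) {μ : N →* ℂˣ}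
    (hμ : (inertia N (homCoe N μ)).index = 1) (h : Ov N a φ) (h' : Ov N c (homCoe N μ * φ)) :
    μ ^ (a * c) = 1 := by
  obtain ⟨h1, χ, h2, h3, h4⟩ := h
  obtain ⟨h1', χ', h2', h3', h4'⟩ := h'
  have e1 := clifford_sum N h2 h1 h4
  have e2 := clifford_sum N h2' h1' h4'
  have e3 : ∑ x : G, conjChar N x (homCoe N μ * φ) = homCoe N μ * ∑ x : G, conjChar N x φ := by
    rw [Finset.mul_sum]
    exact Finset.sum_congr rfl fun x _ => by
      rw [conjChar_mul', (mem_inertia N).1 ((Subgroup.index_eq_one.1 hμ).ge trivial)]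
  have hχ := isCharacter_restrict (isCharacter_of_isIrr h2) N
  have e4 : a • (fun n : N => χ' n) = c • (homCoe N μ * fun n : N => χ n) := by
    have k1 := fun x => congrFun e1 x
    have k2 := fun x => congrFun (e2.trans (congrArg _ e3)) x
    ext x
    have k3 := k1 1
    have k4 := k2 1
    have k5 := k1 x
    have k6 := k2 x
    simp only [Pi.smul_apply, smul_eq_mul, Pi.mul_apply, OneMemClass.coe_one, h3, h3',
      nsmul_eq_mul, show homCoe N μ 1 = 1 by simp [homCoe], one_mul] at k3 k4 k5 k6 ⊢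
    refine mul_left_cancel₀ (mul_ne_zero (card_ne_zero_complex (inertia N φ))
      (card_ne_zero_complex (inertia N (homCoe N μ * φ)))) ?_
    generalize (Nat.card (inertia N φ) : ℂ) = A at *
    generalize (Nat.card (inertia N (homCoe N μ * φ)) : ℂ) = B at *
    linear_combination (B * χ' x) * k3 + (classInner (fun n : N => χ n) φ * (∑ x : G,
      conjChar N x φ) 1) * k6 - (A * homCoe N μ x * χ x) * k4 - (classInner (fun n : N => χ' n)
        (homCoe N μ * φ) * (∑ x : G, conjChar N x φ) 1 * homCoe N μ x) * k5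
  have e5 := congrArg detChar e4
  rw [detChar_nsmul (isCharacter_restrict (isCharacter_of_isIrr h2') N), detChar_nsmul
    (χ := homCoe N μ * _) (isCharacter_mul (isCharacter_hom μ) hχ), detChar_hom_mul' μ hχ h3,
    detChar_res (isCharacter_of_isIrr h2') hN, detChar_res (isCharacter_of_isIrr h2) hN, one_pow,
    mul_one, ← pow_mul, ← map_pow] at e5
  exact homCoe_injective e5.symm

theorem Ov.pow_eq_one' (hN : N ≤ commutator G) {μ : N →* ℂˣ}
    (hμ : (inertia N (homCoe N μ)).index = 1) (h' : Ov N c (homCoe N μ)) : μ ^ c = 1 := by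
  simpa using ov_one.pow_eq_one hN hμ (by rwa [mul_one])

theorem Ov.not_coprime (hN : N ≤ commutator G) {ν : N →* ℂˣ} (h : Ov N a θ) (h1 : θ ≠ 1)
    (h2 : θ 1 = 1) (h3 : (inertia N θ).index = 1) (hl : Ov N l (homCoe N ν))
    (hc : Ov N c (homCoe N ν * θ)) : ¬ a.Coprime (l * c) := fun h4 => by
  obtain ⟨μ, rfl⟩ := exists_hom_of_degree_one (isCharacter_of_isIrr h.1) h2
  exact h1 (congrArg (homCoe N) (orderOf_eq_one_iff.1 (Nat.eq_one_of_dvd_coprimes h4
    (orderOf_dvd_of_pow_eq_one (h.pow_eq_one' hN h3))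
    (orderOf_dvd_of_pow_eq_one (hl.pow_eq_one hN h3 (mul_comm (homCoe N ν) _ ▸ hc))))))

omit [Fintype G] [Fintype N] in
theorem ne_one_of_index (h : (inertia N θ).index ≠ 1) : θ ≠ 1 := by
  rintro rfl
  exact h (Subgroup.index_eq_one.2 (eq_top_iff.2 fun _ _ => rfl))

variable (N) in
/-- distance at most two in the relative common-divisor graph -/
def Near (a b : ℕ) : Prop := ∃ c ∈ relCharDegrees N, ¬ a.Coprime c ∧ ¬ c.Coprime b

omit [Fintype N] in
theorem exists_lam {p : ℕ} (hp : p.Prime) (hd : p ∣ (commutator N).index) :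
    ∃ lam : N →* ℂˣ, orderOf lam = p ∧ ¬ p ∣ (inertia N (homCoe N lam)).index := by
  have := Fact.mk hp
  rw [← card_monoidHom_eq_index_commutator] at hd
  have : Finite (N →* ℂˣ) := Nat.finite_of_card_ne_zero (by
    rw [card_monoidHom_eq_index_commutator]; exact Subgroup.index_ne_zero_of_finite)
  obtain ⟨ν, hν⟩ := exists_prime_orderOf_dvd_card' p hd
  obtain ⟨P⟩ : Nonempty (Sylow p G) := inferInstance
  let K : Subgroup (N →* ℂˣ) := MonoidHom.ker (G := N →* ℂˣ) (M := N →* ℂˣ) (powMonoidHom p)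
  let : MulAction P K :=
    { smul := fun g ν => ⟨cj N g⁻¹ ν, (show _ = cj N g⁻¹ (ν ^ p) from rfl).trans
        (congrArg _ ν.2)⟩
      one_smul := fun ν => Subtype.ext (homCoe_injective (by
        change conjChar N (1 : G)⁻¹ (homCoe N ν) = _; rw [inv_one, conjChar_one]))
      mul_smul := fun g h ν => Subtype.ext (homCoe_injective (by
        change conjChar N (g * h : G)⁻¹ (homCoe N ν) = _; rw [mul_inv_rev, conjChar_mul]; rfl)) }
  obtain ⟨b, hb, h1⟩ := P.2.exists_fixed_point_of_prime_dvd_card_of_fixed_point K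
    (hν ▸ K.orderOf_dvd_natCard (hν ▸ pow_orderOf_eq_one ν :)) (a := 1) fun _ => rfl
  refine ⟨b, orderOf_eq_prime b.2 fun h => h1 (Subtype.ext h.symm), fun h =>
    P.not_dvd_index (h.trans (Subgroup.index_dvd_of_le fun g hg => ?_))⟩
  exact inv_mem_iff.1 (congrArg (fun x : K => homCoe N x) (hb ⟨g, hg⟩))

theorem exists_near (hN : N ≤ commutator G) {p : ℕ} (hp : p.Prime) (hd : p ∣ (commutator N).index) :
    ∃ lam : N →* ℂˣ, orderOf lam = p ∧ ∀ l, Ov N l (homCoe N lam) →
      ∀ a ∈ relCharDegrees N, ¬ p ∣ a → Near N a l := by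
  obtain ⟨lam, ho, ht⟩ := exists_lam hp hd
  refine ⟨lam, ho, fun l hl a ha hpa => ?_⟩
  obtain ⟨θ, hθ1, hθ⟩ := exists_ov_of_mem ha
  obtain ⟨d, -, hd⟩ := exists_pos_nat_degree hθ.1
  obtain ⟨c, hc⟩ := exists_ov (θ := homCoe N lam * θ) (isIrr_hom_mul lam hθ.1)
  have hd' : (homCoe N lam * θ) 1 = d := by simp [homCoe, hd]
  have hlm := hl.mem fun h => hp.ne_one (by rw [← ho, show lam = 1 from homCoe_injective h, orderOf_one])
  have nc : ∀ {q x y : ℕ}, q ≠ 1 → q ∣ x → q ∣ y → ¬ x.Coprime y := fun h1 h2 h3 h =>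
    h1 (Nat.eq_one_of_dvd_coprimes h h2 h3)
  by_cases h1 : (inertia N (homCoe N lam)).index = 1
  · have hpl : p ∣ l := ho.symm.dvd.trans (orderOf_dvd_of_pow_eq_one (hl.pow_eq_one' hN h1))
    have key : ∀ c, Ov N c (homCoe N lam * θ) → p ∣ c := fun c hc => (hp.dvd_mul.1
      (ho.symm.dvd.trans (orderOf_dvd_of_pow_eq_one (hθ.pow_eq_one hN h1 hc)))).resolve_left hpa
    by_cases h2 : a.Coprime c
    · have h3 : inertia N (homCoe N lam * θ) ≤ inertia N θ := fun g hg => by
        rw [mem_inertia, conjChar_mul', (mem_inertia N).1 ((Subgroup.index_eq_one.1 h1).ge trivial)]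
          at hg
        exact funext fun x => mul_left_cancel₀ (lam x).ne_zero (congrFun hg x)
      have h4 := Nat.eq_one_of_dvd_coprimes h2 (hθ.dvd hd)
        ((mul_dvd_mul_right (Subgroup.index_dvd_of_le h3) d).trans (hc.dvd hd'))
      rw [mul_eq_one] at h4
      exact ⟨l, hlm, fun h => hθ.not_coprime hN hθ1 (by rw [hd, h4.2, Nat.cast_one]) h4.1 hl hc
        (h.mul_right h2), nc hp.ne_one hpl hpl⟩
    · exact ⟨c, hc.mem fun h => hp.not_dvd_one (key 1 (by rw [h]; exact ov_one)), h2,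
        nc hp.ne_one (key c hc) hpl⟩
  by_cases h2 : a.Coprime l
  swap
  · exact ⟨l, hlm, h2, nc h1 hl.dvd' hl.dvd'⟩
  have h3 := (h2.coprime_dvd_left hθ.dvd').coprime_dvd_right hl.dvd'
  have h4 : ¬ (inertia N (homCoe N lam)).index.Coprime (inertia N (homCoe N lam * θ)).index := by
    intro h
    obtain ⟨q, hq, h5, h6, -⟩ := dl N (isCharacter_of_isIrr hθ.1) hd h3 h h1
    rw [ho, Nat.prime_dvd_prime_iff_eq hq hp] at h5
    exact hpa (h5 ▸ h6.trans (hθ.dvd hd))
  refine ⟨c, hc.mem (ne_one_of_index fun h => h4 (by rw [h]; exact Nat.coprime_one_right _)), fun h => ?_,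
    fun h => h4 ((h.coprime_dvd_left hc.dvd').coprime_dvd_right hl.dvd').symm⟩
  obtain rfl := Nat.eq_one_of_dvd_coprimes h ((dvd_mul_left _ _).trans (hθ.dvd hd))
    ((dvd_mul_left _ _).trans (hc.dvd hd'))
  rw [Nat.cast_one] at hd
  by_cases h5 : (inertia N θ).index = 1
  · exact hθ.not_coprime hN hθ1 hd h5 hl hc (h2.mul_right h)
  obtain ⟨μ, rfl⟩ : ∃ μ, θ = homCoe N μ := exists_hom_of_degree_one (isCharacter_of_isIrr hθ.1) hd
  rw [mul_comm] at hc
  obtain ⟨q, hq, -, h6, h7⟩ := dl N (ν := μ) (φ := homCoe N lam) (isCharacter_hom lam) (d := 1)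
    (by simp [homCoe]) h3.symm ((h.coprime_dvd_left hθ.dvd').coprime_dvd_right hc.dvd') h5
  rw [(Nat.prime_dvd_prime_iff_eq hq hp).1 (h7 p (((homCoe N).map_pow lam p).symm.trans (by
    rw [← ho, pow_orderOf_eq_one, map_one]))), mul_one] at h6
  exact ht h6

omit [N.Normal] [Fintype G] [Fintype N] in
theorem reach_of_not_coprime {b : ℕ} (ha : a ∈ relCharDegrees N) (hb : b ∈ relCharDegrees N)
    (h : ¬ a.Coprime b) :
    (commonDivisorGraph.induce (relCharDegrees N)).Reachable ⟨a, ha⟩ ⟨b, hb⟩ := by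
  by_cases h1 : a = b
  · subst h1; rfl
  · refine SimpleGraph.Adj.reachable ⟨h1, ?_⟩
    have : a.gcd b ≠ 0 := fun h => h1 (by rw [Nat.gcd_eq_zero_iff] at h; rw [h.1, h.2])
    change a.gcd b ≠ 1 at h
    change 1 < a.gcd b
    omega

omit [N.Normal] [Fintype G] [Fintype N] in
theorem Near.reach {b : ℕ} {M : Subgroup G} (hM : M ≤ N) (ha : a ∈ relCharDegrees N)
    (hb : b ∈ relCharDegrees N) (h : Near M a b) :
    (commonDivisorGraph.induce (relCharDegrees N)).Reachable ⟨a, ha⟩ ⟨b, hb⟩ := by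
  obtain ⟨c, ⟨χ, ⟨x, hx, h0⟩, hc⟩, h1, h2⟩ := h
  exact (reach_of_not_coprime ha ⟨χ, ⟨x, hM hx, h0⟩, hc⟩ h1).trans (reach_of_not_coprime _ hb h2)

omit [N.Normal] [Fintype G] [Fintype N] in
theorem relIndex_comm_eq : ⁅N, N⁆.relIndex N = (commutator N).index := by
  rw [← N.map_subtype_commutator, Subgroup.relIndex, Subgroup.subgroupOf,
    Subgroup.comap_map_eq_self_of_injective N.subtype_injective]

theorem rel_split (hN : N ≤ commutator G) {b : ℕ} (ha : a ∈ relCharDegrees N)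
    (hb : b ∈ relCharDegrees N)
    (h : ¬ (commonDivisorGraph.induce (relCharDegrees N)).Reachable ⟨a, ha⟩ ⟨b, hb⟩) :
    (a.Coprime (commutator N).index ∧ ∀ r : ℕ, r.Prime → r ∣ (commutator N).index → r ∣ b) ∨
    (b.Coprime (commutator N).index ∧ ∀ r : ℕ, r.Prime → r ∣ (commutator N).index → r ∣ a) := by
  have h0 : a.Coprime b := by_contra fun h1 => h (reach_of_not_coprime ha hb h1)
  have nc : ∀ {q x y : ℕ}, q ≠ 1 → q ∣ x → q ∣ y → ¬ x.Coprime y := fun h1 h2 h3 h =>
    h1 (Nat.eq_one_of_dvd_coprimes h h2 h3)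
  have ne : ∀ {p : ℕ} {lam : N →* ℂˣ}, p ≠ 1 → orderOf lam = p → homCoe N lam ≠ 1 :=
    fun hp ho h => hp (by rw [← ho, orderOf_eq_one_iff]; exact homCoe_injective h)
  have h1 : ∀ p : ℕ, p.Prime → p ∣ (commutator N).index → p ∣ a ∨ p ∣ b := fun p hp hd => by
    by_contra! h1
    obtain ⟨lam, ho, h2⟩ := exists_near hN hp hd
    obtain ⟨l, hl⟩ := exists_ov (isIrr_hom lam)
    have := hl.mem (ne hp.ne_one ho)
    exact h (((h2 l hl a ha h1.1).reach le_rfl ha this).trans
      ((h2 l hl b hb h1.2).reach le_rfl hb this).symm)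
  have h2 : ∀ p q : ℕ, p.Prime → q.Prime → p ∣ (commutator N).index → q ∣ (commutator N).index →
      p ∣ a → ¬ q ∣ b := fun p q hp hq hpd hqd hpa hqb => by
    have hpq : p.Coprime q := (h0.coprime_dvd_left hpa).coprime_dvd_right hqb
    obtain ⟨lam, ho, h2⟩ := exists_near hN hp hpd
    obtain ⟨mu, ho', h2'⟩ := exists_near hN hq hqd
    obtain ⟨l, hl⟩ := exists_ov (isIrr_hom lam)
    obtain ⟨l', hl'⟩ := exists_ov (isIrr_hom mu)
    obtain ⟨c, hc⟩ := exists_ov (isIrr_hom (lam * mu))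
    have key : ∀ {p q l l' : ℕ} {lam mu : N →* ℂˣ}, p.Prime → p.Coprime q → orderOf lam = p →
        orderOf mu = q → Ov N l (homCoe N lam) → Ov N l' (homCoe N mu) →
        Ov N c (homCoe N (lam * mu)) → ¬ l.Coprime (l' * c) := by
      intro p q l l' lam mu hp hpq ho ho' hl hl' hc
      by_cases h1 : (inertia N (homCoe N lam)).index = 1
      · exact nc hp.ne_one (ho.symm.dvd.trans (orderOf_dvd_of_pow_eq_one (hl.pow_eq_one' hN h1)))
          (ho.symm.dvd.trans (orderOf_dvd_of_pow_eq_one (hl'.pow_eq_one hN h1 hc)))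
      · refine nc h1 hl.dvd' (((Subgroup.index_dvd_of_le fun g hg => ?_).trans hc.dvd').mul_left _)
        obtain ⟨k, hk⟩ := exists_pow_eq_self_of_coprime (x := lam) (ho ▸ hpq.symm)
        have h3 : homCoe N (lam * mu) ^ (q * k) = homCoe N lam := by
          rw [map_mul, mul_pow, ← map_pow, ← map_pow, pow_mul, hk, pow_mul, ← ho',
            pow_orderOf_eq_one, one_pow, map_one, mul_one]
        rw [← h3]
        exact congrArg (· ^ (q * k)) hg
    have m1 := hl.mem (ne hp.ne_one ho)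
    have m2 := hl'.mem (ne hq.ne_one ho')
    have m3 := hc.mem (ne (p := p * q) (fun h => hp.ne_one (mul_eq_one.1 h).1) (by
      rw [← ho, ← ho']
      exact (Commute.all lam mu).orderOf_mul_eq_mul_orderOf_of_coprime (by rwa [ho, ho'])))
    refine h (((h2' l' hl' a ha fun h => nc hq.ne_one h hqb h0).reach le_rfl ha m2).trans
      (.trans ?_ ((h2 l hl b hb fun h => nc hp.ne_one hpa h h0).reach le_rfl hb m1).symm))
    by_cases h3 : l'.Coprime l
    · exact (reach_of_not_coprime m2 m3 fun h => key hq hpq.symm ho' ho hl' hl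
        (by rwa [mul_comm mu]) (h3.mul_right h)).trans (reach_of_not_coprime m1 m3 fun h =>
          key hp hpq ho ho' hl hl' hc (h3.symm.mul_right h)).symm
    · exact reach_of_not_coprime m2 m1 h3
  by_cases h3 : a.Coprime (commutator N).index
  · exact Or.inl ⟨h3, fun r hr hd => (h1 r hr hd).resolve_left fun h => nc hr.ne_one h hd h3⟩
  · obtain ⟨p, hp, hpa, hpd⟩ := Nat.Prime.not_coprime_iff_dvd.1 h3
    exact Or.inr ⟨Nat.coprime_of_dvd fun q hq h hd => h2 p q hp hq hpd hd hpa h,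
      fun r hr hd => (h1 r hr hd).resolve_right (h2 p r hp hr hpd hd hpa)⟩

theorem Ov.near_of_linear (hN : N ≤ commutator G) {b : ℕ} (h : Ov N a θ) (h' : Ov N b φ)
    (h1 : θ ≠ 1) (h1' : φ ≠ 1) (h2 : θ 1 = 1) (ha : a.Coprime (commutator N).index)
    (hb : b.Coprime (commutator N).index) (hab : a.Coprime b) : Near N a b := by
  have key : ∀ {a b : ℕ} {θ φ : N → ℂ}, Ov N a θ → Ov N b φ → θ ≠ 1 → θ 1 = 1 →
      a.Coprime (commutator N).index → b.Coprime (commutator N).index → a.Coprime b →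
      ¬ (inertia N θ).index.Coprime (inertia N (θ * φ)).index := by
    intro a b θ φ h h' h1 h2 ha hb hab h3
    obtain ⟨ν, rfl⟩ : ∃ μ, θ = homCoe N μ := exists_hom_of_degree_one (isCharacter_of_isIrr h.1) h2
    have h4 : orderOf ν ∣ (commutator N).index := orderOf_dvd_of_pow_eq_one (hom_pow_index _ ν
      fun n => Abelianization.commutator_subset_ker ν n.2)
    obtain ⟨d, -, hd⟩ := exists_pos_nat_degree h'.1
    obtain ⟨q, hq, h5, h6, -⟩ := dl N (isCharacter_of_isIrr h'.1) hd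
      ((hab.coprime_dvd_left h.dvd').coprime_dvd_right h'.dvd').symm h3 fun h5 =>
        h1 (congrArg (homCoe N) (orderOf_eq_one_iff.1 (Nat.eq_one_of_dvd_coprimes ha
          (orderOf_dvd_of_pow_eq_one (h.pow_eq_one' hN h5)) h4)))
    exact hq.ne_one (Nat.eq_one_of_dvd_coprimes hb (h6.trans (h'.dvd hd)) (h5.trans h4))
  have h3 := key h h' h1 h2 ha hb hab
  obtain ⟨ν, rfl⟩ : ∃ μ, θ = homCoe N μ := exists_hom_of_degree_one (isCharacter_of_isIrr h.1) h2
  obtain ⟨c, hc⟩ := exists_ov (θ := homCoe N ν * φ) (isIrr_hom_mul ν h'.1)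
  refine ⟨c, hc.mem (ne_one_of_index fun h => h3 (by rw [h]; exact Nat.coprime_one_right _)),
    fun h4 => h3 ((h4.coprime_dvd_left h.dvd').coprime_dvd_right hc.dvd'), fun h4 => ?_⟩
  obtain ⟨d, -, hd⟩ := exists_pos_nat_degree h'.1
  obtain rfl := Nat.eq_one_of_dvd_coprimes h4 ((dvd_mul_left _ _).trans (hc.dvd (d := d)
    (by simp [homCoe, hd]))) ((dvd_mul_left _ _).trans (h'.dvd hd))
  refine key h' h h1' (by simpa using hd) hb ha hab.symm ?_
  rw [mul_comm φ]
  exact ((h4.coprime_dvd_left hc.dvd').coprime_dvd_right h'.dvd').symm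

end Cfsg.Agent.H86
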