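import Cfsg.Agent.H22.CoprimeQuot
import Cfsg.Agent.H1.Glauberman
import Cfsg.Agent.H3.Transfer2
import Cfsg.Agent.H80.Rank2
import Cfsg.Agent.QT0.Act
import Cfsg.Agent.H47.Cyc
import Cfsg.Agent.S0205

/-! A minimal cover of a simple group with a subgroup `A₄`, without a certain Frobenius-like
configuration, is a central extension. -/

set_option autoImplicit false

namespace Cfsg.Agent.H86.FX

open Subgroup Function

variable {L : Type*} [Group L]

/-- There is at most one involution. -/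
def Inv (L : Type*) [Group L] : Prop := ∀ z y : L, z * z = 1 → z ≠ 1 → y * y = 1 → y ≠ 1 → z = y

/-- There is no elementary abelian subgroup of order `r ^ 2`. -/
def El (r : ℕ) (L : Type*) [Group L] : Prop :=
  ∀ a b : L, Commute a b → a ^ r = 1 → b ^ r = 1 → b ≠ 1 → a ∈ zpowers b

/-- The excluded configuration. -/
def Fr (L : Type*) [Group L] : Prop :=
  ∀ x g u v : L, x ^ 3 = 1 → x ≠ 1 → u * (g * x * g⁻¹) = x → v * x = x * u → Commute u v → u ≠ v →
    u * v ≠ 1 → False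

theorem Inv.sub (h : Inv L) (K : Subgroup L) : Inv K := fun z y a b c d =>
  Subtype.ext (h z y (congrArg Subtype.val a) (fun e => b (Subtype.ext e)) (congrArg Subtype.val c)
    fun e => d (Subtype.ext e))

theorem El.sub {r : ℕ} (h : El r L) (K : Subgroup L) : El r K := fun a b c ha hb b1 => by
  obtain ⟨n, hn⟩ := h a b (congrArg Subtype.val c) (congrArg Subtype.val ha) (congrArg Subtype.val hb)
    fun e => b1 (Subtype.ext e)
  exact ⟨n, Subtype.ext hn⟩

theorem Fr.sub (h : Fr L) (K : Subgroup L) : Fr K := fun x g u v a b c d e f k =>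
  h x g u v (congrArg Subtype.val a) (fun e => b (Subtype.ext e)) (congrArg Subtype.val c)
    (congrArg Subtype.val d) (congrArg Subtype.val e) (fun e => f (Subtype.ext e))
    fun e => k (Subtype.ext e)

theorem Inv.central (h : Inv L) {z : L} (hz : z * z = 1) : z ∈ center L := by
  by_cases z1 : z = 1
  · rw [z1]; exact one_mem _
  refine mem_center_iff.2 fun g => ?_
  rw [← mul_inv_eq_iff_eq_mul]
  refine h _ _ ?_ (fun e => z1 (by simpa using e)) hz z1
  rw [show g * z * g⁻¹ * (g * z * g⁻¹) = g * (z * z) * g⁻¹ by group, hz]; group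

theorem El.cyclic [Finite L] {r : ℕ} [hr : Fact r.Prime] (r2 : r ≠ 2) (h : El r L) {P : Subgroup L}
    (hP : IsPGroup r P) : IsCyclic P := by
  refine H80.isCyclic_of_unique r2 hP fun x y hx hy => ?_
  have x1 : x ≠ 1 := fun e => hr.out.one_lt.ne (by rw [← hx, e, orderOf_one])
  have : Nontrivial P := ⟨⟨x, 1, x1⟩⟩
  have := hP.center_nontrivial
  obtain ⟨n, n0, hn⟩ := (hP.to_subgroup (center P)).nontrivial_iff_card.1 this
  obtain ⟨z, hz⟩ := exists_prime_orderOf_dvd_card' (G := center P) r (hn ▸ dvd_pow_self r n0.ne')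
  have zr : (z : P) ^ r = 1 := by
    rw [← coe_pow, ← hz, pow_orderOf_eq_one, coe_one]
  have z1 : (z : P) ≠ 1 := fun e => hr.out.one_lt.ne (by
    rw [← hz, show z = 1 from Subtype.ext e, orderOf_one])
  have h1 := h.sub P y z (mem_center_iff.1 z.2 y) (hy ▸ pow_orderOf_eq_one y) zr z1
  have h2 := h.sub P z x (mem_center_iff.1 z.2 x).symm zr (hx ▸ pow_orderOf_eq_one x) x1
  exact zpowers_le.2 h2 h1

theorem El.of_surj [Finite L] {r : ℕ} [hr : Fact r.Prime] (r2 : r ≠ 2) (h : El r L) {T : Type*} [Group T]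
    {ξ : L →* T} (hs : Surjective ξ) : El r T := by
  classical
  intro a b c ha hb b1
  have : Finite T := Finite.of_surjective ξ hs
  have pa : IsPGroup r (zpowers a) := IsPGroup.of_card (n := if a = 1 then 0 else 1) (by
    rw [Nat.card_zpowers]
    split_ifs with e
    · rw [e, orderOf_one, pow_zero]
    · rw [orderOf_eq_prime ha e, pow_one])
  have ob := orderOf_eq_prime hb b1
  have pb : IsPGroup r (zpowers b) := IsPGroup.of_card (n := 1) (by rw [Nat.card_zpowers, ob, pow_one])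
  have pab : IsPGroup r (zpowers a ⊔ zpowers b : Subgroup T) := by
    refine pa.to_sup_of_normal_right' pb (zpowers_le.2 ?_)
    refine centralizer_le_normalizer _ (mem_centralizer_iff.2 ?_)
    rintro _ ⟨n, rfl⟩
    exact (c.zpow_right n).symm
  obtain ⟨P, -, hP, e⟩ := H22.exists_isPGroup_map_eq ξ (H := ⊤) pab (by
    rw [← MonoidHom.range_eq_map, MonoidHom.range_eq_top.2 hs]; exact le_top)
  have := h.cyclic r2 hP
  have hc : IsCyclic (zpowers a ⊔ zpowers b : Subgroup T) := e ▸ isCyclic_of_surjective _ (ξ.subgroupMap_surjective P)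
  refine H47.cyc_le_of_card_dvd hc le_sup_left le_sup_right ?_ (mem_zpowers a)
  rw [Nat.card_zpowers, Nat.card_zpowers, ob]
  exact orderOf_dvd_of_pow_eq_one ha

section cent

variable {R : Subgroup L} {x : L} {I J K : MulAut L}

theorem fin_step (fr : Fr L) (x3 : x ^ 3 = 1) (x1 : x ≠ 1) [hR : R.Normal]
    (sq : ∀ y ∈ R, y * y = 1 → y = 1) (cm : ∀ y ∈ R, ∀ w, Commute (y * y) w → Commute y w)
    (XI : ∀ y, x * I y * x⁻¹ = J (x * y * x⁻¹))
    (XK : ∀ y, x * K y * x⁻¹ = I (x * y * x⁻¹)) (hJ : ∀ c ∈ ⁅R, R⁆, J c = c)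
    {a : L} (ha : a ∈ R) (a1 : a ≠ 1) (Ja : J a = a) (Ia : I a = a⁻¹) (Ka : K a = a⁻¹) : False := by
  have ci : ∀ y : L, x * y⁻¹ * x⁻¹ = (x * y * x⁻¹)⁻¹ := fun y => by group
  obtain ⟨b, hb⟩ : ∃ b, b = x * a * x⁻¹ := ⟨_, rfl⟩
  obtain ⟨c, hc⟩ : ∃ c, c = x * b * x⁻¹ := ⟨_, rfl⟩
  have bR : b ∈ R := hb ▸ hR.conj_mem _ ha _
  have Jb : J b = b⁻¹ := by rw [hb, ← XI, Ia, ci]
  have Ib : I b = b⁻¹ := by rw [hb, ← XK, Ka, ci]
  have Jc : J c = c⁻¹ := by rw [hc, ← XI, Ib, ci]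
  have xc : x * c * x⁻¹ = a := by
    rw [hc, hb]
    calc _ = x ^ 3 * a * (x ^ 3)⁻¹ := by simp only [pow_succ, pow_zero, one_mul, mul_inv_rev, mul_assoc]
      _ = a := by rw [x3]; group
  have ab : Commute b a := by
    have h1 := hJ _ (commutator_mem_commutator ha bR)
    rw [commutatorElement_def, map_mul, map_mul, map_mul, map_inv, map_inv, Ja, Jb] at h1
    refine cm b bR a ?_
    have h2 : b * b * a⁻¹ = a⁻¹ * (b * b) := by
      calc _ = b * a⁻¹ * (a * b * a⁻¹ * b⁻¹) * b := by group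
        _ = _ := by rw [← h1]; group
    exact Commute.inv_right_iff.1 h2
  have cj : ∀ {y w : L}, Commute y w → Commute (x * y * x⁻¹) (x * w * x⁻¹) := fun h =>
    h.map (MulAut.conj x)
  have bc : Commute c b := by have := cj ab; rwa [← hc, ← hb] at this
  have ca : Commute a c := by have := cj bc; rwa [xc, ← hc] at this
  refine fr x a (b * a⁻¹) (c * b⁻¹) x3 x1 (by rw [hb]; group) (by rw [hc, hb]; group) ?_ ?_ ?_
  · exact (bc.symm.mul_right (Commute.refl b).inv_right).mul_left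
      (ca.mul_right ab.symm.inv_right).inv_left
  · intro e
    have e2 := congrArg J e
    rw [map_mul, map_mul, map_inv, map_inv, Ja, Jb, Jc, inv_inv] at e2
    refine a1 (sq a ha ?_)
    have e3 : c = b * a⁻¹ * b := by rw [e]; group
    rw [e3] at e2
    have e4 : a⁻¹ = a := by
      calc a⁻¹ = b * (b⁻¹ * a⁻¹) := by group
        _ = _ := by rw [e2]; group
    rw [← e4, e4.symm.symm]
    nth_rewrite 1 [← e4]
    exact inv_mul_cancel a
  · intro e
    have e3 : c = a := by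
      have : b * a⁻¹ * (c * b⁻¹) = b * (a⁻¹ * c) * b⁻¹ := by group
      rw [this, conj_eq_one_iff, inv_mul_eq_one] at e
      exact e.symm
    rw [e3, Ja] at Jc
    refine a1 (sq a ha ?_)
    nth_rewrite 1 [Jc]
    exact inv_mul_cancel a

theorem step (fr : Fr L) (x3 : x ^ 3 = 1) (x1 : x ≠ 1) [hR : R.Normal]
    (sq : ∀ y ∈ R, y * y = 1 → y = 1) (cm : ∀ y ∈ R, ∀ w, Commute (y * y) w → Commute y w)
    (XI : ∀ y, x * I y * x⁻¹ = J (x * y * x⁻¹)) (XJ : ∀ y, x * J y * x⁻¹ = K (x * y * x⁻¹))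
    (XK : ∀ y, x * K y * x⁻¹ = I (x * y * x⁻¹)) (II : ∀ y, I (I y) = y) (JJ : ∀ y, J (J y) = y)
    (IJ : ∀ y, I (J y) = K y) (JI : ∀ y, J (I y) = K y) (IR : ∀ y ∈ R, I y ∈ R) (JR : ∀ y ∈ R, J y ∈ R)
    (hJ : ∀ c ∈ ⁅R, R⁆, J c = c) (hK : ∀ c ∈ ⁅R, R⁆, K c = c) {g : L} (hg : g ∈ R) : I g = g := by
  by_contra hne
  obtain ⟨a, ha⟩ : ∃ a, a = g⁻¹ * I g := ⟨_, rfl⟩
  have aR : a ∈ R := ha ▸ mul_mem (inv_mem hg) (IR g hg)
  have a1 : a ≠ 1 := fun e => hne (inv_mul_eq_one.1 (ha ▸ e)).symm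
  have Ia : I a = a⁻¹ := by rw [ha, map_mul, map_inv, II]; group
  obtain ⟨b, hb⟩ : ∃ b, b = J a := ⟨_, rfl⟩
  have bR : b ∈ R := hb ▸ JR a aR
  have Jb : J b = a := hb ▸ JJ a
  have Ib : I b = b⁻¹ := by rw [hb, IJ, ← JI, Ia, map_inv]
  have Ka : K a = b⁻¹ := by rw [← IJ, ← hb, Ib]
  have Kb : K b = a⁻¹ := by rw [← IJ, Jb, Ia]
  have ab : Commute a b := by
    have hm := commutator_mem_commutator aR bR
    have h1 := hJ _ hm
    rw [← commutatorElement_eq_one_iff_commute]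
    refine sq _ (commutator_le_self R hm) ?_
    nth_rewrite 1 [← h1]
    rw [map_commutatorElement, ← hb, Jb, ← commutatorElement_inv, inv_mul_cancel]
  by_cases e1 : a * b = 1
  · by_cases e2 : a * b⁻¹ = 1
    · rw [mul_inv_eq_one] at e2
      exact a1 (sq a aR (by nth_rewrite 2 [e2]; exact e1))
    · refine fin_step (I := J) (J := K) (K := I) fr x3 x1 sq cm XJ XI hK (mul_mem aR (inv_mem bR)) e2 ?_ ?_ ?_
      · rw [map_mul, map_inv, Ka, Kb, inv_inv, ab.inv_right]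
      · rw [map_mul, map_inv, ← hb, Jb]; group
      · rw [map_mul, map_inv, Ia, Ib, inv_inv, mul_inv_rev, inv_inv, ab.inv_left]
  · refine fin_step fr x3 x1 sq cm XI XK hJ (mul_mem aR bR) e1 ?_ ?_ ?_
    · rw [map_mul, ← hb, Jb, ab]
    · rw [map_mul, Ia, Ib, mul_inv_rev, ab.inv_inv]
    · rw [map_mul, Ka, Kb, mul_inv_rev]

end cent

theorem cent_of_fr [Finite L] (fr : Fr L) {i x : L} (x3 : x ^ 3 = 1) (x1 : x ≠ 1) (hi : i * i ∈ center L)
    (hix : (i * x) ^ 3 ∈ center L) {M : Subgroup L} [M.Normal] (hM : Odd (Nat.card M)) :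
    ∀ m ∈ M, i * m = m * i := by
  have hsol : Group.IsSolvable M := S0205.result hM
  have odd : ∀ y ∈ M, Odd (orderOf y) := fun y hy => hM.of_dvd_nat (M.orderOf_dvd_natCard hy)
  have pw : ∀ y ∈ M, y ∈ zpowers (y * y) := fun y hy => by
    rw [← pow_two, mem_zpowers_pow_iff]
    exact (Nat.coprime_two_left.2 (odd y hy))
  obtain ⟨j, hj⟩ : ∃ j, j = x * i * x⁻¹ := ⟨_, rfl⟩
  obtain ⟨k, hk⟩ : ∃ k, k = x * j * x⁻¹ := ⟨_, rfl⟩
  have xk : x * k * x⁻¹ = i := by
    rw [hk, hj]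
    calc _ = x ^ 3 * i * (x ^ 3)⁻¹ := by simp only [pow_succ, pow_zero, one_mul, mul_inv_rev, mul_assoc]
      _ = i := by rw [x3]; group
  have ijk : i * j * k ∈ center L := by
    have : (i * x) ^ 3 = i * j * k * x ^ 3 := by rw [hk, hj]; simp only [pow_succ]; group
    rwa [this, x3, mul_one] at hix
  have jj : j * j ∈ center L := by
    have : j * j = x * (i * i) * x⁻¹ := by rw [hj]; group
    rw [this]; exact Normal.conj_mem inferInstance _ hi _
  have kk : k * k ∈ center L := by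
    have : k * k = x * (j * j) * x⁻¹ := by rw [hk]; group
    rw [this]; exact Normal.conj_mem inferInstance _ jj _
  have c1 : ∀ z ∈ center L, MulAut.conj z = 1 := fun z hz => MulEquiv.ext fun y => by
    rw [MulAut.conj_apply, ← mem_center_iff.1 hz y, mul_inv_cancel_right]; rfl
  have II := c1 _ hi
  have JJ := c1 _ jj
  have KK := c1 _ kk
  have IJK := c1 _ ijk
  simp only [map_mul] at II JJ KK IJK
  have IJ : MulAut.conj i * MulAut.conj j = MulAut.conj k := by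
    rw [eq_inv_of_mul_eq_one_left IJK, ← eq_inv_of_mul_eq_one_left KK]
  have JI : MulAut.conj j * MulAut.conj i = MulAut.conj k := by
    rw [eq_inv_of_mul_eq_one_left KK, ← IJ, mul_inv_rev, ← eq_inv_of_mul_eq_one_left II,
      ← eq_inv_of_mul_eq_one_left JJ]
  have key : ∀ R : Subgroup L, R.Normal → R ≤ M → ∀ g ∈ R, i * g * i⁻¹ = g := by
    intro R
    induction R using WellFoundedLT.induction with
    | ind R ih =>
      intro hR hRM g hg
      by_cases h0 : R = ⊥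
      · rw [h0, mem_bot] at hg
        rw [hg]; group
      have hlt := H1.commutator_lt_of_solvable (H1.solvable_of_le hRM hsol) h0
      have hI := ih _ hlt inferInstance (hlt.le.trans hRM)
      have nx : ∀ {w : L}, (∀ c ∈ ⁅R, R⁆, w * c * w⁻¹ = c) → ∀ c ∈ ⁅R, R⁆,
          x * w * x⁻¹ * c * (x * w * x⁻¹)⁻¹ = c := fun {w} h c hc => by
        have := h _ (Normal.conj_mem' inferInstance _ hc x)
        calc _ = x * (w * (x⁻¹ * c * x) * w⁻¹) * x⁻¹ := by group
          _ = c := by rw [this]; group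
      refine step (I := MulAut.conj i) (J := MulAut.conj j) (K := MulAut.conj k) fr x3 x1
        (fun y hy e => ?_) (fun y hy w h => ?_) (fun y => ?_) (fun y => ?_) (fun y => ?_)
        (fun y => congrArg (· y) II) (fun y => congrArg (· y) JJ) (fun y => congrArg (· y) IJ)
        (fun y => congrArg (· y) JI) (fun y hy => hR.conj_mem _ hy _) (fun y hy => hR.conj_mem _ hy _)
        (hj ▸ nx hI) (hk ▸ nx (hj ▸ nx hI)) hg
      · have := pw y (hRM hy)
        rwa [e, zpowers_one_eq_bot, mem_bot] at this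
      · obtain ⟨n, hn⟩ := pw y (hRM hy)
        exact hn ▸ h.zpow_left n
      · simp only [MulAut.conj_apply, hj]; group
      · simp only [MulAut.conj_apply, hk]; group
      · simp only [MulAut.conj_apply, ← xk]; group
  intro m hm
  rw [← mul_inv_eq_iff_eq_mul]
  exact key M inferInstance le_rfl m hm

theorem exists_four {T : Type*} [Group T] {a y : T} (a2 : a * a = 1) (y3 : y ^ 3 = 1) (ay : (a * y) ^ 3 = 1) :
    ∃ V : Subgroup T, IsPGroup 2 V ∧ a ∈ V ∧ ∀ v ∈ V, y * v * y⁻¹ ∈ V := by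
  obtain ⟨b, hb⟩ : ∃ b, b = y * a * y⁻¹ := ⟨_, rfl⟩
  obtain ⟨c, hc⟩ : ∃ c, c = y * b * y⁻¹ := ⟨_, rfl⟩
  have b2 : b * b = 1 := by
    rw [show b * b = y * (a * a) * y⁻¹ by rw [hb]; group, a2]; group
  have c2 : c * c = 1 := by
    rw [show c * c = y * (b * b) * y⁻¹ by rw [hc]; group, b2]; group
  have abc : a * b = c := by
    have : (a * y) ^ 3 = a * b * c * y ^ 3 := by rw [hc, hb]; simp only [pow_succ]; group
    rw [this, y3, mul_one] at ay
    rw [eq_inv_of_mul_eq_one_left ay, ← eq_inv_of_mul_eq_one_left c2]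
  have ab : Commute a b := by
    change a * b = b * a
    rw [abc, eq_inv_of_mul_eq_one_left c2, ← abc, mul_inv_rev, ← eq_inv_of_mul_eq_one_left a2,
      ← eq_inv_of_mul_eq_one_left b2]
  have sq : ∀ s t : ℕ, a ^ s * b ^ t * (a ^ s * b ^ t) = 1 := fun s t => by
    rw [← pow_two, (ab.pow_pow s t).mul_pow, ← pow_mul, ← pow_mul, mul_comm s, mul_comm t, pow_mul, pow_mul,
      pow_two, pow_two, a2, b2, one_pow, one_pow, one_mul]
  let V : Subgroup T :=
    { carrier := {v | ∃ s t : ℕ, v = a ^ s * b ^ t}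
      one_mem' := ⟨0, 0, by simp⟩
      mul_mem' := by
        rintro _ _ ⟨s, t, rfl⟩ ⟨s', t', rfl⟩
        exact ⟨s + s', t + t', by rw [(ab.symm.pow_pow t s').mul_mul_mul_comm, pow_add, pow_add]⟩
      inv_mem' := by
        rintro _ ⟨s, t, rfl⟩
        exact ⟨s, t, (eq_inv_of_mul_eq_one_left (sq s t)).symm⟩ }
  have aV : a ∈ V := ⟨1, 0, by simp⟩
  have bV : b ∈ V := ⟨0, 1, by simp⟩
  refine ⟨V, ?_, aV, ?_⟩
  · rintro ⟨_, s, t, rfl⟩
    exact ⟨1, Subtype.ext (by rw [pow_one, pow_two]; exact sq s t)⟩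
  · rintro _ ⟨s, t, rfl⟩
    rw [← conj_mul, ← conj_pow, ← conj_pow, ← hb, ← hc, ← abc]
    exact mul_mem (pow_mem bV s) (pow_mem (mul_mem aV bV) t)

theorem ker_le_center [Finite L] (inv : Inv L) (el : El 3 L) (fr : Fr L) (hp : commutator L = ⊤)
    {T : Type*} [Group T] [IsSimpleGroup T] {ξ : L →* T} (hs : Surjective ξ)
    (min : ∀ K : Subgroup L, K.map ξ = ⊤ → K = ⊤) {M : Subgroup L} [M.Normal] (hM : Odd (Nat.card M))
    (hk : ∀ m ∈ ξ.ker, m * m ∈ M) {a y : T} (a1 : a ≠ 1) (a2 : a * a = 1) (y3 : y ^ 3 = 1)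
    (ay : (a * y) ^ 3 = 1) : ξ.ker ≤ center L := by
  have : Fact (Nat.Prime 3) := ⟨Nat.prime_three⟩
  have odd : ∀ y ∈ M, Odd (orderOf y) := fun y hy => hM.of_dvd_nat (M.orderOf_dvd_natCard hy)
  have two : ∀ m ∈ ξ.ker, ∀ n : ℕ, m ^ 2 ^ n = 1 → m ∈ center L := by
    intro m hm n hn
    refine inv.central ?_
    have h1 : orderOf (m * m) ∣ 2 ^ n := orderOf_dvd_of_pow_eq_one (by
      rw [← pow_two, ← pow_mul, mul_comm, pow_mul, hn, one_pow])
    exact orderOf_eq_one_iff.1 (Nat.eq_one_of_dvd_coprimes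
      ((Nat.coprime_two_right.2 (odd _ (hk m hm))).pow_right n) dvd_rfl h1)
  have three : ∀ m ∈ ξ.ker, ∀ n : ℕ, m ^ 3 ^ n = 1 → m = 1 := by
    intro m hm n hn
    have pm : IsPGroup 3 (zpowers m) := by
      rintro ⟨_, s, rfl⟩
      exact ⟨n, Subtype.ext (by
        rw [coe_pow, coe_one]; change (m ^ s) ^ 3 ^ n = 1
        rw [← zpow_natCast, ← zpow_mul, mul_comm, zpow_mul, zpow_natCast, hn, one_zpow])⟩
    obtain ⟨P, hP, hmP⟩ := H92.exists_sylIn_ge (zpowers_le.2 hm) pm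
    have hN : normalizer (P : Set L) = ⊤ := by
      apply min
      rw [eq_top_iff]
      intro t _
      obtain ⟨g, rfl⟩ := hs t
      obtain ⟨u, hu, h⟩ := hP.frattini (g := g) (by rw [normalizer_eq_top]; trivial)
      exact ⟨u * g, h, by rw [map_mul, show ξ u = 1 from hu, one_mul]⟩
    have hc := QT0.perfect_cent_of_cyclic (V := P) (Y := ⊤) hp hN.ge (el.cyclic (by decide) hP.pgroup)
    have mz : m ∈ center L := mem_center_iff.2 fun g =>
      (mem_centralizer_iff.1 (hc (mem_top g)) m (hmP (mem_zpowers m))).symm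
    obtain ⟨S, hS⟩ := pm.exists_le_sylow
    have h1 := H3.center_inf_commutator_inf_sylow_le S ⟨⟨mz, hp ▸ mem_top m⟩, hS (mem_zpowers m)⟩
    have := el.cyclic (by decide) S.isPGroup'
    have h2 : ⁅(S : Subgroup L), (S : Subgroup L)⁆ = ⊥ := by
      rw [commutator_eq_bot_iff_le_centralizer]
      intro u hu
      refine mem_centralizer_iff.2 fun w hw => ?_
      exact congrArg Subtype.val (IsCyclic.commGroup.mul_comm (⟨w, hw⟩ : (S : Subgroup L)) ⟨u, hu⟩)
    rwa [h2, mem_bot] at h1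
  obtain ⟨V, hV, aV, yV⟩ := exists_four a2 y3 ay
  obtain ⟨Q, hQ⟩ := H92.exists_sylIn 2 (V.comap ξ)
  have hQV : Q.map ξ = V := by
    have := hQ.map ξ
    rw [map_comap_eq_self_of_surjective hs] at this
    exact this.eq_of_isPGroup hV
  obtain ⟨y₀, rfl⟩ := hs y
  obtain ⟨g, hg, hgQ⟩ := hQ.exists_conj (Q := Q.map (MulAut.conj y₀).toMonoidHom) (by
    rintro _ ⟨q, hq, rfl⟩
    change ξ (y₀ * q * y₀⁻¹) ∈ V
    rw [map_mul, map_mul, map_inv]
    exact yV _ (hQ.le hq)) (hQ.pgroup.map _)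
  obtain ⟨q₀, hq₀, e₀⟩ := hQV.ge (inv_mem hg)
  obtain ⟨w, hw, wQ⟩ : ∃ w, ξ w = ξ y₀ ∧ ∀ q ∈ Q, w * q * w⁻¹ ∈ Q := by
    refine ⟨q₀ * g * y₀, by rw [map_mul, map_mul, e₀]; simp, fun q hq => ?_⟩
    have := mul_mem (mul_mem hq₀ (hgQ _ ⟨q, hq, rfl⟩)) (inv_mem hq₀)
    convert this using 1
    simp only [MulEquiv.toMonoidHom_eq_coe, MonoidHom.coe_coe, MulAut.conj_apply]
    group
  have wQ' : ∀ n : ℕ, ∀ q ∈ Q, w ^ n * q * (w ^ n)⁻¹ ∈ Q := by
    intro n
    induction n with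
    | zero => simp
    | succ n ih =>
      intro q hq
      have := wQ _ (ih q hq)
      rwa [show w * (w ^ n * q * (w ^ n)⁻¹) * w⁻¹ = w ^ (n + 1) * q * (w ^ (n + 1))⁻¹ by group] at this
  obtain ⟨n, s, hs3, hord⟩ := Nat.exists_eq_pow_mul_and_not_dvd (orderOf_pos w).ne' 3 (by decide)
  have hx : ξ (w ^ (s * s)) = ξ y₀ := by
    have h1 : s * s % 3 = 1 := by
      have : s % 3 = 1 ∨ s % 3 = 2 := by omega
      rcases this with h | h <;> simp [Nat.mul_mod, h]
    rw [map_pow, hw, ← Nat.div_add_mod (s * s) 3, h1, pow_succ, pow_mul, y3, one_pow, one_mul]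
  obtain ⟨x, hxd⟩ : ∃ x, x = w ^ (s * s) := ⟨_, rfl⟩
  have xQ : ∀ q ∈ Q, x * q * x⁻¹ ∈ Q := hxd ▸ wQ' _
  rw [← hxd] at hx
  have x3 : x ^ 3 = 1 := by
    refine three _ (by rw [MonoidHom.mem_ker, map_pow, hx, y3]) n ?_
    rw [hxd, ← pow_mul, ← pow_mul, show s * s * (3 * 3 ^ n) = 3 ^ n * s * (3 * s) by ring, ← hord, pow_mul,
      pow_orderOf_eq_one, one_pow]
  have x1 : x ≠ 1 := by
    rintro rfl
    rw [← hx, map_one, mul_one, pow_succ, pow_two, a2, one_mul] at ay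
    exact a1 ay
  obtain ⟨i, hi, rfl⟩ := hQV.ge aV
  have twoQ : ∀ q ∈ Q, ξ q = 1 → q ∈ center L := fun q hq e => by
    obtain ⟨n, hn⟩ := hQ.pgroup ⟨q, hq⟩
    exact two q e n (congrArg Subtype.val hn)
  have hc := cent_of_fr fr x3 x1 (twoQ _ (mul_mem hi hi) (by rw [map_mul, a2]))
    (twoQ _ (by
      have : (i * x) ^ 3 = i * (x * i * x⁻¹) * (x * (x * i * x⁻¹) * x⁻¹) * x ^ 3 := by
        simp only [pow_succ]; group
      rw [this, x3, mul_one]
      exact mul_mem (mul_mem hi (xQ _ hi)) (xQ _ (xQ _ hi))) (by rw [map_pow, map_mul, hx, ay])) hM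
  have hC : centralizer (M : Set L) = ⊤ := by
    apply min
    refine ((Normal.map inferInstance ξ hs).eq_bot_or_eq_top).resolve_left fun e => a1 ?_
    exact mem_bot.1 (e ▸ ⟨i, mem_centralizer_iff.2 fun m hm => (hc m hm).symm, rfl⟩)
  intro m hm
  have h1 : m * m ∈ center L := mem_center_iff.2 fun g =>
    (mem_centralizer_iff.1 (hC.ge (mem_top g)) _ (hk m hm)).symm
  obtain ⟨t, ht⟩ := odd _ (hk m hm)
  have h2 : m ^ (2 * t + 1) ∈ center L := inv.central (by
    rw [← (Commute.refl m).mul_pow, ← ht, pow_orderOf_eq_one])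
  rw [pow_succ, pow_mul, pow_two] at h2
  exact (mul_mem_cancel_left (pow_mem h1 t)).1 h2

end Cfsg.Agent.H86.FX
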