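import Cfsg.Agent.H86.Trf
import Cfsg.Agent.H34.FongReynolds

/-! Gluing generalized decomposition numbers along a nilpotent local block. -/

set_option autoImplicit false
set_option linter.unusedSectionVars false

open MonoidAlgebra Subgroup ComplexConjugate

namespace Cfsg.Agent.H86

open Cfsg Cfsg.Agent.H87 Cfsg.Agent.H32

variable {M : Ideal AlgInt} [hMm : M.IsMaximal] {G : Type*} [Group G] [Finite G] {p : ℕ}
  {B : Set (IrrCharacter G)} {P : Subgroup G} {e : (Res M)[G]} {χ ψ s : G → ℂ}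

theorem blockPart_mem_locRing (hB : IsPBlock M B) (hs : IsClassFunction G s)
    (h : ∀ g, s g ∈ locRing M) (g : G) : blockPart B s g ∈ locRing M := by
  rw [← ev_blockIdem_mul_single hs]
  exact ev_mem_locRing h (mul_mem (blockIdem_mem_RG hB) (single_one_mem_RG g))

theorem ci_div_mem [Fintype G] (hM : IsPModular p M) (hs : IsClassFunction G s)
    (h : ∀ g, s g ∈ locRing M) {ψ : IrrCharacter G} (hψ : ψ ∈ B) :
    (p : ℂ) ^ blockDefect p B * classInner s ψ / (p : ℂ) ^ blockHeight p B (ψ : G → ℂ) ∈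
      locRing M := by
  obtain ⟨w, hw, -, hwe⟩ := exists_unit_om hM hψ
  rw [hwe]
  exact mul_mem (H33.om_mem_locRing ψ (isClassFunction_comp_inv hs) fun g => h _) hw

theorem ci_div_mem_iff [Fintype G] (hM : IsPModular p M) (hB : IsPBlock M B)
    (hs : IsClassFunction G s) (h : ∀ g, s g ∈ locRing M) {χ ψ : IrrCharacter G} (hχ : χ ∈ B)
    (hψ : ψ ∈ B) :
    (p : ℂ) ^ blockDefect p B * classInner s χ / (p : ℂ) ^ blockHeight p B (χ : G → ℂ) ∈
      locMax M ↔ (p : ℂ) ^ blockDefect p B * classInner s ψ /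
        (p : ℂ) ^ blockHeight p B (ψ : G → ℂ) ∈ locMax M := by
  obtain ⟨w, hw, hw', hwe⟩ := exists_unit_om hM hψ
  obtain ⟨v, hv, hv', hve⟩ := exists_unit_om hM hχ
  rw [hwe, hve, mul_unit_mem_locMax_iff hw hw', mul_unit_mem_locMax_iff hv hv']
  exact mem_locMax_iff_of_sub_mem (H33.om_sub_om_mem_of_mem hB hχ hψ
    (isClassFunction_comp_inv hs) fun g => h _)

theorem Ctx.D_blockPart (h : Ctx M p B P e) (hχ : IsClassFunction G χ) {u : G} (hu : u ∈ P) :
    D p P e u (blockPart B χ) = D p P e u χ := by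
  rw [D, D, H87.dn, H87.dn, tau_blockPart_of_bpair h.hM hχ h.hB
    (H33.isPPart_self h.hM.1 (h.pElt hu)) (h.bpair_of_sub (h.blk_spec hu).2)]

theorem Ctx.exists_virt_of_nilp (h : Ctx M p B P e) (hn : Nilp p ⊤ (eB M B)) {ζ : IrrCharacter G}
    (hζ : ζ ∈ B) (h0 : blockHeight p B (ζ : G → ℂ) = 0) (hχ : IsGeneralizedCharacter G χ) :
    ∃ τ, IsGeneralizedCharacter P τ ∧ ∀ u : P, D p P e u χ = D p P e u ζ * τ u := by
  classical
  have := Fintype.ofFinite G
  have := Fintype.ofFinite P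
  obtain ⟨Φ, hΦ⟩ := h.exists_equiv_of_nilp hn hζ h0
  obtain ⟨n, h1, -⟩ := virt_eq_sum_int hχ
  have h2 : IsGeneralizedCharacter P (∑ l : IrrCharacter P, (n (Φ l) : ℂ) • (l : P → ℂ)) :=
    H53.virt_sum _ _ fun l _ => Int.cast_smul_eq_zsmul ℂ (n (Φ l)) (l : P → ℂ) ▸
      H53.virt_zsmul _ (H53.virt_of_irr l.2)
  refine ⟨_, h2, fun u => ?_⟩
  rw [mul_comm, ← D_st h (h.stab_of_nilp hn (H53.virt_classFun h2)) (irr_cf ζ.2),
    ← h.D_blockPart (H53.virt_classFun hχ) u.2, st_sum_left, blockPart_eq]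
  congr 1
  refine (Finset.sum_bij (fun l _ => (Φ l : IrrCharacter G)) (fun l _ => mem_fs.2 (Φ l).2)
    (fun l _ l' _ h3 => Φ.injective (Subtype.ext h3)) (fun β hβ => ⟨Φ.symm ⟨β, mem_fs.1 hβ⟩,
      Finset.mem_univ _, by simp⟩) fun l _ => ?_).symm
  rw [st_smul_left, hΦ, ← hΦ, h1]

theorem Ctx.D_mul_conj_of_nilp (h : Ctx M p B P e) (hn : Nilp p ⊤ (eB M B)) {ζ : IrrCharacter G}
    (hζ : ζ ∈ B) (h0 : blockHeight p B (ζ : G → ℂ) = 0) (u : P) :
    D p P e u ζ * conj (D p P e u ζ) = 1 := by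
  rw [← (r1_of_nilp' h u.2 hn).pow_mul_cn h u.2 (irr_cf ζ.2) (irr_cf ζ.2),
    h.pow_mul_cn_of_nilp hn hζ h0]

variable (M p B P e) in
/-- The generalized decomposition numbers on `S` are, up to the signs `δ`, values of generalized
characters of `P`, whose values at `z` give the heights. -/
structure Gl (S : Set P) (z : P) (δ : P → ℂ) : Prop where
  ctx : Ctx M p B P e
  r1 : ∀ u ∈ S, R1 p P e u
  df : ∀ u ∈ S, p ^ df p P e u = Nat.card (centralizer {u} : Subgroup P)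
  fz : ∀ u ∈ S, ∀ v ∈ S, Fz p P e u v ↔ IsConj u v
  norm : ∀ u, δ u * conj (δ u) = 1
  inv : ∀ u v, IsConj u v → δ v = δ u
  virt : ∀ χ ∈ B, ∃ τ, IsGeneralizedCharacter P τ ∧
    (∀ u ∈ S, D p P e u (χ : G → ℂ) = δ u * τ u) ∧
    τ z⁻¹ / (p : ℂ) ^ blockHeight p B (χ : G → ℂ) ∈ locRing M ∧
    τ z⁻¹ / (p : ℂ) ^ blockHeight p B (χ : G → ℂ) ∉ locMax M

theorem tau_part [Fintype G] (hM : IsPModular p M) {K : Type*} [Group K] [Finite K] {κ : K →* G}
    (hκ : Function.Injective κ) (hB : IsPBlock M B) (hχ : IsClassFunction G χ) {g : K}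
    {j : (Res M)[K]} (hg : ∃ n, orderOf g = p ^ n) (hj : Pair p ⊤ (zpowers g) j)
    (hb : BPair p ⊤ ⊤ (eB M B) (zpowers (κ g)) (up κ j)) :
    tau (fun x => blockPart B χ (κ x)) g j = tau (fun x => χ (κ x)) g j := by
  rw [← tau_up hκ (isClassFunction_blockPart _ _) hj.inv hj.blk.idem,
    ← tau_up hκ hχ hj.inv hj.blk.idem]
  exact tau_blockPart_of_bpair hM hχ hB (H33.isPPart_self hM.1
    (by rw [orderOf_injective κ hκ]; exact hg)) hb

section Key

variable {R N : Subgroup G} {f : (Res M)[G]} {z : G} {H : Subgroup (Ce (zpowers z))}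
  {c : Set (IrrCharacter H)} (h : Ctx M p B P e) (L : Lc p P e R f N)
  (hι : Emb ((Ce (zpowers z)).subtype.comp H.subtype) N) (hc : IsPBlock M c)
  (hf : idm M ((Ce (zpowers z)).subtype.comp H.subtype) c = f)
include h L hι hc hf

theorem Lc.D_part [Fintype (Ce (zpowers z))] (hχ : IsClassFunction G χ) (hz : z ∈ R) {u : H} (hu : ((u : _) : G) ∈ P)
    (hR : R ≤ zpowers ((u : _) : G)) :
    D p P e u χ = D p (P.comap ((Ce (zpowers z)).subtype.comp H.subtype))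
      (pb ((Ce (zpowers z)).subtype.comp H.subtype) e) u
        (fun x => blockPart (H86.blk p P e z) (fun y => χ y) x) := by
  have : Fact p.Prime := ⟨h.hM.1⟩
  have := res_charP h.hM
  have h' := L.ctx h hι hc hf
  have hzP := L.sub.le hz
  have h5 := (h'.blk_spec hu).2.pair_iff.2 h'.pair
  have h6 := (h.blk_spec hu).2
  have h7 : zpowers z ≤ zpowers ((u : _) : G) := zpowers_le.2 (hR hz)
  have h8 : zpowers ((u : _) : G) ≤ Ce (zpowers z) := zpowers_le.2 (u : Ce (zpowers z)).2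
  have h9 : BPair p ⊤ ⊤ (eB M (H86.blk p P e z)) (zpowers (H.subtype u))
      (up H.subtype (bi p (P.comap ((Ce (zpowers z)).subtype.comp H.subtype))
        (pb ((Ce (zpowers z)).subtype.comp H.subtype) e) u)) := by
    rw [← bpair_up_iff (Ce (zpowers z)).subtype_injective, (emb_subtype _).map_top,
      MonoidHom.map_zpowers, ← up_comp, L.up_bi h hι hc hf hu hR]
    exact ⟨Pair.of_Ce_le (h6.pair_iff.2 h.pair) le_top (Ce_anti h7) (h8.trans le_normalizer),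
      h8, (((h.blk_spec hzP).2.of_le h.pair h6 h7).nsub (h6.pair_iff.2 h.pair)
        (h8.trans (Ce_le_No _))).br⟩
  refine (L.D_up h hι hc hf hχ hu hR).symm.trans ?_
  rw [D, D, H87.dn, H87.dn]
  congr 1
  exact (tau_part h.hM H.subtype_injective (h.blk_spec hzP).1
    (H33.isClassFunction_restrict hχ _) (h'.pElt hu) h5 h9).symm

end Key

theorem Ctx.exists_fun_of_nilp [Fintype G] (h : Ctx M p B P e) (hn : Nilp p ⊤ (eB M B))
    {ζ : IrrCharacter G} (hζ : ζ ∈ B) (h0 : blockHeight p B (ζ : G → ℂ) = 0) (z : P)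
    (hz : (z : G) ∈ Ce P) : ∃ s, IsClassFunction G s ∧ (∀ g, s g ∈ locRing M) ∧
      ∀ χ, IsGeneralizedCharacter G χ → ∃ τ, IsGeneralizedCharacter P τ ∧
        (∀ u : P, D p P e u χ = D p P e u ζ * τ u) ∧ τ z⁻¹ = Nat.card P * classInner s χ := by
  have := Fintype.ofFinite (Ce (zpowers (z : G)))
  refine ⟨_, isClassFunction_sec (p := p) (isCent_zpowers (z : G)) (gen p _ (z : G) (blk p P e z) ζ),
    sec_mem _ h.hM.1 _ (h.pElt z.2) (isClassFunction_gen _ _) fun y _ =>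
      mem_locRing_of_isIntegral (gen_isIntegral h.hM (isCent_zpowers _)
        (h.blk_spec z.2).1 (H53.virt_of_irr ζ.2) y), fun χ hχ => ?_⟩
  obtain ⟨τ, hτ, h3⟩ := h.exists_virt_of_nilp hn hζ h0 hχ
  have h4 := (r1_of_nilp' h z.2 hn).pow_mul_cn h z.2 (irr_cf ζ.2) (H53.virt_classFun hχ)
  rw [h3, map_mul, ← mul_assoc, h.D_mul_conj_of_nilp hn hζ h0, one_mul,
    ← H53.virt_apply_inv hτ, h.df_of_central z.2 hz, ← Nat.cast_pow, ← h.card_eq, cn_eq,
    con_eq_sec h.hM (isCent_zpowers _) (h.blk_spec z.2).1 _ (H53.virt_classFun hχ)] at h4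
  exact ⟨τ, hτ, h3, h4.symm⟩

theorem Ctx.exists_gl (h : Ctx M p B P e) (z w : P) (hz : (z : G) ∈ Ce P)
    (hw : P ≤ No (zpowers (w : G))) (hzw : (z : G) ∈ zpowers (w : G))
    (hN : No (zpowers (w : G)) ≤ Ce (zpowers (z : G)))
    (hn : ∀ Q ≤ P, ∀ x ∈ No (zpowers (w : G)) ⊓ No Q, ¬ p ∣ orderOf x → x ∈ Ce Q) :
    ∃ δ, Gl M p B P e {u | (w : G) ∈ zpowers (u : G)} z δ := by
  have : Fact p.Prime := ⟨h.hM.1⟩
  have := res_charP h.hM
  have := Fintype.ofFinite G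
  obtain ⟨f, N, L⟩ := h.exists_lc (zpowers_le.2 w.2) hw
  have hnil : Nilp p N f := nilp_of_reg (L.blk h) (L.maxPair h) fun Q hQ x hx =>
    hn Q hQ x ⟨((L.mem x).1 hx.1).1, hx.2⟩
  have hι := emb_subgroupOf (show N ≤ Ce (zpowers (z : G)) from fun g hg => hN ((L.mem g).1 hg).1)
  generalize N.subgroupOf (Ce (zpowers (z : G))) = H at hι
  have := Fintype.ofFinite (Ce (zpowers (z : G)))
  have := Fintype.ofFinite H
  obtain ⟨c, hc, hf⟩ := L.exists_blk h hι
  have h' := L.ctx h hι hc hf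
  have hn' := (isNilpotentBlock_iff_nilp h.hM hc).1 ((hι.isNilpotentBlock_iff h.hM hc).2 (hf ▸ hnil))
  obtain ⟨ζ, hζ, h0⟩ := exists_height_zero (p := p) (isPBlock_nonempty hc)
  have hr := hι.coe_res (L.le h)
  generalize hι.res (L.le h) = r at hr
  have hb := (h.blk_spec z.2).1
  obtain ⟨s, hs0, hs, hs2⟩ := h'.exists_fun_of_nilp hn' hζ h0 (r z) (mem_Ce.2 fun q hq => hι.inj (by
    rw [map_mul, map_mul, hr, mem_Ce.1 hz _ hq]))
  have hs1 := H34.indFun_mem _ _ (isClassFunction_blockPart _ _) (blockPart_mem_locRing hb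
    (H6.indFun_isClassFunction _ _) (H34.indFun_mem _ H hs0 hs))
  have key : ∀ χ : IrrCharacter G, ∃ τ, IsGeneralizedCharacter P τ ∧
      (∀ u : P, (w : G) ∈ zpowers (u : G) → D p P e u (χ : G → ℂ) =
        D p _ (pb ((Ce (zpowers (z : G))).subtype.comp H.subtype) e) (r u : H) (ζ : _ → ℂ) * τ u) ∧
      τ z⁻¹ = (p : ℂ) ^ blockDefect p B * classInner
        (indFun _ (blockPart (blk p P e z) (indFun H s))) χ := fun χ => by
    obtain ⟨τ, hτ, h3, h4⟩ := hs2 _ (H53.virt_res (virt_blockPart (blk p P e z)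
      (H53.virt_res (H53.virt_of_irr χ.2) _)) H)
    refine ⟨_, H53.virt_comp hτ r.toMonoidHom, fun u hu => ?_, ?_⟩
    · refine Eq.trans ?_ (h3 (r u))
      conv_lhs => rw [← hr u]
      exact L.D_part h hι hc hf (irr_cf χ.2) hzw (r u).2
        (by rw [← hr u] at hu; exact zpowers_le.2 hu)
    · rw [H6.classInner_indFun_left _ _ (irr_cf χ.2), classInner_blockPart,
        H6.classInner_indFun_left _ _ (isClassFunction_blockPart _ _), ← Nat.cast_pow, ← h.card_eq,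
        Nat.card_congr r.toEquiv, map_inv]
      exact h4
  obtain ⟨ξ, hξ, hξ0⟩ := exists_height_zero (p := p) (isPBlock_nonempty h.hB)
  refine ⟨fun u => D p _ (pb ((Ce (zpowers (z : G))).subtype.comp H.subtype) e) (r u : H) ζ, h,
    fun u hu => L.r1 h hnil u.2 (zpowers_le.2 hu), fun u hu => L.pow_df h hnil u (zpowers_le.2 hu),
    fun u hu v hv => L.fz_iff h hnil u v (zpowers_le.2 hu) (zpowers_le.2 hv),
    fun u => h'.D_mul_conj_of_nilp hn' hζ h0 _, fun u v huv => D_fz h' (irr_cf ζ.2) (r u).2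
      ((h'.fz_iff_of_nilp hn' _ _).2 (r.toMonoidHom.map_isConj huv)), fun χ hχ => ?_⟩
  obtain ⟨τ, h1, h2, h3⟩ := key χ
  obtain ⟨τ', h4, h5, h6⟩ := key ξ
  refine ⟨τ, h1, h2, h3 ▸ ci_div_mem h.hM (H6.indFun_isClassFunction _ _) hs1 hχ, ?_⟩
  rw [h3, ci_div_mem_iff h.hM h.hB (H6.indFun_isClassFunction _ _) hs1 hχ hξ, ← h6, hξ0, pow_zero,
    div_one, mem_locMax_iff_of_sub_mem (virt_sub_one_mem h.hM h.pgp h4 _),
    ← mem_locMax_iff_of_sub_mem (virt_sub_one_mem h.hM h.pgp h4 w)]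
  refine fun h7 => ((L.r1 h hnil w.2 le_rfl).not_mem_iff h w.2 hξ).2 hξ0 ?_
  rw [h5 w (mem_zpowers _)]
  exact mul_mem_locMax_left (mem_locRing_of_isIntegral ((r1_of_nilp' h' (r w).2 hn').isIntegral h'
    (r w).2 (H53.virt_of_irr ζ.2))) h7

end Cfsg.Agent.H86
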