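import Cfsg.Agent.H86.Var

/-! Integral contribution matrices of major subsections. -/

set_option autoImplicit false
set_option linter.unusedSectionVars false

namespace Cfsg.Agent.H86

open Finset

variable {ι : Type*} [DecidableEq ι] {I : Finset ι} {h : ι → ℕ} {N m l lz : ℤ}
  {A Z : ι → ι → ℤ} {s t r : ι → ℤ} {i j : ι}

variable (I h N l A) in
/-- The integral contribution matrix of a major subsection. -/
structure Mat : Prop where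
  symm : ∀ i ∈ I, ∀ j ∈ I, A i j = A j i
  sq : ∀ i ∈ I, ∑ j ∈ I, A i j ^ 2 = N * A i i
  tr : ∑ i ∈ I, A i i = N * l
  dvd : ∀ i ∈ I, ∀ j ∈ I, 2 ^ h j ∣ A i j
  dvd' : ∀ i ∈ I, ∀ j ∈ I, 2 ^ (h j + 1) ∣ A i j ↔ h i ≠ 0
  pos : ∀ i ∈ I, 0 < A i i

theorem sum_split (I : Finset ι) (h : ι → ℕ) (f : ι → ℤ) : ∑ i ∈ I, f i =
    ∑ i ∈ I with h i = 0, f i + ∑ i ∈ I with h i = 1, f i + ∑ i ∈ I with 2 ≤ h i, f i := by
  simp only [sum_filter, ← sum_add_distrib]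
  exact sum_congr rfl fun i _ => by split_ifs <;> omega

theorem card_split (I : Finset ι) (h : ι → ℕ) : (#I : ℤ) =
    #{i ∈ I | h i = 0} + #{i ∈ I | h i = 1} + #{i ∈ I | 2 ≤ h i} := by
  simpa using sum_split I h fun _ => 1

theorem sum_eq_card_mul {T : Finset ι} {f : ι → ℤ} {c : ℤ} (H : ∀ i ∈ T, f i = c) :
    ∑ i ∈ T, f i = #T * c := by rw [sum_congr rfl H, sum_const, nsmul_eq_mul]

theorem sum_le_card_mul {T : Finset ι} {f : ι → ℤ} {c : ℤ} (H : ∀ i ∈ T, f i ≤ c) :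
    ∑ i ∈ T, f i ≤ #T * c := by simpa using sum_le_sum H

theorem card_mul_le_sum {T : Finset ι} {f : ι → ℤ} {c : ℤ} (H : ∀ i ∈ T, c ≤ f i) :
    #T * c ≤ ∑ i ∈ T, f i := by simpa using sum_le_sum H

namespace Mat

variable (H : Mat I h N l A)
include H

theorem exists_odd (hi : i ∈ I) (h0 : h i = 0) (hj : j ∈ I) :
    ∃ c, A i j = 2 ^ h j * (2 * c + 1) := by
  obtain ⟨c, hc⟩ := H.dvd i hi j hj
  rcases Int.even_or_odd' c with ⟨d, rfl | rfl⟩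
  · exact absurd h0 ((H.dvd' i hi j hj).1 ⟨d, by rw [hc]; ring⟩)
  · exact ⟨d, hc⟩

theorem odd (hi : i ∈ I) (h0 : h i = 0) : ∃ c, A i i = 2 * c + 1 := by
  simpa [h0] using H.exists_odd hi h0 hi

theorem pow_le_sq (hi : i ∈ I) (h0 : h i = 0) (hj : j ∈ I) : (2 ^ h j) ^ 2 ≤ A i j ^ 2 := by
  obtain ⟨c, hc⟩ := H.exists_odd hi h0 hj
  rw [hc, mul_pow]
  exact le_mul_of_one_le_right (by positivity) (by nlinarith [Int.le_self_sq (-c)])

theorem pow_le (hi : i ∈ I) (h0 : h i ≠ 0) : 2 * 2 ^ h i ≤ A i i := by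
  rw [← pow_succ']; exact Int.le_of_dvd (H.pos i hi) ((H.dvd' i hi i hi).2 h0)

theorem sq_le (hi : i ∈ I) (h0 : h i = 0) : A i i ^ 2 + ∑ j ∈ I, (2 ^ h j) ^ 2 ≤ N * A i i + 1 := by
  rw [← H.sq i hi, ← add_sum_erase _ _ hi, ← add_sum_erase _ _ hi, h0]
  have := sum_le_sum fun j (hj : j ∈ I.erase i) => H.pow_le_sq hi h0 (mem_of_mem_erase hj)
  omega

theorem l_pos (hN : 0 < N) (hi : i ∈ I) : 0 < l :=
  pos_of_mul_pos_right (H.tr ▸ sum_pos H.pos ⟨i, hi⟩) hN.le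

theorem odd_card (hN : 8 ∣ N) (h4 : #{i ∈ I | h i = 0} = 4) : Odd #{i ∈ I | h i = 1} := by
  obtain ⟨i, hi⟩ := card_pos.1 (h4 ▸ four_pos)
  rw [mem_filter] at hi
  have h1 : ∀ c : ℤ, 8 ∣ (2 * c + 1) ^ 2 - 1 := fun c => by
    obtain ⟨d, hd⟩ := Int.even_mul_succ_self c
    exact ⟨d, by linear_combination 4 * hd⟩
  have h2 : 8 ∣ ∑ j ∈ I with h j = 0, (A i j ^ 2 - 1) := dvd_sum fun j hj => by
    obtain ⟨c, hc⟩ := H.exists_odd hi.1 hi.2 (mem_filter.1 hj).1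
    simpa [hc, (mem_filter.1 hj).2] using h1 c
  have h3 : 8 ∣ ∑ j ∈ I with h j = 1, (A i j ^ 2 - 4) := dvd_sum fun j hj => by
    obtain ⟨c, hc⟩ := H.exists_odd hi.1 hi.2 (mem_filter.1 hj).1
    rw [hc, (mem_filter.1 hj).2]
    exact ((h1 c).mul_left 4).trans (dvd_of_eq (by ring))
  have h5 : 8 ∣ ∑ j ∈ I with 2 ≤ h j, A i j ^ 2 := dvd_sum fun j hj => by
    obtain ⟨c, hc⟩ := (pow_dvd_pow 2 (mem_filter.1 hj).2).trans (H.dvd i hi.1 j (mem_filter.1 hj).1)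
    exact ⟨2 * c ^ 2, by rw [hc]; ring⟩
  have h6 := H.sq i hi.1 ▸ hN.mul_right (A i i)
  rw [sum_split I h] at h6
  simp only [sum_sub_distrib, sum_const, h4, nsmul_eq_mul] at h2 h3
  rw [Nat.odd_iff]
  omega

end Mat

end Cfsg.Agent.H86
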