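import Mathlib.Algebra.Quaternion
import Mathlib.Algebra.Order.Round
import Mathlib.Tactic

/-! Binary Hermitian forms of determinant one over the Hurwitz quaternions represent one. -/

set_option autoImplicit false

open Quaternion

namespace Cfsg.Agent.H86.Nbr

/-- Hurwitz quaternions. -/
def Hz (q : ℍ[ℚ]) : Prop :=
  ∃ a b c d e : ℤ, q.re = a + e / 2 ∧ q.imI = b + e / 2 ∧ q.imJ = c + e / 2 ∧ q.imK = d + e / 2

theorem Hz.mul {x y : ℍ[ℚ]} (hx : Hz x) (hy : Hz y) : Hz (x * y) := by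
  obtain ⟨a, b, c, d, e, h1, h2, h3, h4⟩ := hx
  obtain ⟨a', b', c', d', e', k1, k2, k3, k4⟩ := hy
  refine ⟨a * a' - b * b' - c * c' - d * d' - e * (b' + c' + d') - e' * (b + c + d) - e * e',
    a * b' + b * a' + c * d' - d * c' - e * c' - e' * d,
    a * c' - b * d' + c * a' + d * b' - e * d' - e' * b,
    a * d' + b * c' - c * b' + d * a' - e * b' - e' * c,
    e * (a' + b' + c' + d') + e' * (a + b + c + d) + e * e', ?_, ?_, ?_, ?_⟩ <;>
  · simp only [re_mul, imI_mul, imJ_mul, imK_mul, h1, h2, h3, h4, k1, k2, k3, k4]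
    push_cast
    ring

theorem Hz.conj {x : ℍ[ℚ]} (hx : Hz x) : Hz (star x) := by
  obtain ⟨a, b, c, d, e, h1, h2, h3, h4⟩ := hx
  refine ⟨a, -b - e, -c - e, -d - e, e, ?_, ?_, ?_, ?_⟩ <;>
  · simp only [re_star, imI_star, imJ_star, imK_star, h1, h2, h3, h4]
    try (push_cast; ring)

theorem Hz.sub_smul {x y : ℍ[ℚ]} (hx : Hz x) (hy : Hz y) (m : ℤ) : Hz (x - (m : ℚ) • y) := by
  obtain ⟨a, b, c, d, e, h1, h2, h3, h4⟩ := hx
  obtain ⟨a', b', c', d', e', k1, k2, k3, k4⟩ := hy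
  refine ⟨a - m * a', b - m * b', c - m * c', d - m * d', e - m * e', ?_, ?_, ?_, ?_⟩ <;>
  · simp only [re_sub, imI_sub, imJ_sub, imK_sub, re_smul, imI_smul, imJ_smul, imK_smul, h1, h2,
      h3, h4, k1, k2, k3, k4, smul_eq_mul]
    push_cast
    ring

theorem Hz.norm {x : ℍ[ℚ]} (hx : Hz x) : ∃ n : ℤ, normSq x = n := by
  obtain ⟨a, b, c, d, e, h1, h2, h3, h4⟩ := hx
  exact ⟨a ^ 2 + b ^ 2 + c ^ 2 + d ^ 2 + e * (a + b + c + d) + e ^ 2, by
    rw [normSq_def', h1, h2, h3, h4]; push_cast; ring⟩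

theorem Hz.tr {x : ℍ[ℚ]} (hx : Hz x) : ∃ n : ℤ, 2 * x.re = n := by
  obtain ⟨a, b, c, d, e, h1, -⟩ := hx
  exact ⟨2 * a + e, by rw [h1]; push_cast; ring⟩

theorem rnd (x : ℚ) : (x - round x) ^ 2 + (x - (⌊x⌋ + 1 / 2)) ^ 2 ≤ 1 / 4 := by
  have h := abs_sub_round_eq_min x
  have h1 := Int.fract_nonneg x
  have h2 := Int.fract_lt_one x
  rw [← sq_abs, h, show x - (⌊x⌋ + 1 / 2) = Int.fract x - 1 / 2 by rw [Int.fract]; ring]
  rcases le_total (Int.fract x) (1 - Int.fract x) with h3 | h3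
  · rw [min_eq_left h3]; nlinarith
  · rw [min_eq_right h3]; nlinarith

theorem approx (q : ℍ[ℚ]) : ∃ l, Hz l ∧ normSq (q - l) ≤ 1 / 2 := by
  have h1 := rnd q.re
  have h2 := rnd q.imI
  have h3 := rnd q.imJ
  have h4 := rnd q.imK
  by_cases h : (q.re - round q.re) ^ 2 + (q.imI - round q.imI) ^ 2 + (q.imJ - round q.imJ) ^ 2 +
      (q.imK - round q.imK) ^ 2 ≤ 1 / 2
  · exact ⟨⟨round q.re, round q.imI, round q.imJ, round q.imK⟩,
      ⟨round q.re, round q.imI, round q.imJ, round q.imK, 0, by simp, by simp, by simp, by simp⟩,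
      by rw [normSq_def']; exact h⟩
  · refine ⟨⟨⌊q.re⌋ + 1 / 2, ⌊q.imI⌋ + 1 / 2, ⌊q.imJ⌋ + 1 / 2, ⌊q.imK⌋ + 1 / 2⟩,
      ⟨⌊q.re⌋, ⌊q.imI⌋, ⌊q.imJ⌋, ⌊q.imK⌋, 1, by simp, by simp, by simp, by simp⟩, ?_⟩
    rw [normSq_def']
    change (q.re - (⌊q.re⌋ + 1 / 2)) ^ 2 + (q.imI - (⌊q.imI⌋ + 1 / 2)) ^ 2 +
      (q.imJ - (⌊q.imJ⌋ + 1 / 2)) ^ 2 + (q.imK - (⌊q.imK⌋ + 1 / 2)) ^ 2 ≤ 1 / 2
    linarith

theorem one (m : ℕ) : ∀ (n : ℤ) (κ : ℍ[ℚ]), Hz κ → 0 < m → m * n - normSq κ = 1 →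
    ∃ α β, Hz α ∧ Hz β ∧ m * normSq α + 2 * (α * κ * star β).re + n * normSq β = 1 := by
  induction m using Nat.strong_induction_on with
  | _ m ih =>
  intro n κ hκ h0 h
  rcases (show m = 1 ∨ 2 ≤ m by omega) with rfl | h2
  · exact ⟨1, 0, ⟨1, 0, 0, 0, 0, by simp, by simp, by simp, by simp⟩,
      ⟨0, 0, 0, 0, 0, by simp, by simp, by simp, by simp⟩, by simp⟩
  have m2 : (2 : ℚ) ≤ m := by exact_mod_cast h2
  obtain ⟨l, hl, e⟩ := approx ((m : ℚ)⁻¹ • κ)
  have hk := hκ.sub_smul hl m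
  obtain ⟨k, ek⟩ : ∃ k, k = κ - ((m : ℤ) : ℚ) • l := ⟨_, rfl⟩
  rw [← ek] at hk
  obtain rfl : κ = k + (m : ℚ) • l := by rw [ek]; simp
  have e1 : normSq k ≤ (m : ℚ) ^ 2 / 2 := by
    rw [smul_add, smul_smul, inv_mul_cancel₀ (by positivity), one_smul, add_sub_cancel_right,
      normSq_smul, inv_pow, inv_mul_le_iff₀ (by positivity)] at e
    linarith
  obtain ⟨a, ha⟩ := hl.norm
  obtain ⟨b, hb⟩ := (hl.conj.mul hk).tr
  have e2 : (m : ℚ) * (n - m * a - b : ℤ) - normSq (star k) = 1 := by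
    push_cast
    rw [← h, ← ha, ← hb]
    simp only [normSq_def', re_mul, re_star, imI_star, imJ_star, imK_star, re_add, imI_add,
      imJ_add, imK_add, re_smul, imI_smul, imJ_smul, imK_smul, smul_eq_mul]
    ring
  obtain ⟨n', en⟩ : ∃ n' : ℤ, n' = n - m * a - b := ⟨_, rfl⟩
  rw [← en] at e2
  have n0 : (0 : ℚ) ≤ normSq k := normSq_nonneg
  rw [normSq_star] at e2
  have p1 : 0 < n' := by
    have : (0 : ℚ) < n' := by nlinarith
    exact_mod_cast this
  have p2 : n' < m := by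
    have : (n' : ℚ) < m := by nlinarith
    exact_mod_cast this
  lift n' to ℕ using p1.le
  obtain ⟨β, α, hβ, hα, e3⟩ := ih n' (by exact_mod_cast p2) m (star k) hk.conj
    (by exact_mod_cast p1) (by rw [normSq_star, ← e2]; push_cast; ring)
  refine ⟨α - ((1 : ℤ) : ℚ) • (β * star l), β, hα.sub_smul (hβ.mul hl.conj) 1, hβ, ?_⟩
  have en' : (n : ℚ) = n' + m * a + b := by
    have : (n : ℤ) = n' + m * a + b := by omega
    exact_mod_cast this
  refine Eq.trans ?_ e3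
  rw [en', ← ha, ← hb]
  simp only [normSq_def', re_mul, imI_mul, imJ_mul, imK_mul, re_star, imI_star, imJ_star,
    imK_star, re_add, imI_add, imJ_add, imK_add, re_sub, imI_sub, imJ_sub, imK_sub, re_smul,
    imI_smul, imJ_smul, imK_smul, smul_eq_mul]
  push_cast
  ring

theorem eqn {p : ℕ} (hp : Odd p) (h1 : 1 < p) (x : Fin 4 → ℤ)
    (h : (p : ℤ) ∣ 1 + ∑ j, x j ^ 2) :
    ∃ (t : ℤ) (z : Fin 4 → ℤ), 0 < t ∧ t < p ∧ ∑ j, (t * x j + p * z j) ^ 2 = t * (p - t) := by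
  obtain ⟨n, hn⟩ := h
  rw [Fin.sum_univ_four] at hn
  have hq : (1 : ℚ) + (x 0 ^ 2 + x 1 ^ 2 + x 2 ^ 2 + x 3 ^ 2) = p * n := by exact_mod_cast hn
  let ξ : ℍ[ℚ] := ⟨x 0, x 1, x 2, x 3⟩
  have hξ : Hz ξ := ⟨x 0, x 1, x 2, x 3, 0, by simp [ξ], by simp [ξ], by simp [ξ], by simp [ξ]⟩
  obtain ⟨β, α, hβ, hα, e⟩ := one p n (star ξ) hξ.conj (by omega)
    (by rw [normSq_star, normSq_def', ← hq]; simp [ξ])
  obtain ⟨t, ht⟩ := hα.norm
  obtain ⟨s, hs⟩ := hβ.norm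
  obtain ⟨a, b, c, d, f, k1, k2, k3, k4⟩ := hα.conj.mul hβ
  have e1 : normSq (α * ξ + (p : ℚ) • β) = p - t := by
    rw [← ht]
    simp only [normSq_def', re_mul, imI_mul, imJ_mul, imK_mul, re_star, imI_star, imJ_star,
      imK_star, re_add, imI_add, imJ_add, imK_add, re_smul, imI_smul, imJ_smul, imK_smul,
      smul_eq_mul] at e ⊢
    simp only [ξ] at e ⊢
    linear_combination (α.re ^ 2 + α.imI ^ 2 + α.imJ ^ 2 + α.imK ^ 2) * hq + p * e
  have e2 : normSq ((t : ℚ) • ξ + (p : ℚ) • (star α * β)) = t * (p - t) := by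
    rw [← e1, ← ht, ← normSq_star α, ← map_mul, mul_add, ← mul_assoc, normSq_star, star_mul_self,
      coe_mul_eq_smul, mul_smul_comm]
  simp only [normSq_def', re_add, imI_add, imJ_add, imK_add, re_smul, imI_smul, imJ_smul,
    imK_smul, smul_eq_mul, k1, k2, k3, k4] at e2
  simp only [ξ] at e2
  have t0 : 0 ≤ t := by
    have : (0 : ℚ) ≤ t := ht ▸ normSq_nonneg
    exact_mod_cast this
  have t1 : t ≤ p := by
    have : (0 : ℚ) ≤ p - t := e1 ▸ normSq_nonneg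
    exact_mod_cast sub_nonneg.1 this
  have p1 : (1 : ℤ) < p := by exact_mod_cast h1
  obtain ⟨g, rfl | rfl⟩ := Int.even_or_odd' f
  · refine ⟨t, ![a + g, b + g, c + g, d + g], lt_of_le_of_ne t0 ?_, lt_of_le_of_ne t1 ?_, ?_⟩
    · rintro rfl
      rw [Int.cast_zero, normSq_eq_zero] at ht
      rw [ht, zero_mul, zero_add, normSq_smul, hs] at e1
      have : (p : ℤ) * (p * s) = p * 1 := by
        have : (p : ℚ) * (p * s) = p * 1 := by rw [Int.cast_zero] at e1; linear_combination e1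
        exact_mod_cast this
      have := Int.eq_one_of_mul_eq_one_right (by omega) (mul_left_cancel₀ (by omega) this)
      omega
    · rintro rfl
      rw [Int.cast_natCast, sub_self, normSq_eq_zero, add_eq_zero_iff_eq_neg] at e1
      have e3 := congrArg normSq e1
      rw [map_mul, normSq_neg, normSq_smul, ht, hs, normSq_def'] at e3
      have : (p : ℤ) * (p * (n - s)) = p * 1 := by
        have : (p : ℚ) * (p * (n - s)) = p * 1 := by
          simp only [ξ, Int.cast_natCast] at e3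
          linear_combination e3 - p * hq
        exact_mod_cast this
      have := Int.eq_one_of_mul_eq_one_right (by omega) (mul_left_cancel₀ (by omega) this)
      omega
    · have : (((t * x 0 + p * (a + g)) ^ 2 + (t * x 1 + p * (b + g)) ^ 2 +
          (t * x 2 + p * (c + g)) ^ 2 + (t * x 3 + p * (d + g)) ^ 2 : ℤ) : ℚ) =
          (t * (p - t) : ℤ) := by
        push_cast at e2 ⊢
        linear_combination e2
      rw [Fin.sum_univ_four]
      exact_mod_cast this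
  · exfalso
    obtain ⟨r, rfl⟩ := hp
    obtain ⟨A, hA⟩ : ∃ A, A = t * x 0 + (2 * r + 1) * (a + g) + r := ⟨_, rfl⟩
    obtain ⟨B, hB⟩ : ∃ B, B = t * x 1 + (2 * r + 1) * (b + g) + r := ⟨_, rfl⟩
    obtain ⟨C, hC⟩ : ∃ C, C = t * x 2 + (2 * r + 1) * (c + g) + r := ⟨_, rfl⟩
    obtain ⟨D, hD⟩ : ∃ D, D = t * x 3 + (2 * r + 1) * (d + g) + r := ⟨_, rfl⟩
    have : ((A * (A + 1) + B * (B + 1) + C * (C + 1) + D * (D + 1) + 1 : ℤ) : ℚ) =
        (2 * (t * (r + 1)) - t * (t + 1) : ℤ) := by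
      rw [hA, hB, hC, hD]
      push_cast at e2 ⊢
      linear_combination e2
    have h5 := Int.cast_injective this
    have := Int.even_mul_succ_self A
    have := Int.even_mul_succ_self B
    have := Int.even_mul_succ_self C
    have := Int.even_mul_succ_self D
    have := Int.even_mul_succ_self t
    simp only [Int.even_iff] at *
    omega

end Cfsg.Agent.H86.Nbr
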