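import Cfsg.Agent.H89.RelMain
import Cfsg.Agent.H89.CosetSum
import Cfsg.Agent.H87.SylIn
import Cfsg.Agent.H6.Good

/-! Extensions of invariant characters and Gallagher's count of the characters over an invariant
character (ambient form). -/

set_option autoImplicit false
set_option linter.unusedSectionVars false

namespace Cfsg.Agent.H86.OW

open Cfsg Cfsg.Agent.H5 Cfsg.Agent.H89 Subgroup ComplexConjugate
open Cfsg.Agent.H87 hiding cj stab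

variable {Γ : Type*} [Group Γ] [Finite Γ] {K X Y D : Subgroup Γ}

/-- `η` restricts to `θ`. -/
def Rs (η : X → ℂ) (θ : K → ℂ) : Prop := ∃ h : K ≤ X, ∀ k, η (inclusion h k) = θ k

/-- `χ` lies over `θ`. -/
def Ov (χ : X → ℂ) (θ : K → ℂ) : Prop := ∃ h : K ≤ X, mlt (inclusion h) χ θ ≠ 0

variable (X) in
/-- `θ` extends to `X`. -/
def Ext (θ : K → ℂ) : Prop := ∃ η : IrrCharacter X, Rs η.1 θ

variable (X) in
/-- The number of irreducible characters of `X` over `θ`. -/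
noncomputable def nOv (θ : K → ℂ) : ℕ := Nat.card {χ : IrrCharacter X // Ov χ.1 θ}

theorem Rs.trans {η : X → ℂ} {ξ : Y → ℂ} {θ : K → ℂ} (h : Rs η ξ) (h' : Rs ξ θ) : Rs η θ := by
  obtain ⟨a, h⟩ := h
  obtain ⟨b, h'⟩ := h'
  exact ⟨b.trans a, fun k => (h (inclusion b k)).trans (h' k)⟩

theorem Rs.isIrr {η : X → ℂ} {θ : IrrCharacter K} (h : K ≤ X) (hη : Rs η θ.1) :
    IsIrrCharacter K fun k => η (inclusion h k) := by
  obtain ⟨a, hη⟩ := hη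
  rw [show (fun k => η (inclusion h k)) = θ.1 from funext hη]
  exact θ.2

theorem Rs.eq {η : X → ℂ} {θ θ' : IrrCharacter K} (h : Rs η θ.1) (h' : Rs η θ'.1) : θ = θ' := by
  obtain ⟨a, h⟩ := h
  obtain ⟨b, h'⟩ := h'
  exact Subtype.ext (funext fun k => (h k).symm.trans (h' k))

theorem Rs.apply {η : X → ℂ} {θ : K → ℂ} (h : Rs η θ) {x : X} {k : K} (e : (x : Γ) = k) :
    η x = θ k := by
  obtain ⟨a, h⟩ := h
  rw [← h k]
  exact congrArg η (Subtype.ext e)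

theorem Rs.exists_res {η : IrrCharacter X} {θ : IrrCharacter K} (h : Rs η.1 θ.1) (h1 : K ≤ Y)
    (h2 : Y ≤ X) : ∃ ξ : IrrCharacter Y, Rs η.1 ξ.1 ∧ Rs ξ.1 θ.1 :=
  ⟨⟨fun y => η.1 (inclusion h2 y), H30.isIrr_of_comp
    (isCharacter_comp (isCharacter_of_isIrr η.2) _) (inclusion h1) (h.isIrr (h1.trans h2))⟩,
    ⟨h2, fun _ => rfl⟩, h1, fun _ => h.apply rfl⟩

theorem Ext.mono {θ : IrrCharacter K} (h : Ext X θ.1) (h1 : K ≤ Y) (h2 : Y ≤ X) : Ext Y θ.1 := by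
  obtain ⟨η, h⟩ := h
  obtain ⟨ξ, -, h'⟩ := h.exists_res h1 h2
  exact ⟨ξ, h'⟩

theorem Rs.mlt_eq {η : X → ℂ} {θ : IrrCharacter K} (h : Rs η θ.1) (a : K ≤ X)
    (θ' : IrrCharacter K) [Decidable (θ = θ')] :
    mlt (inclusion a) η θ'.1 = if θ = θ' then 1 else 0 := by
  classical
  have := Fintype.ofFinite K
  obtain ⟨b, h⟩ := h
  apply mlt_eq_of
  rw [show (fun k => η (inclusion a k)) = θ.1 from funext h, classInner_irrCharacter]
  split_ifs <;> simp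

theorem Rs.ov {η : X → ℂ} {θ : IrrCharacter K} (h : Rs η θ.1) : Ov η θ.1 := by
  classical
  exact ⟨h.1, by rw [h.mlt_eq, if_pos rfl]; exact one_ne_zero⟩

theorem Rs.eq_of_ov {η : X → ℂ} {θ θ' : IrrCharacter K} (h : Rs η θ.1) (h' : Ov η θ'.1) :
    θ = θ' := by
  classical
  obtain ⟨a, h'⟩ := h'
  rw [h.mlt_eq] at h'
  by_contra e
  exact h' (if_neg e)

theorem Rs.sInv {η : X → ℂ} {θ : K → ℂ} (h : Rs η θ) {S : Subgroup Γ} (hS : SInv S X η) :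
    SInv S K θ := fun s hs k k' e =>
  (h.apply (x := inclusion h.1 k') rfl).symm.trans
    ((hS s hs (inclusion h.1 k) (inclusion h.1 k') e).trans (h.apply rfl))

theorem Rs.two {η η' : IrrCharacter X} {θ : IrrCharacter K} (h : Rs η.1 θ.1) (h' : Rs η'.1 θ.1)
    (hX : X ≤ No K) : ∃ μ : X →* ℂˣ, (∀ x : X, (x : Γ) ∈ K → μ x = 1) ∧
      ∀ x, η'.1 x = μ x * η.1 x := by
  obtain ⟨μ, h1, h2⟩ := H30.exists_hom_of_two_extensions (inclusion h.1)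
    (normal_range_inclusion h.1 hX) (isCharacter_of_isIrr η.2) (isCharacter_of_isIrr η'.2)
    (fun k => (h'.apply rfl).trans (h.apply rfl).symm) (h.isIrr h.1)
  exact ⟨μ, fun x hx => h1 ⟨x, hx⟩, congrFun h2⟩

theorem Rs.exists_ne_zero {η : IrrCharacter X} {θ : IrrCharacter K} (h : Rs η.1 θ.1)
    (hX : X ≤ No K) (g : X) : ∃ k : X, (k : Γ) ∈ K ∧ η.1 (k * g) ≠ 0 := by
  have := Fintype.ofFinite K
  by_contra h0
  push Not at h0
  have h1 := sum_coset_mul_conj_self (inclusion h.1) (inclusion_injective _)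
    (normal_range_inclusion h.1 hX) (isCharacter_of_isIrr η.2) (h.isIrr h.1) g
  rw [Finset.sum_eq_zero fun k _ => by rw [h0 _ k.2, zero_mul], mul_zero] at h1
  exact zero_ne_one h1

theorem hom_eq_one {A B : Subgroup Γ} {M : Type*} [Group M] (hY : Y ≤ A ⊔ B) (hA : A ≤ Y)
    (hB : B ≤ Y) (μ : Y →* M) (h1 : ∀ x : Y, (x : Γ) ∈ A → μ x = 1)
    (h2 : ∀ x : Y, (x : Γ) ∈ B → μ x = 1) (x : Y) : μ x = 1 := by
  have : A ⊔ B ≤ μ.ker.map Y.subtype := sup_le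
    (fun a ha => ⟨⟨a, hA ha⟩, h1 _ ha, rfl⟩) fun a ha => ⟨⟨a, hB ha⟩, h2 _ ha, rfl⟩
  obtain ⟨y, hy, e⟩ := this (hY x.2)
  rwa [← show y = x from Subtype.ext e]

theorem ext_zpowers {θ : IrrCharacter K} {g : Γ} (hg : g ∈ stab K θ.1) :
    Ext (K ⊔ zpowers g) θ.1 := by
  have h1 : K ⊔ zpowers g ≤ stab K θ.1 := sup_le (le_stab_self θ) (zpowers_le.2 hg)
  have a : K ≤ K ⊔ zpowers g := le_sup_left
  have := normal_range_inclusion a (h1.trans (stab_le_normalizer _ _))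
  have hg' : g ∈ K ⊔ zpowers g := le_sup_right (a := K) (mem_zpowers g)
  obtain ⟨ψ, h2, h3⟩ := exists_ext_of_isCyclic (inclusion a) (inclusion_injective _)
    (isCyclic_quotient_of_sup_zpowers _ (x := ⟨g, hg'⟩) (by
      apply map_injective (K ⊔ zpowers g).subtype_injective
      rw [Subgroup.map_sup, inclusion_range, map_subgroupOf_eq_of_le a, MonoidHom.map_zpowers,
        ← MonoidHom.range_eq_map, range_subtype]
      rfl)) θ.2 fun y k k' e => (h1 y.2).2 k k' (congrArg Subtype.val e)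
  exact ⟨⟨ψ, h2⟩, a, h3⟩

theorem sup_zpowers_eq {a b : Γ} (h : a * b⁻¹ ∈ K) : K ⊔ zpowers a = K ⊔ zpowers b := by
  have key : ∀ a b : Γ, a * b⁻¹ ∈ K → K ⊔ zpowers a ≤ K ⊔ zpowers b := fun a b h =>
    sup_le le_sup_left (zpowers_le.2 (by
      simpa using mul_mem (le_sup_left (b := zpowers b) h) (le_sup_right (a := K) (mem_zpowers b))))
  exact le_antisymm (key a b h) (key b a (by simpa using inv_mem h))

theorem comm_mem {g y x : Γ} (hy : y ∈ No K) (hc : y * g * y⁻¹ * g⁻¹ ∈ K) (hx : x * g⁻¹ ∈ K) :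
    y * x * y⁻¹ * x⁻¹ ∈ K := by
  have := mul_mem (mul_mem (conj_mem_of_No hy hx) hc) (inv_mem hx)
  convert this using 1
  group

/-- Extension by zero. -/
noncomputable abbrev ex (η : X → ℂ) : Γ → ℂ := extendByZero X η

theorem ex_coe (η : X → ℂ) (x : X) : ex η x = η x := H6.extendByZero_of_mem X η x.2

theorem Rs.ex_eq {η : X → ℂ} {θ : K → ℂ} (h : Rs η θ) {x : Γ} (hx : x ∈ K) : ex η x = ex θ x :=
  (ex_coe η ⟨x, h.1 hx⟩).trans ((h.apply rfl).trans (ex_coe θ ⟨x, hx⟩).symm)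

theorem mem_sup_zpowers {g x : Γ} (hx : x * g⁻¹ ∈ K) : x ∈ K ⊔ zpowers g := by
  simpa using mul_mem (le_sup_left (b := zpowers g) hx) (le_sup_right (a := K) (mem_zpowers g))

theorem Rs.exists_ex_ne_zero {g : Γ} {η : IrrCharacter Y} (hY : Y = K ⊔ zpowers g)
    {θ : IrrCharacter K} (h : Rs η.1 θ.1) (hg : g ∈ No K) : ∃ x, x * g⁻¹ ∈ K ∧ ex η.1 x ≠ 0 := by
  subst hY
  obtain ⟨k, h1, h2⟩ := h.exists_ne_zero (sup_le le_normalizer (zpowers_le.2 hg))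
    ⟨g, mem_sup_zpowers (by simp)⟩
  exact ⟨k * g, by simpa using h1, by rw [← ex_coe η.1] at h2; exact h2⟩

theorem exists_scalar {θ : IrrCharacter K} {g y : Γ} (hg : g ∈ stab K θ.1) (hy : y ∈ stab K θ.1)
    (hc : y * g * y⁻¹ * g⁻¹ ∈ K) (hY : Y = K ⊔ zpowers g) {η : IrrCharacter Y}
    (hη : Rs η.1 θ.1) : ∃ m : ℂ, (∀ x, x * g⁻¹ ∈ K → ex η.1 (y * x * y⁻¹) = m * ex η.1 x) ∧
      (m = 1 ↔ Ext (Y ⊔ zpowers y) θ.1) := by
  have hYK : Y ≤ No K := hY.le.trans (sup_le le_normalizer (zpowers_le.2 hg.1))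
  have hyY : y ∈ No Y := by
    rw [mem_No_iff_cjS, hY, cjS_sup, mem_No_iff_cjS.1 hy.1, cjS, MonoidHom.map_zpowers]
    exact sup_zpowers_eq hc
  have hm : ∀ {x}, x * g⁻¹ ∈ K → x ∈ Y := fun hx => hY.ge (mem_sup_zpowers hx)
  have hgY : g ∈ Y := hm (by simp)
  obtain ⟨μ, h1, h2⟩ := hη.two (η' := ⟨_, isIrrCharacter_comp_equiv η.2 (cj Y y hyY)⟩)
    ⟨hη.1, fun k => (hη.apply (x := cj Y y hyY (inclusion hη.1 k))
      (k := ⟨_, conj_mem_of_No hy.1 k.2⟩) rfl).trans (hy.2 k _ rfl)⟩ hYK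
  have h3 : ∀ (ν : Y →* ℂˣ), (∀ x : Y, (x : Γ) ∈ K → ν x = 1) → ∀ a b : Y,
      (a : Γ) * (b : Γ)⁻¹ ∈ K → ν a = ν b := fun ν hν a b h => by
    have := hν (a * b⁻¹) h
    rwa [map_mul, map_inv, mul_inv_eq_one] at this
  have h4 : ∀ x, x * g⁻¹ ∈ K → ex η.1 (y * x * y⁻¹) = μ ⟨g, hgY⟩ * ex η.1 x := fun x hx => by
    have := h2 ⟨x, hm hx⟩
    rw [h3 μ h1 _ ⟨g, hgY⟩ hx, ← ex_coe η.1, ← ex_coe η.1] at this
    exact this
  refine ⟨μ ⟨g, hgY⟩, h4, fun h => ?_, fun ⟨τ, hτ⟩ => ?_⟩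
  · have h' : μ ⟨g, hgY⟩ = 1 := Units.ext h
    have h5 := hom_eq_one hY.le hη.1 (zpowers_le.2 hgY) μ h1 fun x hx => by
      obtain ⟨n, hn⟩ := mem_zpowers_iff.1 hx
      rw [show x = ⟨g, hgY⟩ ^ n from Subtype.ext hn.symm, map_zpow, h', one_zpow]
    obtain ⟨τ, hτ⟩ := ext_zpowers (θ := η) (g := y) ⟨hyY, fun x x' e => by
      have := h2 x
      rw [h5, Units.val_one, one_mul] at this
      rw [← this]
      exact congrArg η.1 (Subtype.ext e)⟩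
    exact ⟨τ, hτ.trans hη⟩
  · obtain ⟨ξ, a1, a2⟩ := hτ.exists_res (Y := Y) hη.1 le_sup_left
    obtain ⟨ν, a3, a4⟩ := hη.two a2 hYK
    obtain ⟨x, hx, h0⟩ := hη.exists_ex_ne_zero hY hg.1
    have hx' : y * x * y⁻¹ ∈ Y := conj_mem_of_No hyY (hm hx)
    have a5 : ξ.1 ⟨_, hx'⟩ = ξ.1 ⟨x, hm hx⟩ := by
      rw [← a1.2, ← a1.2]
      exact isClassFunction_of_isCharacter (isCharacter_of_isIrr τ.2) (inclusion a1.1 ⟨x, hm hx⟩)
        ⟨y, le_sup_right (a := Y) (mem_zpowers y)⟩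
    rw [a4, a4, h3 ν a3 _ ⟨x, hm hx⟩ (comm_mem hy.1 hc hx), ← ex_coe η.1,
      ← ex_coe η.1, h4 x hx] at a5
    exact (mul_left_eq_self₀.1 (mul_left_cancel₀ (Units.ne_zero _) a5)).resolve_right h0

/-- Restriction does not change extendibility to `K⟨g, y⟩`. -/
theorem ext_iff_of_rs {ψ : IrrCharacter K} {θ : IrrCharacter D} (h : Rs ψ.1 θ.1) {g y : Γ}
    (hg : g ∈ stab K ψ.1) (hy : y ∈ stab K ψ.1) (hg' : g ∈ No D) (hy' : y ∈ No D)
    (hc : y * g * y⁻¹ * g⁻¹ ∈ D) :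
    Ext (K ⊔ zpowers g ⊔ zpowers y) ψ.1 ↔ Ext (D ⊔ zpowers g ⊔ zpowers y) θ.1 := by
  have a : ∀ z ∈ stab K ψ.1, z ∈ No D → z ∈ stab D θ.1 := fun z hz hz' =>
    ⟨hz', h.sInv (sInv_stab K ψ.1) z hz⟩
  obtain ⟨η, hη⟩ := ext_zpowers hg
  obtain ⟨ξ, h1, h2⟩ := (hη.trans h).exists_res (Y := D ⊔ zpowers g) le_sup_left
    (sup_le_sup_right h.1 _)
  obtain ⟨m, h3, h4⟩ := exists_scalar hg hy (h.1 hc) rfl hη
  obtain ⟨m', h5, h6⟩ := exists_scalar (a g hg hg') (a y hy hy') hc rfl h2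
  obtain ⟨x, hx, h0⟩ := h2.exists_ex_ne_zero rfl hg'
  have h7 := h3 x (h.1 hx)
  rw [h1.ex_eq (mem_sup_zpowers hx), h1.ex_eq (mem_sup_zpowers (by
    simpa [mul_assoc] using mul_mem (comm_mem hy' hc hx) hx)), h5 x hx] at h7
  rw [← h4, ← h6, mul_right_cancel₀ h0 h7]

end Cfsg.Agent.H86.OW
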