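import Cfsg.Agent.H86.OW1

/-! Gallagher's count of the characters over an invariant character. -/

set_option autoImplicit false
set_option linter.unusedSectionVars false

namespace Cfsg.Agent.H86.OW

open Cfsg Cfsg.Agent.H5 Cfsg.Agent.H89 Subgroup ComplexConjugate
open Cfsg.Agent.H87 hiding cj stab

theorem core_sum {G K : Type*} [Group G] [Group K] [Fintype G] [Fintype K] (ι : K →* G)
    (hι : Function.Injective ι) (hn : ι.range.Normal) (g : G) (F : G → ℂ) (T : Finset G)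
    (hT : ∀ y, y ∈ T ↔ y * g * y⁻¹ * g⁻¹ ∈ ι.range) :
    ∑ χ : IrrCharacter G, (∑ k, χ.1 (ι k * g) * conj (F (ι k * g))) *
        conj (∑ k, χ.1 (ι k * g) * conj (F (ι k * g))) =
      ∑ y ∈ T, ∑ k, conj (F (y * (ι k * g) * y⁻¹)) * F (ι k * g) := by
  classical
  rw [show T = Finset.univ.filter fun y => y * g * y⁻¹ * g⁻¹ ∈ ι.range by ext y; simp [hT]]
  have h1 : ∀ a b : G, ∑ χ : IrrCharacter G, χ.1 a * conj (χ.1 b) =
      ∑ y, if y * b * y⁻¹ = a then (1 : ℂ) else 0 := fun a b => by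
    rw [H6.sum_irr_mul_conj_eq_card, Finset.sum_boole, Nat.card_eq_fintype_card,
      Fintype.card_subtype]
  calc _ = ∑ k', ∑ k, (conj (F (ι k * g)) * F (ι k' * g)) *
        ∑ χ : IrrCharacter G, χ.1 (ι k * g) * conj (χ.1 (ι k' * g)) := by
        simp only [map_sum, map_mul, Complex.conj_conj, Finset.mul_sum, Finset.sum_mul]
        rw [Finset.sum_comm]
        refine Finset.sum_congr rfl fun k' _ => ?_
        rw [Finset.sum_comm]
        exact Finset.sum_congr rfl fun k _ => Finset.sum_congr rfl fun χ _ => by ring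
    _ = ∑ y, ∑ k', ∑ k, if y * (ι k' * g) * y⁻¹ = ι k * g then
          conj (F (ι k * g)) * F (ι k' * g) else 0 := by
        simp only [h1, Finset.mul_sum, mul_ite, mul_one, mul_zero]
        exact (Finset.sum_congr rfl fun k' _ => Finset.sum_comm).trans Finset.sum_comm
    _ = _ := by
        rw [Finset.sum_filter]
        refine Finset.sum_congr rfl fun y _ => ?_
        split_ifs with hy
        · refine Finset.sum_congr rfl fun k' _ => ?_
          obtain ⟨k, hk⟩ := mul_mem (hn.conj_mem _ ⟨k', rfl⟩ y) hy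
          have e : y * (ι k' * g) * y⁻¹ = ι k * g := by rw [hk]; group
          rw [Finset.sum_eq_single k (fun k₁ _ h => if_neg fun e' =>
            h (hι (mul_right_cancel (e'.symm.trans e)))) (by simp), if_pos e, e]
        · refine Finset.sum_eq_zero fun k' _ => Finset.sum_eq_zero fun k _ => if_neg fun e => hy ?_
          have := mul_mem (inv_mem (hn.conj_mem _ ⟨k', rfl⟩ y)) (ι.mem_range.2 ⟨k, rfl⟩)
          convert this using 1
          rw [eq_mul_inv_of_mul_eq e.symm]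
          group

theorem sum_eq_of_mul {G : Type*} [Group G] (T : Finset G) (hT : ∀ a ∈ T, ∀ b, a * b ∈ T ↔ b ∈ T)
    (m : G → ℂ) (hm : ∀ a ∈ T, ∀ b ∈ T, m (a * b) = m a * m b) [Decidable (∀ a ∈ T, m a = 1)] :
    ∑ a ∈ T, m a = if ∀ a ∈ T, m a = 1 then (T.card : ℂ) else 0 := by
  split_ifs with h
  · rw [Finset.sum_congr rfl h]; simp
  · push Not at h
    obtain ⟨a, ha, h⟩ := h
    have h1 : ∑ b ∈ T, m (a * b) = ∑ b ∈ T, m b :=
      Finset.sum_equiv (Equiv.mulLeft a) (fun b => (hT a ha b).symm) fun _ _ => rfl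
    rw [Finset.sum_congr rfl fun b hb => hm a ha b hb, ← Finset.mul_sum] at h1
    exact (mul_left_eq_self₀.1 h1).resolve_left h

variable {Γ : Type*} [Group Γ] [Finite Γ] {K X Y D : Subgroup Γ}

theorem comm_mul_iff {a g : Γ} (ha : a ∈ No K) (h : a * g * a⁻¹ * g⁻¹ ∈ K) (b : Γ) :
    a * b * g * (a * b)⁻¹ * g⁻¹ ∈ K ↔ b * g * b⁻¹ * g⁻¹ ∈ K := by
  rw [show a * b * g * (a * b)⁻¹ * g⁻¹ = a * (b * g * b⁻¹ * g⁻¹) * a⁻¹ * (a * g * a⁻¹ * g⁻¹) by
    group, K.mul_mem_cancel_right h]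
  exact (mem_normalizer_iff.1 ha _).symm

variable (X) in
/-- `g` is `θ`-good in `X`. -/
def Gd (θ : K → ℂ) (g : Γ) : Prop :=
  ∀ y ∈ X, y * g * y⁻¹ * g⁻¹ ∈ K → Ext (K ⊔ zpowers g ⊔ zpowers y) θ

open Classical in
theorem sum_coset [Fintype X] [Fintype K] {θ : IrrCharacter K} (hK : K ≤ X)
    (hX : X ≤ stab K θ.1) (g : X) :
    ∑ χ : IrrCharacter X with Ov χ.1 θ.1,
      ∑ k, χ.1 (inclusion hK k * g) * conj (χ.1 (inclusion hK k * g)) =
      ∑ y : X, if (y : Γ) * g * (y : Γ)⁻¹ * (g : Γ)⁻¹ ∈ K ∧ Gd X θ.1 g then 1 else 0 := by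
  obtain ⟨η, hη⟩ := ext_zpowers (hX g.2)
  have hXN := hX.trans (stab_le_normalizer _ _)
  have hY : K ⊔ zpowers (g : Γ) ≤ X := sup_le hK (zpowers_le.2 g.2)
  have hn := normal_range_inclusion hη.1 (hY.trans hXN)
  let g' : (K ⊔ zpowers (g : Γ) : Subgroup Γ) := ⟨g, mem_sup_zpowers (by simp)⟩
  have hF : ∀ k : K, ex η.1 (inclusion hK k * g : X) = η.1 (inclusion hη.1 k * g') := fun k =>
    ex_coe η.1 (inclusion hη.1 k * g')
  have hη' := isCharacter_of_isIrr η.2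
  have ha : ∑ k, η.1 (inclusion hη.1 k * g') * conj (η.1 (inclusion hη.1 k * g')) =
      Nat.card K := by
    have := sum_coset_mul_conj_self (inclusion hη.1) (inclusion_injective _) hn hη'
      (hη.isIrr hη.1) g'
    rwa [inv_mul_eq_one₀ natCard_ne_zero, eq_comm] at this
  set T : Finset X := Finset.univ.filter fun y => (y : Γ) * g * (y : Γ)⁻¹ * (g : Γ)⁻¹ ∈ K with hT
  have mT : ∀ {y : X}, y ∈ T ↔ (y : Γ) * g * (y : Γ)⁻¹ * (g : Γ)⁻¹ ∈ K := by simp [hT]
  have h1 := core_sum (inclusion hK) (inclusion_injective _) (normal_range_inclusion hK hXN) g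
    (fun x => ex η.1 x) T fun y => by rw [mT, inclusion_range, mem_subgroupOf]; rfl
  simp only [hF] at h1
  have h2 : ∀ χ : IrrCharacter X,
      (∑ k, χ.1 (inclusion hK k * g) * conj (η.1 (inclusion hη.1 k * g'))) *
        conj (∑ k, χ.1 (inclusion hK k * g) * conj (η.1 (inclusion hη.1 k * g'))) =
      if Ov χ.1 θ.1 then Nat.card K *
        ∑ k, χ.1 (inclusion hK k * g) * conj (χ.1 (inclusion hK k * g)) else 0 := fun χ => by
    have hχ := isCharacter_comp (isCharacter_of_isIrr χ.2) (inclusion hY)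
    split_ifs with h
    · obtain ⟨β, b1, b2, b3⟩ := exists_eq_mul_of_res_eq_smul (inclusion hη.1)
        (inclusion_injective _) hn hη' (hη.isIrr hη.1) hχ (e := mlt (inclusion hK) χ.1 θ.1)
        fun k => by
          rw [hη.2]
          exact res_eq_of_sInv hK hXN ((le_stab_iff hXN).1 hX) h.2 k
      have b4 : ∀ k, χ.1 (inclusion hK k * g) = β g' * η.1 (inclusion hη.1 k * g') := fun k => by
        rw [← apply_mul_of_apply_eq_degree b1 (b2 k) g']
        exact congrFun b3 (inclusion hη.1 k * g')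
      have b5 : ∑ k, χ.1 (inclusion hK k * g) * conj (η.1 (inclusion hη.1 k * g')) =
          β g' * Nat.card K := by
        rw [← ha, Finset.mul_sum]
        exact Finset.sum_congr rfl fun k _ => by rw [b4, mul_assoc]
      have b6 : ∑ k, χ.1 (inclusion hK k * g) * conj (χ.1 (inclusion hK k * g)) =
          β g' * conj (β g') * Nat.card K := by
        rw [← ha, Finset.mul_sum]
        exact Finset.sum_congr rfl fun k _ => by rw [b4, map_mul]; ring
      rw [b5, b6, map_mul, Complex.conj_natCast]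
      ring
    · have := sum_coset_mul_conj_eq_zero (inclusion hη.1) (inclusion_injective _) hn hχ hη' (by
        simp only [hη.2]
        exact by_contra fun e => h ⟨hK, (mlt_ne_zero_iff _ χ θ).2 e⟩) g'
      rw [mul_eq_zero, inv_eq_zero, or_iff_right natCard_ne_zero] at this
      exact mul_eq_zero_of_left this _
  have h3 : ∀ y : X, ∃ m : ℂ, (y : Γ) * g * (y : Γ)⁻¹ * (g : Γ)⁻¹ ∈ K →
      (∀ x, x * (g : Γ)⁻¹ ∈ K → ex η.1 (y * x * (y : Γ)⁻¹) = m * ex η.1 x) ∧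
        (m = 1 ↔ Ext (K ⊔ zpowers (g : Γ) ⊔ zpowers (y : Γ)) θ.1) := fun y => by
    by_cases h : (y : Γ) * g * (y : Γ)⁻¹ * (g : Γ)⁻¹ ∈ K
    · obtain ⟨m, hm⟩ := exists_scalar (hX g.2) (hX y.2) h rfl hη
      exact ⟨m, fun _ => hm⟩
    · exact ⟨0, fun h' => (h h').elim⟩
  choose m hm using h3
  obtain ⟨x, hx, h0⟩ := hη.exists_ex_ne_zero rfl (hXN g.2)
  have h5 := sum_eq_of_mul T (fun a ha b => by
      rw [mT, mT]
      exact comm_mul_iff (hXN a.2) (mT.1 ha) b) (fun y => conj (m y)) fun a ha b hb => by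
    have hb' : (b : Γ) * x * (b : Γ)⁻¹ * (g : Γ)⁻¹ ∈ K := by
      simpa [mul_assoc] using mul_mem (comm_mem (hXN b.2) (mT.1 hb) hx) hx
    have e1 := (hm (a * b) ((comm_mul_iff (hXN a.2) (mT.1 ha) b).2 (mT.1 hb))).1 x hx
    have e2 := (hm a (mT.1 ha)).1 _ hb'
    rw [(hm b (mT.1 hb)).1 x hx, ← mul_assoc (m a), show (a : Γ) * (b * x * (b : Γ)⁻¹) * (a : Γ)⁻¹ =
      (a * b : X) * x * ((a * b : X) : Γ)⁻¹ by simp [mul_assoc]] at e2
    have e3 : m (a * b) = m a * m b := mul_right_cancel₀ h0 (e1.symm.trans e2)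
    rw [← map_mul, e3]
  have h6 : (∀ a ∈ T, conj (m a) = 1) ↔ Gd X θ.1 g :=
    ⟨fun h y hy hc => (hm ⟨y, hy⟩ hc).2.1 (by simpa using congrArg conj (h _ (mT.2 hc))),
      fun h y hy => by rw [(hm y (mT.1 hy)).2.2 (h y y.2 (mT.1 hy)), map_one]⟩
  apply mul_left_cancel₀ (natCard_ne_zero (G := K))
  rw [Finset.mul_sum, Finset.sum_filter, ← Finset.sum_congr rfl fun χ _ => h2 χ, h1,
    Finset.sum_congr rfl (g := fun y => Nat.card K * conj (m y)) fun y hy => ?_,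
    ← Finset.mul_sum, h5]
  · congr 1
    by_cases h : Gd X θ.1 g
    · rw [if_pos (h6.2 h)]
      simp [h, hT]
    · rw [if_neg (mt h6.1 h)]
      simp [h]
  · rw [← ha, Finset.sum_mul]
    refine Finset.sum_congr rfl fun k _ => ?_
    have := (hm y (mT.1 hy)).1 (k * g) (by simp)
    rw [show ex η.1 (k * g) = _ from hF k] at this
    rw [show ex η.1 (y * (inclusion hK k * g) * y⁻¹ : X) = _ from this, map_mul]
    ring

open Classical in
/-- Gallagher's count. -/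
theorem card_mul_nOv [Fintype X] {θ : IrrCharacter K} (hK : K ≤ X) (hX : X ≤ stab K θ.1) :
    Nat.card K * Nat.card X * nOv X θ.1 = ∑ g : X, ∑ y : X,
      if (y : Γ) * g * (y : Γ)⁻¹ * (g : Γ)⁻¹ ∈ K ∧ Gd X θ.1 g then 1 else 0 := by
  have := Fintype.ofFinite K
  apply Nat.cast_injective (R := ℂ)
  push_cast
  rw [← Finset.sum_congr rfl fun g _ => sum_coset hK hX g, Finset.sum_comm, nOv,
    Nat.card_eq_fintype_card (α := {χ : IrrCharacter X // Ov χ.1 θ.1}), Fintype.card_subtype,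
    Finset.card_eq_sum_ones, Nat.cast_sum, Finset.mul_sum]
  refine Finset.sum_congr rfl fun χ _ => ?_
  have h := classInner_irr_self χ.2
  rw [classInner, inv_mul_eq_one₀ natCard_ne_zero] at h
  rw [Finset.sum_comm, Finset.sum_congr rfl fun k _ => Fintype.sum_equiv
    (Equiv.mulLeft (inclusion hK k))
    (fun g => χ.1 (inclusion hK k * g) * conj (χ.1 (inclusion hK k * g)))
    (fun g => χ.1 g * conj (χ.1 g)) fun _ => rfl, ← h]
  simp

theorem exists_mul_of_mem_sup (hY : Y ≤ No K) {x : Γ} (hx : x ∈ K ⊔ Y) :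
    ∃ k ∈ K, ∃ y ∈ Y, k * y = x := by
  rw [← SetLike.mem_coe, coe_mul_of_right_le_normalizer_left K Y hY] at hx
  exact hx

theorem sum_sup [Fintype X] [Fintype Y] (hX : X = K ⊔ Y) (hY : Y ≤ No K) (hD : D = K ⊓ Y)
    (F : Γ → ℕ) (hF : ∀ k ∈ K, ∀ y ∈ Y, F (k * y) = F y) :
    Nat.card D * ∑ x : X, F x = Nat.card K * ∑ y : Y, F y := by
  classical
  subst hX hD
  have := Fintype.ofFinite K
  let f : K × Y → (K ⊔ Y : Subgroup Γ) := fun a => ⟨a.1 * a.2, mul_mem_sup a.1.2 a.2.2⟩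
  have h1 : Nat.card K * ∑ y : Y, F y = ∑ a, F (f a) := by
    rw [Fintype.sum_prod_type, Finset.sum_congr rfl fun (k : K) _ =>
      Finset.sum_congr rfl fun (y : Y) _ => hF k k.2 y y.2]
    simp
  rw [h1, ← Finset.sum_fiberwise (g := f), Finset.mul_sum]
  refine Finset.sum_congr rfl fun x _ => ?_
  rw [Finset.sum_congr rfl fun a ha => by rw [(Finset.mem_filter.1 ha).2], Finset.sum_const,
    smul_eq_mul, ← Fintype.card_subtype, ← Nat.card_eq_fintype_card]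
  congr 1
  obtain ⟨k, hk, y, hy, e⟩ := exists_mul_of_mem_sup hY x.2
  refine Nat.card_congr (Equiv.ofBijective (fun c => ⟨(⟨k * c, mul_mem hk c.2.1⟩,
    ⟨(c : Γ)⁻¹ * y, mul_mem (inv_mem c.2.2) hy⟩), Subtype.ext (by simp [f, ← e, mul_assoc])⟩)
    ⟨fun c c' h => Subtype.ext ?_, fun a => ?_⟩)
  · exact mul_left_cancel (congrArg (fun a => (a.1.1 : Γ)) h)
  · have h2 : (a.1.1 : Γ) * a.1.2 = k * y := (congrArg Subtype.val a.2).trans e.symm
    have h3 : k⁻¹ * a.1.1 = y * (a.1.2 : Γ)⁻¹ := by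
      rw [inv_mul_eq_iff_eq_mul, ← mul_assoc, ← h2, mul_inv_cancel_right]
    refine ⟨⟨k⁻¹ * a.1.1, K.mul_mem (K.inv_mem hk) a.1.1.2,
      h3 ▸ Y.mul_mem hy (Y.inv_mem a.1.2.2)⟩,
      Subtype.ext (Prod.ext (Subtype.ext (by simp)) (Subtype.ext ?_))⟩
    simp [h3]

/-- Comparison of two character triples with the same quotient. -/
theorem nOv_eq (hX : X = K ⊔ Y) (hD : D = K ⊓ Y) {θ : IrrCharacter K} {φ : IrrCharacter D}
    (hθ : X ≤ stab K θ.1) (hφ : Y ≤ stab D φ.1)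
    (h : ∀ g ∈ Y, ∀ y ∈ Y, y * g * y⁻¹ * g⁻¹ ∈ D →
      (Ext (K ⊔ zpowers g ⊔ zpowers y) θ.1 ↔ Ext (D ⊔ zpowers g ⊔ zpowers y) φ.1)) :
    nOv X θ.1 = nOv Y φ.1 := by
  classical
  have := Fintype.ofFinite X
  have := Fintype.ofFinite Y
  have hK : K ≤ X := hX ▸ le_sup_left
  have hYX : Y ≤ X := hX ▸ le_sup_right
  have hN := hθ.trans (stab_le_normalizer _ _)
  have hY := hYX.trans hN
  have a1 : ∀ k ∈ K, ∀ y g : Γ, g ∈ X →
      (k * y * g * (k * y)⁻¹ * g⁻¹ ∈ K ↔ y * g * y⁻¹ * g⁻¹ ∈ K) := fun k hk y g hg =>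
    comm_mul_iff (le_normalizer hk) (by
      simpa [mul_assoc] using mul_mem hk (conj_mem_of_No (hN hg) (inv_mem hk))) y
  have a2 : ∀ k ∈ K, ∀ y ∈ X, ∀ g : Γ,
      (y * (k * g) * y⁻¹ * (k * g)⁻¹ ∈ K ↔ y * g * y⁻¹ * g⁻¹ ∈ K) := fun k hk y hy g =>
    ⟨fun h => comm_mem (hN hy) h (by simpa using hk), fun h => comm_mem (hN hy) h (by simpa)⟩
  have a3 : ∀ g ∈ Y, ∀ y ∈ Y, (y * g * y⁻¹ * g⁻¹ ∈ K ↔ y * g * y⁻¹ * g⁻¹ ∈ D) := fun g hg y hy =>
    hD ▸ ⟨fun h => ⟨h, Y.mul_mem (Y.mul_mem (Y.mul_mem hy hg) (Y.inv_mem hy)) (Y.inv_mem hg)⟩,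
      fun h => h.1⟩
  have a4 : ∀ k ∈ K, ∀ g, Gd X θ.1 (k * g) ↔ Gd X θ.1 g := fun k hk g =>
    forall₂_congr fun y hy => by rw [a2 k hk y hy, sup_zpowers_eq (K := K) (b := g) (by simpa)]
  have a5 : ∀ g ∈ Y, Gd X θ.1 g ↔ Gd Y φ.1 g := fun g hg => by
    refine ⟨fun H y hy hc => (h g hg y hy hc).1 (H y (hYX hy) ((a3 g hg y hy).2 hc)),
      fun H x hx hc => ?_⟩
    obtain ⟨k, hk, y, hy, rfl⟩ := exists_mul_of_mem_sup hY (hX ▸ hx)
    have hc' := (a3 g hg y hy).1 ((a1 k hk y g (hYX hg)).1 hc)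
    rw [sup_zpowers_eq (K := K ⊔ zpowers g) (b := y) (by simpa using le_sup_left (b := zpowers g) hk)]
    exact (h g hg y hy hc').2 (H y hy hc')
  have h1 := card_mul_nOv hK hθ
  have h2 := card_mul_nOv (hD ▸ inf_le_right) hφ
  have h3 := sum_sup hX hY hD (fun g => ∑ y : X,
    if (y : Γ) * g * (y : Γ)⁻¹ * g⁻¹ ∈ K ∧ Gd X θ.1 g then 1 else 0) fun k hk g _ =>
      Finset.sum_congr rfl fun y _ => by simp only [a2 k hk y y.2, a4 k hk]
  have h4 : ∀ g : Y, Nat.card D * ∑ y : X,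
      (if (y : Γ) * g * (y : Γ)⁻¹ * (g : Γ)⁻¹ ∈ K ∧ Gd X θ.1 g then 1 else 0) = Nat.card K *
      ∑ y : Y, if (y : Γ) * g * (y : Γ)⁻¹ * (g : Γ)⁻¹ ∈ D ∧ Gd Y φ.1 g then 1 else 0 := fun g => by
    rw [sum_sup hX hY hD (fun y => if y * g * y⁻¹ * (g : Γ)⁻¹ ∈ K ∧ Gd X θ.1 g then 1 else 0)
      fun k hk y _ => by simp only [a1 k hk y g (hYX g.2)]]
    exact congrArg _ (Finset.sum_congr rfl fun y _ => by simp only [a3 g g.2 y y.2, a5 g g.2])
  have h5 := sum_sup hX hY hD (fun _ => 1) fun _ _ _ _ => rfl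
  simp only [Finset.sum_const, Finset.card_univ, smul_eq_mul, mul_one,
    ← Nat.card_eq_fintype_card] at h5
  have h6 := congrArg (Nat.card D * ·) h3
  rw [← h1, mul_left_comm (Nat.card D) (Nat.card K), Finset.mul_sum,
    Finset.sum_congr rfl fun g _ => h4 g, ← Finset.mul_sum, ← h2] at h6
  have h7 : 0 < Nat.card D * (Nat.card D * (Nat.card K * Nat.card X)) := by
    have := Nat.card_pos (α := D)
    have := Nat.card_pos (α := K)
    have := Nat.card_pos (α := X)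
    positivity
  apply Nat.eq_of_mul_eq_mul_left h7
  calc _ = Nat.card D * (Nat.card D * (Nat.card K * Nat.card X * nOv X θ.1)) := by ring
    _ = Nat.card K * Nat.card D * (Nat.card K * Nat.card Y) * nOv Y φ.1 := by rw [h6]; ring
    _ = _ := by rw [← h5]; ring

end Cfsg.Agent.H86.OW
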