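import Cfsg.Agent.H86.Var
import Cfsg.Agent.H42.OddAut

/-! Dihedral, semidihedral and quaternion `2`-groups. -/

set_option autoImplicit false
set_option linter.unusedSectionVars false

open MonoidAlgebra Subgroup ComplexConjugate

namespace Cfsg.Agent.H86

open Cfsg Cfsg.Agent.H87 Cfsg.Agent.H32 Cfsg.Agent.H34

variable {H : Type*} [Group H] {x y u v g : H} {m : ℕ}

variable (x y m) in
/-- A `2`-group of maximal class of order `8 m` with the cyclic subgroup `⟨x⟩` of index two. -/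
structure Tame : Prop where
  ord : orderOf x = 4 * m
  card : Nat.card H = 8 * m
  pow : ∃ k, m = 2 ^ k
  nm : y ∉ zpowers x
  cj : y * x * y⁻¹ = x⁻¹ ∨ (y * x * y⁻¹ = x⁻¹ * x ^ (2 * m) ∧ Even m)

theorem Tame.map {K : Type*} [Group K] (h : Tame x y m) (r : H ≃* K) : Tame (r x) (r y) m where
  ord := by rw [r.orderOf_eq, h.ord]
  card := by rw [← Nat.card_congr r.toEquiv, h.card]
  pow := h.pow
  nm := fun ⟨k, hk⟩ => h.nm ⟨k, r.injective (by simpa using hk)⟩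
  cj := by simpa only [← map_inv, ← map_mul, ← map_pow, r.injective.eq_iff] using h.cj

namespace Tame

variable (h : Tame x y m)
include h

theorem pos : 0 < m := by obtain ⟨k, rfl⟩ := h.pow; positivity

theorem finite : Finite H := Nat.finite_of_card_ne_zero (by have := h.pos; rw [h.card]; omega)

theorem pgp : IsPGroup 2 H := by
  obtain ⟨k, hk⟩ := h.pow
  exact IsPGroup.of_card (n := k + 3) (by rw [h.card, hk]; ring)

theorem card_C : Nat.card (zpowers x) = 4 * m := by rw [Nat.card_zpowers, h.ord]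

theorem index : (zpowers x).index = 2 := by
  have h1 := (zpowers x).card_mul_index
  rw [h.card_C, h.card] at h1
  exact Nat.eq_of_mul_eq_mul_left (show 0 < 4 * m by have := h.pos; omega) (by omega)

theorem mul_mem_iff : u * v ∈ zpowers x ↔ (u ∈ zpowers x ↔ v ∈ zpowers x) :=
  mul_mem_iff_of_index_two h.index

theorem normal : (zpowers x).Normal := normal_of_index_eq_two h.index

theorem cj_mem_iff : g * u * g⁻¹ ∈ zpowers x ↔ u ∈ zpowers x := by
  rw [h.mul_mem_iff, h.mul_mem_iff, inv_mem_iff]; tauto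

theorem ord_z : orderOf (x ^ (2 * m)) = 2 :=
  H42.orderOf_pow_of_eq_mul (by have := h.pos; omega) (by rw [h.ord]; ring)

theorem ord_w : orderOf (x ^ m) = 4 :=
  H42.orderOf_pow_of_eq_mul h.pos.ne' (by rw [h.ord]; ring)

theorem zz : x ^ (2 * m) * x ^ (2 * m) = 1 := by
  rw [← sq]; exact orderOf_dvd_iff_pow_eq_one.1 h.ord_z.dvd

theorem z_ne : x ^ (2 * m) ≠ 1 := fun h1 => by simpa [h1] using h.ord_z

theorem z_inv : (x ^ (2 * m))⁻¹ = x ^ (2 * m) := inv_eq_of_mul_eq_one_right h.zz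

theorem mem_z : u ∈ zpowers (x ^ (2 * m)) ↔ u = 1 ∨ u = x ^ (2 * m) :=
  H42.mem_zpowers_of_mul_self h.zz

theorem sq_of_mem_z (hu : u ∈ zpowers (x ^ (2 * m))) : u * u = 1 := by
  rcases h.mem_z.1 hu with rfl | rfl
  exacts [mul_one _, h.zz]

omit h in
theorem ww : x ^ m * x ^ m = x ^ (2 * m) := by rw [← pow_add, two_mul]

omit h in
theorem z_le : zpowers (x ^ (2 * m)) ≤ zpowers x := zpowers_le.2 (npow_mem_zpowers _ _)

theorem w_nm : x ^ m ∉ zpowers (x ^ (2 * m)) := fun h1 => h.z_ne (by rw [← ww, h.sq_of_mem_z h1])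

theorem w_inv : (x ^ m)⁻¹ = x ^ m * x ^ (2 * m) :=
  inv_eq_of_mul_eq_one_right (by rw [← mul_assoc, ww, h.zz])

theorem mem_z_of_sq (hu : u ∈ zpowers x) (h1 : u * u = 1) : u ∈ zpowers (x ^ (2 * m)) :=
  H42.mem_zpowers_pow_of_pow_eq_one two_ne_zero (by rw [h.ord]; ring) hu (by rw [sq, h1])

theorem mem_w (hu : u ∈ zpowers x) (h1 : u * u ∈ zpowers (x ^ (2 * m))) :
    u ∈ zpowers (x ^ (2 * m)) ∨ u = x ^ m ∨ u = (x ^ m)⁻¹ := by
  rcases h.mem_z.1 h1 with h2 | h2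
  · exact .inl (h.mem_z_of_sq hu h2)
  have h3 := H42.comm_of_mem_zpowers hu (inv_mem (npow_mem_zpowers x m))
  have h4 : u * (x ^ m)⁻¹ * (u * (x ^ m)⁻¹) = 1 := by
    rw [mul_assoc, ← mul_assoc _ u, ← h3, mul_assoc, ← mul_assoc, h2, ← ww]; group
  rcases h.mem_z.1 (h.mem_z_of_sq (mul_mem hu (inv_mem (npow_mem_zpowers x m))) h4) with h5 | h5
  · exact .inr (.inl (mul_inv_eq_one.1 h5))
  · exact .inr (.inr (by rw [mul_inv_eq_iff_eq_mul.1 h5, h.w_inv, (Commute.pow_pow_self ..).eq]))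

theorem cj_mul_mem (hu : u ∈ zpowers x) : y * u * y⁻¹ * u ∈ zpowers (x ^ (2 * m)) := by
  obtain ⟨k, rfl⟩ := hu
  have h1 : Commute (y * x * y⁻¹) x :=
    H42.comm_of_mem_zpowers (h.cj_mem_iff.2 (mem_zpowers x)) (mem_zpowers x)
  simp only [← conj_zpow, ← h1.mul_zpow]
  refine zpow_mem ?_ k
  rcases h.cj with h2 | ⟨h2, -⟩ <;> rw [h2]
  · simp
  · rw [mul_assoc, ← pow_succ, pow_succ', inv_mul_cancel_left]; exact mem_zpowers _

theorem cj_w : y * x ^ m * y⁻¹ = (x ^ m)⁻¹ := by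
  rw [← conj_pow]
  rcases h.cj with h2 | ⟨h2, k, hk⟩ <;> rw [h2]
  · rw [inv_pow]
  · rw [(Commute.self_pow x _).inv_left.mul_pow, inv_pow, show (x ^ (2 * m)) ^ m =
      (x ^ (2 * m) * x ^ (2 * m)) ^ k by rw [← sq, ← pow_mul _ 2, two_mul k, ← hk], h.zz, one_pow,
      mul_one]

omit h in
theorem cj_in (hg : g ∈ zpowers x) (hu : u ∈ zpowers x) : g * u * g⁻¹ = u := by
  rw [H42.comm_of_mem_zpowers hg hu, mul_inv_cancel_right]

theorem cj_out (hg : g ∉ zpowers x) (hu : u ∈ zpowers x) : g * u * g⁻¹ = y * u * y⁻¹ := by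
  have h1 := cj_in (h.mul_mem_iff.2 (iff_of_false (mt inv_mem_iff.1 h.nm) hg)) hu
  rw [← h1]; conv_lhs => rw [h1]
  group

theorem cj_cj (hu : u ∈ zpowers x) : y * (y * u * y⁻¹) * y⁻¹ = u := by
  conv_rhs => rw [← cj_in (h.mul_mem_iff.2 (Iff.refl (y ∈ zpowers x))) hu]
  group

theorem cj_z (g : H) : g * x ^ (2 * m) * g⁻¹ = x ^ (2 * m) := by
  by_cases hg : g ∈ zpowers x
  · exact cj_in hg (npow_mem_zpowers _ _)
  · rw [h.cj_out hg (npow_mem_zpowers _ _), ← ww, ← conj_mul, h.cj_w, ← mul_inv_rev, ww, h.z_inv]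

theorem z_comm (g : H) : g * x ^ (2 * m) = x ^ (2 * m) * g := mul_inv_eq_iff_eq_mul.1 (h.cj_z g)

theorem cj_of_mem_z (g : H) (hu : u ∈ zpowers (x ^ (2 * m))) : g * u * g⁻¹ = u := by
  rcases h.mem_z.1 hu with rfl | rfl
  exacts [by simp, h.cj_z g]

theorem cj_w_mem (g : H) : g * x ^ m * g⁻¹ ∈ zpowers (x ^ m) := by
  by_cases hg : g ∈ zpowers x
  · rw [cj_in hg (npow_mem_zpowers _ _)]; exact mem_zpowers _
  · rw [h.cj_out hg (npow_mem_zpowers _ _), h.cj_w]; exact inv_mem (mem_zpowers _)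

theorem w_ne_inv : (x ^ m)⁻¹ ≠ x ^ m := fun h1 => h.z_ne (by rw [← ww]; nth_rw 1 [← h1]; simp)

theorem mem_z_of_fix (hu : u ∈ zpowers x) (h1 : y * u * y⁻¹ = u) : u ∈ zpowers (x ^ (2 * m)) := by
  rcases h.mem_w hu (by simpa only [h1] using h.cj_mul_mem hu) with h2 | rfl | rfl
  · exact h2
  · exact absurd (h.cj_w ▸ h1) h.w_ne_inv
  · rw [← conj_inv, h.cj_w, inv_inv] at h1; exact absurd h1.symm h.w_ne_inv

theorem isConj_iff (hu : u ∈ zpowers x) : IsConj u v ↔ v = u ∨ v = y * u * y⁻¹ := by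
  refine ⟨fun h1 => ?_, ?_⟩
  · obtain ⟨c, rfl⟩ := _root_.isConj_iff.1 h1
    by_cases hc : c ∈ zpowers x
    exacts [.inl (cj_in hc hu), .inr (h.cj_out hc hu)]
  · rintro (rfl | rfl)
    exacts [IsConj.refl _, _root_.isConj_iff.2 ⟨y, rfl⟩]

theorem mem_C_iff (hu : u ∈ zpowers x) (h1 : u ∉ zpowers (x ^ (2 * m))) :
    g ∈ zpowers x ↔ g * u * g⁻¹ = u :=
  ⟨fun hg => cj_in hg hu, fun h2 => by_contra fun hg =>
    h1 (h.mem_z_of_fix hu (h.cj_out hg hu ▸ h2))⟩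

theorem card_cent (hu : u ∈ zpowers x) (h1 : u ∉ zpowers (x ^ (2 * m))) :
    Nat.card (centralizer {u} : Subgroup H) = 4 * m := by
  rw [← h.card_C]
  congr 2
  ext g
  rw [h.mem_C_iff hu h1, mem_centralizer_singleton_iff, mul_inv_eq_iff_eq_mul]

theorem sq_mem (hu : u ∉ zpowers x) : u * u ∈ zpowers (x ^ (2 * m)) :=
  have h1 := h.mul_mem_iff.2 (Iff.refl (u ∈ zpowers x))
  h.mem_z_of_fix h1 (by rw [← h.cj_out hu h1]; group)

theorem cent_out (hu : u ∉ zpowers x) (hg : g * u = u * g) :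
    g ∈ zpowers (x ^ (2 * m)) ∨ g * u⁻¹ ∈ zpowers (x ^ (2 * m)) := by
  by_cases h1 : g ∈ zpowers x
  · exact .inl (h.mem_z_of_fix h1 (by rw [← h.cj_out hu h1, ← hg, mul_inv_cancel_right]))
  · have h2 := h.mul_mem_iff.2 (iff_of_false h1 (mt inv_mem_iff.1 hu))
    exact .inr (h.mem_z_of_fix h2 (by rw [← h.cj_out hu h2, ← mul_assoc, ← hg]; group))

theorem mul_inv_mem_out (hu : u ∉ zpowers x) {a b : H} (ha : a * u = u * a) (hb : b * u = u * b)
    (ha' : a ∉ zpowers u) (hb' : b ∉ zpowers u) : a * b⁻¹ ∈ zpowers u := by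
  have key : ∀ a : H, a * u = u * a → a ∉ zpowers u → a = x ^ (2 * m) ∨ a = x ^ (2 * m) * u := by
    intro a ha ha'
    rcases h.cent_out hu ha with h1 | h1 <;> rcases h.mem_z.1 h1 with h2 | h2
    · exact absurd (h2 ▸ one_mem _) ha'
    · exact .inl h2
    · exact absurd (mul_inv_eq_one.1 h2 ▸ mem_zpowers _) ha'
    · exact .inr (mul_inv_eq_iff_eq_mul.1 h2)
  rcases key a ha ha' with rfl | rfl <;> rcases key b hb hb' with rfl | rfl
  · simp
  · rw [← h.z_comm, mul_inv_rev, inv_mul_cancel_right]; exact inv_mem (mem_zpowers _)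
  · rw [← h.z_comm, mul_inv_cancel_right]; exact mem_zpowers _
  · simp

theorem w_mem (hu : u ∈ zpowers x) (h1 : u ∉ zpowers (x ^ (2 * m))) : x ^ m ∈ zpowers u := by
  obtain ⟨n, hn⟩ := h.pgp u
  induction n generalizing u with
  | zero => exact absurd (by rw [show u = 1 by simpa using hn]; exact one_mem _) h1
  | succ n ih =>
    by_cases h2 : u * u ∈ zpowers (x ^ (2 * m))
    · rcases h.mem_w hu h2 with h3 | rfl | rfl
      exacts [absurd h3 h1, mem_zpowers _, inv_mem_iff.1 (mem_zpowers _)]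
    · exact zpowers_le.2 (mul_mem (mem_zpowers u) (mem_zpowers u))
        (ih (mul_mem hu hu) h2 (by rw [← sq, ← pow_mul, ← pow_succ', hn]))

theorem z_mem (hu : u ∈ zpowers x) (h1 : u ≠ 1) : x ^ (2 * m) ∈ zpowers u := by
  by_cases h2 : u ∈ zpowers (x ^ (2 * m))
  · rw [(h.mem_z.1 h2).resolve_left h1]; exact mem_zpowers _
  · exact ww (x := x) ▸ mul_mem (h.w_mem hu h2) (h.w_mem hu h2)

theorem z_mem_of_sq (h1 : u * u ≠ 1) : x ^ (2 * m) ∈ zpowers u := by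
  by_cases hu : u ∈ zpowers x
  · exact h.z_mem hu fun h2 => h1 (by simp [h2])
  · rw [← (h.mem_z.1 (h.sq_mem hu)).resolve_left h1]
    exact mul_mem (mem_zpowers u) (mem_zpowers u)

omit h in
theorem mul_z_nm (h1 : u ∉ zpowers (x ^ (2 * m))) :
    u * x ^ (2 * m) ∉ zpowers (x ^ (2 * m)) := fun h2 =>
  h1 ((mul_mem_cancel_right (mem_zpowers _)).1 h2)

theorem isConj_mul_z_iff (hu : u ∈ zpowers x) (h1 : u ∉ zpowers (x ^ (2 * m))) :
    IsConj u (u * x ^ (2 * m)) ↔ u = x ^ m ∨ u = (x ^ m)⁻¹ := by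
  rw [h.isConj_iff hu]
  refine ⟨fun h2 => ?_, fun h2 => .inr ?_⟩
  · have h3 := h2.resolve_left fun h3 => h.z_ne (mul_eq_left.1 h3)
    refine (h.mem_w hu ?_).resolve_left h1
    have h4 := h.cj_mul_mem hu
    rwa [← h3, h.z_comm, mul_assoc, mul_mem_cancel_left (mem_zpowers _)] at h4
  · rcases h2 with rfl | rfl
    · rw [h.cj_w, h.w_inv]
    · rw [← conj_inv, h.cj_w, inv_inv, ← ww, inv_mul_cancel_left]

theorem sq_mem_comm : x ^ 2 ∈ zpowers (x * y * x⁻¹ * y⁻¹) := by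
  rw [show x * y * x⁻¹ * y⁻¹ = x * (y * x * y⁻¹)⁻¹ by group]
  rcases h.cj with h2 | ⟨h2, k, hk⟩ <;> rw [h2]
  · rw [inv_inv, sq]; exact mem_zpowers _
  · rw [mul_inv_rev, inv_inv, h.z_inv, ← h.z_comm, ← mul_assoc, ← sq, ← pow_add]
    refine ⟨(1 + m : ℕ), ?_⟩
    change (x ^ _) ^ ((1 + m : ℕ) : ℤ) = _
    rw [zpow_natCast, ← pow_mul, show (2 + 2 * m) * (1 + m) = 2 + 4 * m * (1 + k) by
      rw [hk]; ring, pow_add, pow_mul, ← h.ord, pow_orderOf_eq_one, one_pow, mul_one]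

theorem conj_out (hu : u ∉ zpowers x) : IsConj y u ∨ IsConj (x * y) u := by
  have h1 : ∀ i : ℤ, x ^ i * y * (x ^ i)⁻¹ = (x * y * x⁻¹ * y⁻¹) ^ i * y := fun i => by
    have h2 : Commute x (y * x * y⁻¹)⁻¹ :=
      H42.comm_of_mem_zpowers (mem_zpowers x) (inv_mem (h.cj_mem_iff.2 (mem_zpowers x)))
    rw [show x * y * x⁻¹ * y⁻¹ = x * (y * x * y⁻¹)⁻¹ by group, h2.mul_zpow, inv_zpow, conj_zpow]
    group
  obtain ⟨j, hj⟩ := h.mul_mem_iff.2 (iff_of_false hu (mt inv_mem_iff.1 h.nm))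
  obtain ⟨i, hi⟩ := h.sq_mem_comm
  simp only at hi hj
  rcases Int.even_or_odd' j with ⟨k, rfl | rfl⟩
  · refine .inl (_root_.isConj_iff.2 ⟨x ^ (i * k), ?_⟩)
    rw [h1, zpow_mul, hi, ← zpow_natCast, ← zpow_mul, Nat.cast_ofNat, hj, inv_mul_cancel_right]
  · refine .inr (_root_.isConj_iff.2 ⟨x ^ (i * k), ?_⟩)
    rw [← mul_assoc, (Commute.self_zpow x _).eq.symm, mul_assoc x, mul_assoc x, h1, zpow_mul, hi,
      ← zpow_natCast, ← zpow_mul, Nat.cast_ofNat, ← mul_assoc, ← zpow_one_add, add_comm, hj,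
      inv_mul_cancel_right]

end Tame

end Cfsg.Agent.H86
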