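import Cfsg.Agent.H86.Tame
import Cfsg.Agent.H86.Wat

/-! Generalized characters of `2`-groups of maximal class on the cyclic subgroup of index two. -/

set_option autoImplicit false
set_option linter.unusedSectionVars false

open MonoidAlgebra Subgroup ComplexConjugate

namespace Cfsg.Agent.H86

open Cfsg Cfsg.Agent.H87 Cfsg.Agent.H32 Cfsg.Agent.H34

variable {H : Type*} [Group H] [Fintype H] {x y u v g : H} {m : ℕ}

variable (x m) in
open Classical in
/-- The elements of `⟨x⟩` of order at least four. -/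
noncomputable def sS : Finset H :=
  Finset.univ.filter fun u => u ∈ zpowers x ∧ u ∉ zpowers (x ^ (2 * m))

theorem mem_sS : u ∈ sS x m ↔ u ∈ zpowers x ∧ u ∉ zpowers (x ^ (2 * m)) := by simp [sS]

/-- The possible values of `s = ∑_{u ∈ S} |τ u|²`, `t = τ z` and `a = ⟨τ, 1 - λ₁⟩`. -/
structure Num (m s t a : ℤ) : Prop where
  par : Even (a - t)
  de : Even t → s + t ^ 2 = 0 ∨ 8 * m - 4 ≤ s + t ^ 2
  dd : Odd t → s + t ^ 2 = 4 * m - 1 ∨ (12 * m - 9 ≤ s + t ^ 2 ∧ 12 * m - 4 * m ^ 2 ≤ s + t ^ 2)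
  qe : Even t → (s = 0 ∧ 2 * m ∣ t) ∨ 8 * m - 8 ≤ s
  qo : Odd t → s = 4 * m - 2 ∨ 12 * m - 10 ≤ s ∨ (12 * m - 18 ≤ s ∧ 12 * m - 2 * m ^ 2 ≤ s)

theorem num_of {ι : Type*} [DecidableEq ι] {J J' : Finset ι} (hd : Disjoint J J') (c : ι → ℤ)
    {m : ℤ} (h0 : 0 < m) (hJ : (J.card : ℤ) = 2 * m) (hJ' : (J'.card : ℤ) = 2 * m)
    (h1 : Even (∑ j ∈ J', c j)) {a : ℤ} (h2 : Even (a - ∑ j ∈ J, c j)) :
    Num m (2 * vr J c + 2 * vr J' c) (∑ j ∈ J, c j - ∑ j ∈ J', c j) a := by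
  have h3 : ((J ∪ J').card : ℤ) = 2 * (2 * m) := by
    rw [Finset.card_union_of_disjoint hd]; push_cast; omega
  have h4 : 2 * vr J c + 2 * vr J' c + (∑ j ∈ J, c j - ∑ j ∈ J', c j) ^ 2 = vr (J ∪ J') c := by
    simp only [vr, h3, hJ, hJ', Finset.sum_union hd]; ring
  have h5 := vr_of_even J' c hJ' h0 h1
  have h6 := vr_of_even J c hJ h0
  have h7 := vr_of_odd J c hJ h0
  have h8 := vr_of_even _ c h3 (by omega)
  have h9 := vr_of_odd _ c h3 (by omega)
  rw [Finset.sum_union hd, ← h4] at h8 h9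
  generalize ∑ j ∈ J, c j = E at *
  generalize ∑ j ∈ J', c j = O at *
  generalize vr J c = V at *
  generalize vr J' c = V' at *
  refine ⟨by grind, fun h => by grind, fun h => by grind, fun h => ?_, fun h => by grind⟩
  rcases h6 (by grind) with ⟨h10, h11⟩ | h10 <;> rcases h5 with ⟨h12, h13⟩ | h12
  · exact .inl ⟨by omega, h11.sub h13⟩
  all_goals omega

namespace Tame

variable (h : Tame x y m)
include h

theorem sum_C {N : Type*} [AddCommMonoid N] [Fintype (zpowers x)] (F : H → N) :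
    ∑ u : zpowers x, F u = F 1 + F (x ^ (2 * m)) + ∑ u ∈ sS x m, F u := by
  classical
  rw [← Finset.sum_pair h.z_ne.symm, ← Finset.sum_union (by
    simp [Finset.disjoint_left, mem_sS, h.mem_z]), ← Finset.sum_subtype _ fun u => ?_]
  simp only [Finset.mem_union, Finset.mem_insert, Finset.mem_singleton, mem_sS, ← h.mem_z]
  exact ⟨fun h1 => h1.elim (fun h2 => z_le h2) fun h2 => h2.1, fun h1 => by tauto⟩

theorem card_sS : (sS x m).card + 2 = 4 * m := by
  have := Fintype.ofFinite (zpowers x)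
  have h1 := h.sum_C fun _ => 1
  simp only [Finset.sum_const, Finset.card_univ, ← Nat.card_eq_fintype_card, h.card_C, smul_eq_mul,
    mul_one] at h1
  omega

theorem cj_mem_sS (hu : u ∈ sS x m) (g : H) : g * u * g⁻¹ ∈ sS x m :=
  mem_sS.2 ⟨h.cj_mem_iff.2 (mem_sS.1 hu).1, fun h1 => (mem_sS.1 hu).2 (by
    have h2 := h.cj_of_mem_z g⁻¹ h1
    rwa [← h2, show g⁻¹ * (g * u * g⁻¹) * g⁻¹⁻¹ = u by group] at h1)⟩

theorem cj_ne (hu : u ∈ sS x m) : y * u * y⁻¹ ≠ u := fun h1 =>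
  (mem_sS.1 hu).2 (h.mem_z_of_fix (mem_sS.1 hu).1 h1)

theorem w_mem_sS : x ^ m ∈ sS x m := mem_sS.2 ⟨npow_mem_zpowers _ _, h.w_nm⟩

theorem exists_sign : ∃ l₁ : zpowers x →* ℂˣ, l₁ ⟨x, mem_zpowers x⟩ = -1 := by
  have h1 : ∀ u : zpowers x, u ∈ zpowers (⟨x, mem_zpowers x⟩ : zpowers x) := fun ⟨_, k, rfl⟩ =>
    ⟨k, rfl⟩
  refine ⟨monoidHomOfForallMemZpowers h1 (g' := -1) ?_, monoidHomOfForallMemZpowers_apply_gen _ _⟩
  rw [orderOf_mk, h.ord, orderOf_dvd_iff_pow_eq_one, pow_mul, Even.neg_one_pow ⟨2, rfl⟩, one_pow]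

theorem exists_num : ∃ T ⊆ sS x m, T.card = 2 * m ∧ (∀ u ∈ T, y * u * y⁻¹ ∈ T) ∧
    ∀ τ, IsGeneralizedCharacter H τ → ∃ s t a : ℤ, Num m s t a ∧
      ∑ u ∈ sS x m, ‖τ u‖ ^ 2 = s ∧ τ (x ^ (2 * m)) = t ∧ ∑ u ∈ T, τ u = 2 * m * a := by
  classical
  have := h.normal
  have := finite_hom (zpowers x)
  have := Fintype.ofFinite (zpowers x →* ℂˣ)
  have hA : ∀ a b : zpowers x, a * b = b * a := fun a b =>
    Subtype.ext (H42.comm_of_mem_zpowers a.2 b.2)
  obtain ⟨l₁, hl⟩ := h.exists_sign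
  set x' : zpowers x := ⟨x, mem_zpowers x⟩ with hx'
  set γ : MulAut (zpowers x) := MulAut.conjNormal y with hγ
  have hext : ∀ l l' : zpowers x →* ℂˣ, l x' = l' x' → l = l' := fun l l' h1 =>
    MonoidHom.ext fun ⟨_, k, rfl⟩ => (map_zpow l x' k).trans (h1 ▸ (map_zpow l' x' k).symm)
  have hz : ∀ l : zpowers x →* ℂˣ, l x' ^ 2 = 1 → l (x' ^ (2 * m)) = 1 := fun l h1 => by
    rw [map_pow, pow_mul, h1, one_pow]
  have hl2 : l₁ x' ^ 2 = 1 := by rw [hl]; simp
  have hsq : ∀ l : zpowers x →* ℂˣ, cpA l γ = l ↔ l = 1 ∨ l = l₁ := fun l => by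
    have h1 : l x' ^ 2 = 1 → cpA l γ = l := fun h1 => hext _ _ (by
      have h2 : γ x' * x' ∈ zpowers (x' ^ (2 * m)) := by
        obtain ⟨k, hk⟩ := h.cj_mul_mem (mem_zpowers x)
        exact ⟨k, Subtype.ext hk⟩
      obtain ⟨k, hk⟩ := h2
      have h3 := congrArg l hk
      simp only [map_zpow, hz l h1, one_zpow, map_mul] at h3
      exact mul_right_cancel (h3.symm.trans (by rw [← sq, h1])))
    refine ⟨fun h2 => ?_, ?_⟩
    · obtain ⟨k, hk⟩ := h.sq_mem_comm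
      have h3 : (x' * (γ x')⁻¹) ^ k = x' ^ 2 := Subtype.ext (by
        rw [SubgroupClass.coe_pow, ← hk]
        simp [hx', hγ, mul_assoc])
      have h4 := congrArg l h3
      rw [map_zpow, map_mul, map_inv, ← cpA_apply, h2, mul_inv_cancel, one_zpow, map_pow] at h4
      exact ((Units.inv_eq_self_iff _).1 (inv_eq_of_mul_eq_one_right (sq (l x') ▸ h4.symm))).imp (fun h5 => hext _ _ h5)
        fun h5 => hext _ _ (h5.trans hl.symm)
    · rintro (rfl | rfl)
      exacts [one_cpA _, h1 hl2]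
  have hne : l₁ ≠ 1 := fun h1 => by
    rw [h1] at hl; exact absurd (congrArg Units.val hl) (by norm_num)
  have hpm : ∀ (l : zpowers x →* ℂˣ) u, l u ^ 2 = 1 → lc l u = 1 ∨ lc l u = -1 := fun l u h1 =>
    mul_self_eq_one_iff.1 (by rw [lc_apply, ← Units.val_mul, ← sq, h1, Units.val_one])
  have hl₁ : ∀ u, l₁ u ^ 2 = 1 := fun ⟨_, k, rfl⟩ => by
    rw [show l₁ ⟨_, k, rfl⟩ = l₁ x' ^ k from map_zpow l₁ x' k, ← zpow_natCast, ← zpow_mul, mul_comm,
      zpow_mul, zpow_natCast, hl2, one_zpow]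
  have hzz : ∀ l : zpowers x →* ℂˣ, l (x' ^ (2 * m)) ^ 2 = 1 := fun l => by
    rw [← map_pow, show (x' ^ (2 * m)) ^ 2 = 1 from Subtype.ext (by simpa [sq] using h.zz), map_one]
  have hγz : γ (x' ^ (2 * m)) = x' ^ (2 * m) := Subtype.ext (h.cj_z y)
  have hγγ : γ * γ = 1 := MulEquiv.ext fun u => Subtype.ext (h.cj_cj u.2)
  have hT : ∀ F : zpowers x → ℂ, ∑ u, F u * lc 1 u⁻¹ - ∑ u, F u * lc l₁ u⁻¹ =
      2 * ∑ u with lc l₁ u = -1, F u := fun F => by
    rw [← Finset.sum_sub_distrib, Finset.sum_filter, Finset.mul_sum]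
    refine Finset.sum_congr rfl fun u _ => ?_
    rw [lc_inv l₁, lc_one_left]
    rcases hpm l₁ u (hl₁ u) with h1 | h1 <;> rw [h1] <;> norm_num
    ring
  set J := Finset.univ.filter fun l : zpowers x →* ℂˣ => lc l (x' ^ (2 * m)) = 1 with hJ
  have hsum : ∀ c : (zpowers x →* ℂˣ) → ℂ, ∑ l, c l * lc l (x' ^ (2 * m)) =
      ∑ l ∈ J, c l - ∑ l ∈ Jᶜ, c l := fun c => by
    rw [← Finset.sum_add_sum_compl J, sub_eq_add_neg, ← Finset.sum_neg_distrib]
    congr 1 <;> refine Finset.sum_congr rfl fun l hl => ?_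
    · rw [(Finset.mem_filter.1 hl).2, mul_one]
    · rw [(hpm l _ (hzz l)).resolve_left (by simpa [hJ] using hl), mul_neg_one]
  have hc : (J.card : ℤ) = 2 * m ∧ (Jᶜ.card : ℤ) = 2 * m := by
    have h1 := hsum fun _ => 1
    simp only [one_mul, sum_lc_apply hA, Finset.sum_const, nsmul_eq_mul, mul_one] at h1
    rw [if_neg fun h2 => h.z_ne (congrArg Subtype.val h2), eq_comm, sub_eq_zero, Nat.cast_inj] at h1
    have h2 := Finset.card_add_card_compl J
    rw [← Nat.card_eq_fintype_card, card_lc hA, h.card_C] at h2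
    omega
  refine ⟨(Finset.univ.filter fun u => lc l₁ u = -1).map (Function.Embedding.subtype _), ?_, ?_, ?_,
    fun τ hτ => ?_⟩
  · intro v hv
    obtain ⟨u, hu, rfl⟩ := Finset.mem_map.1 hv
    refine mem_sS.2 ⟨u.2, fun h1 => absurd (Finset.mem_filter.1 hu).2 ?_⟩
    rcases h.mem_z.1 h1 with h2 | h2
    · rw [show u = 1 from Subtype.ext h2, lc_one_right]; norm_num
    · rw [show u = x' ^ (2 * m) from Subtype.ext h2, lc_apply, hz _ hl2]; norm_num
  · have h2 := hT (lc 1)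
    simp only [lc_inv, sum_lc_mul_conj, if_neg hne.symm, if_true, h.card_C] at h2
    simp only [lc_one_left, Finset.sum_const, nsmul_eq_mul, mul_one, sub_zero] at h2
    rw [Finset.card_map]
    refine Nat.cast_injective (R := ℂ) ?_
    push_cast at h2 ⊢
    linear_combination h2 / (-2)
  · intro v hv
    obtain ⟨u, hu, rfl⟩ := Finset.mem_map.1 hv
    exact Finset.mem_map.2 ⟨γ u, by
      rw [Finset.mem_filter_univ, ← lc_cpA, (hsq l₁).2 (.inr rfl)]
      exact (Finset.mem_filter.1 hu).2, rfl⟩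
  obtain ⟨c, h1, h2, h3⟩ := exists_fourier hA (H53.virt_res hτ (zpowers x))
  have h0 : (Nat.card (zpowers x) : ℂ) ≠ 0 := Nat.cast_ne_zero.2 Nat.card_pos.ne'
  have h4 : ∀ l, c (cpA l γ) = c l := fun l => by
    have h4 := h1 (cpA l γ)
    rw [← Equiv.sum_comp γ.toEquiv] at h4
    simp only [MulEquiv.toEquiv_eq_coe, EquivLike.coe_coe, lc_cpA, map_inv, ← MulAut.mul_apply,
      hγγ, MulAut.one_apply] at h4
    refine Int.cast_injective (α := ℂ) (mul_left_cancel₀ h0 (h4.symm.trans (Eq.trans ?_ (h1 l))))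
    exact Finset.sum_congr rfl fun u _ => congrArg (· * _) (H53.virt_classFun hτ _ _)
  have h5 : ∀ l, cpA (cpA l γ) γ = l := fun l => by rw [← cpA_mul, hγγ, cpA_one]
  have h6 : ∀ l, cpA l γ ∈ J ↔ l ∈ J := fun l => by simp only [hJ, Finset.mem_filter_univ, lc_cpA, hγz]
  have h7 : 1 ∈ J := by simp [hJ, lc_one_left]
  have h8 : l₁ ∈ J := by rw [hJ, Finset.mem_filter_univ, lc_apply, hz _ hl2, Units.val_one]
  have h9 : Even (∑ l ∈ Jᶜ, c l) := even_sum_of_invol _ c (σ := fun l => cpA l γ)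
    (fun l hl => by simpa [h6] using hl) (fun l _ => h5 l) (fun l _ => h4 l) fun l hl' h9 =>
      Finset.mem_compl.1 hl' (((hsq l).1 h9).elim (· ▸ h7) (· ▸ h8))
  have h10 : Even (∑ l ∈ (J.erase 1).erase l₁, c l) :=
    even_sum_of_invol _ c (σ := fun l => cpA l γ) (fun l hl => by
      simp only [Finset.mem_erase, h6] at hl ⊢
      exact ⟨fun h9 => hl.1 (by rw [← h5 l, h9, (hsq l₁).2 (.inr rfl)]),
        fun h9 => hl.2.1 (cpA_eq_one_iff.1 h9), hl.2.2⟩)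
      (fun l _ => h5 l) (fun l _ => h4 l) fun l hl h9 => by
        simp only [Finset.mem_erase] at hl
        exact ((hsq l).1 h9).elim hl.2.1 hl.1
  have h11 := Finset.add_sum_erase _ c h7
  rw [← Finset.add_sum_erase _ c (Finset.mem_erase.2 ⟨hne, h8⟩)] at h11
  have h12 : τ (x ^ (2 * m)) = (∑ l ∈ J, c l - ∑ l ∈ Jᶜ, c l : ℤ) := by
    push_cast; exact (h2 (x' ^ (2 * m))).trans (hsum _)
  have h13 : τ 1 = (∑ l ∈ J, c l + ∑ l ∈ Jᶜ, c l : ℤ) := by
    rw [Finset.sum_add_sum_compl]; simpa [lc_one_right] using h2 1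
  refine ⟨_, _, c 1 - c l₁, num_of disjoint_compl_right c (by have := h.pos; omega) hc.1 hc.2 h9
    (by grind), ?_, h12, ?_⟩
  · rw [h.sum_C fun u => ‖τ u‖ ^ 2, h12, h13, Complex.norm_intCast, Complex.norm_intCast, sq_abs,
      sq_abs, h.card_C, ← Finset.sum_add_sum_compl J] at h3
    simp only [vr, hc.1, hc.2]
    push_cast at h3 ⊢
    linarith
  · have h14 := hT fun u => τ u
    rw [h1, h1, h.card_C] at h14
    rw [Finset.sum_map]
    push_cast at h14 ⊢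
    simp only [Function.Embedding.coe_subtype]
    linear_combination h14 / (-2)

end Tame

end Cfsg.Agent.H86
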