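import Cfsg.Agent.H86.Tame2
import Cfsg.Agent.H86.Mat

/-! The arithmetic of contributions for tame blocks. -/

set_option autoImplicit false
set_option linter.unusedSectionVars false

namespace Cfsg.Agent.H86

open Finset

variable {ι : Type*} [DecidableEq ι] {I : Finset ι} {h : ι → ℕ} {N m l lz : ℤ}
  {A Z : ι → ι → ℤ} {s t r : ι → ℤ} {i j : ι}

variable (I h m l lz A Z s t r) in
/-- The numerical data attached to a block with defect group of maximal class. -/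
structure TD : Prop where
  pow : ∃ k : ℕ, m = 2 ^ k
  matA : Mat I h (8 * m) l A
  matZ : Mat I h (8 * m) lz Z
  k0 : #{i ∈ I | h i = 0} = 4
  num : ∀ i ∈ I, ∃ a, Num m (s i) (t i) a
  val : ∀ i ∈ I, 2 ^ h i ∣ t i ∧ ¬ 2 ^ (h i + 1) ∣ t i
  eq : ∀ i ∈ I, 8 * m = A i i + Z i i + s i + r i
  s0 : ∀ i ∈ I, 0 ≤ s i
  r0 : ∀ i ∈ I, 0 ≤ r i
  sum : ∑ i ∈ I, s i = 8 * m * (2 * m - 1)

namespace TD

variable (H : TD I h m l lz A Z s t r)
include H

theorem pos : 0 < m := by obtain ⟨k, rfl⟩ := H.pow; positivity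

theorem ne_three : m ≠ 3 := by
  obtain ⟨k, rfl⟩ := H.pow
  rcases k with _ | k
  · norm_num
  · rw [pow_succ]; omega

theorem exists_zero : ∃ i ∈ I, h i = 0 := by
  obtain ⟨i, hi⟩ := card_pos.1 (H.k0 ▸ four_pos)
  exact ⟨i, mem_filter.1 hi⟩

theorem l_pos : 0 < l ∧ 0 < lz := by
  obtain ⟨i, hi, -⟩ := H.exists_zero
  have := H.pos
  exact ⟨H.matA.l_pos (by omega) hi, H.matZ.l_pos (by omega) hi⟩

theorem even (hi : i ∈ I) (h0 : h i ≠ 0) : Even (t i) :=
  even_iff_two_dvd.2 ((dvd_pow_self 2 h0).trans (H.val i hi).1)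

theorem odd (hi : i ∈ I) (h0 : h i = 0) : Odd (t i) := by
  simpa [h0, ← even_iff_two_dvd] using (H.val i hi).2

theorem card_eq : 8 * m * #I = 8 * m * (l + lz + 2 * m - 1) + ∑ i ∈ I, r i := by
  rw [mul_comm, ← sum_eq_card_mul fun i hi => (H.eq i hi).symm]
  simp only [sum_add_distrib, H.matA.tr, H.matZ.tr, H.sum]; ring

theorem dihedral (hZ : ∀ i ∈ I, Z i i = t i ^ 2) (hl : lz = 1) : (∀ i ∈ I, h i ≤ 1) ∧
    ((#I = 2 * m + 3 ∧ l ≤ 3) ∨ (m = 2 ∧ #I = 5 ∧ l = 1)) := by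
  have hm := H.pos
  have h1 : ∀ i ∈ I, h i ≠ 0 → h i = 1 ∧ A i i = 4 ∧ s i + Z i i = 8 * m - 4 := fun i hi h0 => by
    obtain ⟨a, ha⟩ := H.num i hi
    have h2 := ha.de (H.even hi h0)
    have h3 := H.matA.pow_le hi h0
    have h4 : (2 : ℤ) ^ 1 ≤ 2 ^ h i := pow_le_pow_right₀ one_le_two (by omega)
    have := H.eq i hi; have := H.r0 i hi; have := H.s0 i hi; have := H.matZ.pos i hi
    rw [← hZ i hi] at h2
    refine ⟨by_contra fun h5 => ?_, by omega⟩
    have h4 : (2 : ℤ) ^ 2 ≤ 2 ^ h i := pow_le_pow_right₀ one_le_two (by omega)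
    omega
  have h2 : ∀ i ∈ I.filter (h · = 0), A i i + (s i + Z i i) ≤ 8 * m ∧
      (s i + Z i i = 4 * m - 1 ∨ (m = 2 ∧ s i + Z i i = 15)) := fun i hi => by
    rw [mem_filter] at hi
    obtain ⟨a, ha⟩ := H.num i hi.1
    have h2 := ha.dd (H.odd hi.1 hi.2)
    have := H.eq i hi.1; have := H.r0 i hi.1; have := H.matA.pos i hi.1
    rw [← hZ i hi.1] at h2
    refine ⟨by omega, h2.imp_right fun h3 => ?_⟩
    have : m = 1 ∨ m = 2 := by omega
    rcases this with rfl | rfl <;> omega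
  have h3 : I.filter (2 ≤ h ·) = ∅ := filter_false_of_mem fun i hi h3 => by
    have := h1 i hi; omega
  have h4 : ∑ i ∈ I, (s i + Z i i) = 16 * m ^ 2 := by
    rw [sum_add_distrib, H.sum, H.matZ.tr, hl]; ring
  have h5 := H.matA.tr
  have h6 := card_split I h
  have h7 : ∀ i ∈ I.filter (h · = 1), A i i = 4 ∧ s i + Z i i = 8 * m - 4 := fun i hi =>
    (h1 i (mem_filter.1 hi).1 (by have := (mem_filter.1 hi).2; omega)).2
  rw [sum_split I h, h3, sum_empty] at h4 h5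
  rw [sum_eq_card_mul fun i hi => (h7 i hi).2] at h4
  rw [sum_eq_card_mul fun i hi => (h7 i hi).1] at h5
  have h8 := sum_le_card_mul fun i hi => (h2 i hi).1
  rw [sum_add_distrib, H.k0] at h8
  rw [h3, H.k0, card_empty] at h6
  refine ⟨fun i hi => by have := h1 i hi; omega, ?_⟩
  by_cases h9 : ∀ i ∈ I.filter (h · = 0), s i + Z i i = 4 * m - 1
  · rw [sum_eq_card_mul h9, H.k0] at h4 h8
    have h10 : (#{i ∈ I | h i = 1} : ℤ) = 2 * m - 1 :=
      mul_right_cancel₀ (show 8 * m - 4 ≠ 0 by omega) (by push_cast at h4; linarith)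
    exact .inl ⟨by push_cast at h6; omega, by push_cast at h8; nlinarith⟩
  · push Not at h9
    obtain ⟨i, hi, h9⟩ := h9
    obtain rfl := ((h2 i hi).2.resolve_left h9).1
    have h10 : 8 ∣ ∑ i ∈ I with h i = 0, (s i + Z i i - 7) := dvd_sum fun i hi => by
      have := (h2 i hi).2; omega
    have h11 : ∑ i ∈ I with h i = 0, (7 : ℤ) < ∑ i ∈ I with h i = 0, (s i + Z i i) :=
      sum_lt_sum (fun i hi => by have := (h2 i hi).2; omega) ⟨i, hi, by have := (h2 i hi).2; omega⟩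
    rw [sum_sub_distrib] at h10
    rw [sum_const, H.k0] at h10 h11
    have := H.l_pos
    rw [nsmul_eq_mul] at h10 h11
    omega

theorem of_ne_zero (hi : i ∈ I) (h0 : h i ≠ 0) : r i = 0 ∧ Z i i = A i i ∧
    (h i = 1 → A i i = 4 ∧ s i = 8 * m - 8) ∧ (2 ≤ h i → A i i = 4 * m ∧ s i = 0 ∧ 2 ^ h i = 2 * m) := by
  obtain ⟨a, ha⟩ := H.num i hi
  have h3 := H.matA.pow_le hi h0
  have h4 := H.matZ.pow_le hi h0
  have := H.eq i hi; have := H.r0 i hi; have := H.s0 i hi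
  have h5 : h i = 1 → (2 : ℤ) ^ h i = 2 := fun h5 => by rw [h5, pow_one]
  have h6 : 2 ≤ h i → (2 : ℤ) ^ 2 ≤ 2 ^ h i := pow_le_pow_right₀ one_le_two
  rcases ha.qe (H.even hi h0) with ⟨h1, h2⟩ | h1
  · obtain ⟨k, rfl⟩ := H.pow
    have h7 : (2 : ℤ) ^ (k + 1) ≤ 2 ^ h i := pow_le_pow_right₀ one_le_two (by_contra fun h7 =>
      (H.val i hi).2 ((pow_dvd_pow 2 (show h i + 1 ≤ k + 1 by omega)).trans (pow_succ' (2 : ℤ) k ▸ h2)))
    rw [pow_succ] at h7
    omega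
  · omega

theorem of_eq_zero (hi : i ∈ I) (h0 : h i = 0) : 4 * m - 2 ≤ s i ∧
    (m = 1 ∨ s i = 4 * m - 2 ∨ (s i = 8 * m - 2 ∧ A i i = 1 ∧ r i = 0 ∧ (m = 2 ∨ m = 4))) := by
  obtain ⟨a, ha⟩ := H.num i hi
  have := H.eq i hi; have := H.r0 i hi; have := H.matA.pos i hi; have := H.matZ.pos i hi
  have := H.pos; have := H.ne_three
  rcases ha.qo (H.odd hi h0) with h1 | h1 | ⟨h1, h2⟩
  · omega
  · omega
  · have : m = 1 ∨ m = 2 ∨ m = 4 := by omega
    rcases this with rfl | rfl | rfl <;> omega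

theorem sum_eq {f : ι → ℤ} {a b : ℤ} (h1 : ∀ i ∈ I, h i = 1 → f i = a)
    (h2 : ∀ i ∈ I, 2 ≤ h i → f i = b) : ∑ i ∈ I, f i =
      ∑ i ∈ I with h i = 0, f i + #{i ∈ I | h i = 1} * a + #{i ∈ I | 2 ≤ h i} * b := by
  rw [sum_split I h, sum_eq_card_mul fun i hi => h1 i (mem_filter.1 hi).1 (mem_filter.1 hi).2,
    sum_eq_card_mul fun i hi => h2 i (mem_filter.1 hi).1 (mem_filter.1 hi).2]

theorem sum_s : ∑ i ∈ I with h i = 0, s i + #{i ∈ I | h i = 1} * (8 * m - 8) =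
    8 * m * (2 * m - 1) := by
  rw [← H.sum, H.sum_eq (fun i hi h1 => ((H.of_ne_zero hi (by omega)).2.2.1 h1).2)
    fun i hi h1 => ((H.of_ne_zero hi (by omega)).2.2.2 h1).2.1, mul_zero, add_zero]

theorem sum_A : ∑ i ∈ I with h i = 0, A i i + #{i ∈ I | h i = 1} * 4 +
    #{i ∈ I | 2 ≤ h i} * (4 * m) = 8 * m * l := by
  rw [← H.matA.tr, H.sum_eq (fun i hi h1 => ((H.of_ne_zero hi (by omega)).2.2.1 h1).1)
    fun i hi h1 => ((H.of_ne_zero hi (by omega)).2.2.2 h1).1]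

theorem sum_Z : ∑ i ∈ I with h i = 0, Z i i + #{i ∈ I | h i = 1} * 4 +
    #{i ∈ I | 2 ≤ h i} * (4 * m) = 8 * m * lz := by
  rw [← H.matZ.tr, H.sum_eq (fun i hi h1 => (H.of_ne_zero hi (by omega)).2.1.trans
    ((H.of_ne_zero hi (by omega)).2.2.1 h1).1) fun i hi h1 =>
      (H.of_ne_zero hi (by omega)).2.1.trans ((H.of_ne_zero hi (by omega)).2.2.2 h1).1]

theorem sum_pow : ∑ i ∈ I, ((2 : ℤ) ^ h i) ^ 2 =
    4 + #{i ∈ I | h i = 1} * 4 + #{i ∈ I | 2 ≤ h i} * (2 * m) ^ 2 := by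
  rw [H.sum_eq (a := 4) (fun i _ h1 => by rw [h1]; norm_num) fun i hi h1 => by
    rw [((H.of_ne_zero hi (by omega)).2.2.2 h1).2.2], sum_eq_card_mul (c := 1) fun i hi => by
      rw [(mem_filter.1 hi).2]; norm_num, H.k0]
  norm_num

theorem nonstd (hi : i ∈ I) (h0 : h i = 0) (h1 : s i ≠ 4 * m - 2) :
    (m = 2 ∧ #I = 5 ∧ l = 1) ∨
      (m = 4 ∧ #I = 9 ∧ lz = 1 ∧ r i = 0 ∧ ∀ j ∈ I, h j ≠ 0 → s j = 24) := by
  have h2 := H.sum_s
  have h3 : ∑ i ∈ I with h i = 0, (4 * m - 2) < ∑ i ∈ I with h i = 0, s i :=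
    sum_lt_sum (fun i hi => (H.of_eq_zero (mem_filter.1 hi).1 (mem_filter.1 hi).2).1)
      ⟨i, mem_filter.2 ⟨hi, h0⟩, by have := (H.of_eq_zero hi h0).1; omega⟩
  have h4 := sum_le_card_mul (c := 8 * m - 1) (f := fun i => A i i + s i)
    fun i (hi : i ∈ I.filter (h · = 0)) => by
      have hi' := (mem_filter.1 hi).1
      have := H.eq i hi'; have := H.r0 i hi'; have := H.matZ.pos i hi'; omega
  have h5 := sum_le_card_mul (c := 8 * m - 1) (f := fun i => Z i i + s i)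
    fun i (hi : i ∈ I.filter (h · = 0)) => by
      have hi' := (mem_filter.1 hi).1
      have := H.eq i hi'; have := H.r0 i hi'; have := H.matA.pos i hi'; omega
  have h5' := card_mul_le_sum fun i (hi : i ∈ I.filter (h · = 0)) => H.matA.pos i (mem_filter.1 hi).1
  rw [sum_const, H.k0, nsmul_eq_mul] at h3
  rw [sum_add_distrib, H.k0] at h4 h5
  rw [H.k0] at h5'
  have h6 := H.sum_A
  have h7 := H.sum_Z
  have h8 := H.matA.sq_le hi h0
  have h9 := Nat.odd_iff.1 (H.matA.odd_card (dvd_mul_right 8 m) H.k0)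
  have h10 := card_split I h
  have := H.l_pos
  rw [H.sum_pow] at h8
  rw [H.k0] at h10
  obtain rfl | h11 | ⟨h11, h12, h13, rfl | rfl⟩ := (H.of_eq_zero hi h0).2
  · omega
  · omega
  · rw [h12] at h8; omega
  · rw [h12] at h8
    refine .inr ⟨rfl, by omega, by omega, h13, fun j hj h14 => ?_⟩
    by_cases h15 : h j = 1
    · exact ((H.of_ne_zero hj h14).2.2.1 h15).2
    · have := card_pos.2 ⟨j, (mem_filter (p := (2 ≤ h ·))).2 ⟨hj, by omega⟩⟩
      omega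

variable (hs : ∀ i ∈ I, h i = 0 → s i = 4 * m - 2)
include hs

theorem card_one (hm : m ≠ 1) : (#{i ∈ I | h i = 1} : ℤ) = 2 * m - 1 := by
  have h2 := H.sum_s
  rw [sum_eq_card_mul fun i hi => hs i (mem_filter.1 hi).1 (mem_filter.1 hi).2, H.k0] at h2
  exact mul_right_cancel₀ (show 8 * m - 8 ≠ 0 by omega) (by push_cast at h2; linarith)

theorem l_le : l ≤ 3 := by
  have hm := H.pos
  by_contra h1
  have h2 := H.sum_A
  obtain ⟨i, hi, h3⟩ := exists_le_of_sum_le (s := I.filter (h · = 0)) (g := fun i => A i i)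
    (f := fun _ => 8 * m - #{i ∈ I | h i = 1} - #{i ∈ I | 2 ≤ h i} * m)
    (card_pos.1 (H.k0 ▸ four_pos)) (by rw [sum_const, H.k0, nsmul_eq_mul]; push_cast; nlinarith)
  rw [mem_filter] at hi
  have h4 := H.matZ.sq_le hi.1 hi.2
  have := H.eq i hi.1; have := H.r0 i hi.1; have := H.matZ.pos i hi.1; have := hs i hi.1 hi.2
  rw [H.sum_pow] at h4
  by_cases h5 : m = 1
  · have h6 : #{i ∈ I | 2 ≤ h i} = 0 := card_eq_zero.2 (filter_false_of_mem fun j hj h6 => by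
      have := ((H.of_ne_zero hj (by omega)).2.2.2 h6).2.2
      have : (2 : ℤ) ^ 2 ≤ 2 ^ h j := pow_le_pow_right₀ one_le_two h6
      omega)
    subst h5
    rw [h6] at h3 h4
    nlinarith [sq_nonneg (Z i i - 2)]
  · rw [H.card_one hs h5] at h3 h4
    generalize (#{i ∈ I | 2 ≤ h i} : ℤ) = y at *
    have h6 : y ≤ 3 := by
      by_contra h6
      nlinarith [sq_nonneg (Z i i - 4 * m), mul_le_mul_of_nonneg_left (show 4 ≤ y by omega)
        (sq_nonneg m)]
    have h7 : m * (2 + m * y) ≤ m * (2 * Z i i) := by nlinarith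
    have h8 := le_of_mul_le_mul_left h7 hm
    nlinarith

theorem three_le (hm : m ≠ 1) (hy : 2 ≤ #{i ∈ I | 2 ≤ h i}) : 3 ≤ lz := by
  have hm' := H.pos
  have h2 := H.sum_Z
  have : (2 : ℤ) ≤ #{i ∈ I | 2 ≤ h i} := by exact_mod_cast hy
  have h3 := card_mul_le_sum (c := 2) fun i (hi : i ∈ I.filter (h · = 0)) => (by
    rw [mem_filter] at hi
    have h4 := H.matZ.sq_le hi.1 hi.2
    have h6 := H.matZ.pos i hi.1
    rw [H.sum_pow, H.card_one hs hm] at h4
    by_contra h5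
    rw [show Z i i = 1 by omega] at h4
    nlinarith [mul_le_mul_of_nonneg_right this (sq_nonneg (2 * m))] : 2 ≤ Z i i)
  rw [H.card_one hs hm] at h2
  rw [H.k0] at h3
  by_contra h4
  push_cast at h3
  nlinarith

theorem signed {T : Finset ι} (hT : T ⊆ I) (h0 : ∀ i ∈ T, h i ≠ 0)
    (h1 : ∀ i ∈ I, ∑ j ∈ I \ T, A i j ^ 2 = ∑ j ∈ T, A i j ^ 2)
    (h2 : ∑ i ∈ T, s i = 8 * m * (m - 1)) : #I = l + 2 * m + 2 := by
  have hm := H.pos
  have h3 : ∀ i ∈ I, ∑ j ∈ T, A i j ^ 2 = 4 * m * A i i := fun i hi => by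
    have := H.matA.sq i hi
    rw [← sum_sdiff hT, h1 i hi] at this
    linarith
  have h4 : ∑ i ∈ T, A i i = 4 * m * l := by
    have h4 : ∑ i ∈ I \ T, 4 * m * A i i = ∑ i ∈ T, 4 * m * A i i := by
      rw [← sum_congr rfl fun i hi => h3 i (sdiff_subset hi), sum_comm]
      refine sum_congr rfl fun i hi => ?_
      rw [← h3 i (hT hi), ← h1 i (hT hi)]
      exact sum_congr rfl fun j hj => by rw [H.matA.symm i (hT hi) j (sdiff_subset hj)]
    have h5 := H.matA.tr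
    rw [← mul_sum, ← mul_sum] at h4
    rw [← sum_sdiff hT, mul_left_cancel₀ (by omega) h4] at h5
    linarith
  have h5 := sum_eq_card_mul (T := T) (f := fun i => 2 * A i i + s i) (c := 8 * m) fun i hi => by
    have := H.eq i (hT hi); have := H.of_ne_zero (hT hi) (h0 i hi); omega
  rw [sum_add_distrib, ← mul_sum, h4, h2] at h5
  have h6 : (#T : ℤ) = l + m - 1 := mul_right_cancel₀ (show 8 * m ≠ 0 by omega) (by linarith)
  obtain ⟨i, hi, hi0⟩ := H.exists_zero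
  have h7 : ∀ j ∈ (I \ T).filter (h · ≠ 0), s j = 8 * m - 8 ∧ m ≠ 1 := fun j hj => by
    rw [mem_filter] at hj
    have hj' := sdiff_subset hj.1
    have h7 : (2 : ℤ) ^ h j ≠ 2 * m := fun h7 => by
      have h8 := H.matA.pow_le_sq hi hi0 hj'
      have h9 := sum_le_sum_of_subset_of_nonneg (f := fun j => A i j ^ 2) (s := {i, j})
        (insert_subset (mem_sdiff.2 ⟨hi, fun h => h0 i h hi0⟩) (singleton_subset_iff.2 hj.1))
        fun _ _ _ => sq_nonneg _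
      rw [sum_pair (fun h' : i = j => hj.2 (h' ▸ hi0)), h1 i hi, h3 i hi] at h9
      obtain ⟨c, hc⟩ := H.matA.odd hi hi0
      rw [h7] at h8
      have : (A i i - 2 * m) ^ 2 = 0 := by nlinarith [sq_nonneg (A i i - 2 * m)]
      have := pow_eq_zero_iff two_ne_zero |>.1 this
      omega
    have h8 := H.of_ne_zero hj' hj.2
    by_cases h9 : h j = 1
    · exact ⟨(h8.2.2.1 h9).2, fun h => h7 (by rw [h9, h]; norm_num)⟩
    · exact absurd (h8.2.2.2 (by omega)).2.2 h7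
  have h8 : (I \ T).filter (h · = 0) = I.filter (h · = 0) := by
    ext j; simp only [mem_filter, mem_sdiff]; exact ⟨by tauto, fun h => ⟨⟨h.1, (h0 j · h.2)⟩, h.2⟩⟩
  have h9 := H.sum
  have h10 := card_filter_add_card_filter_not (s := I \ T) (h · = 0)
  rw [← sum_sdiff hT, h2, ← sum_filter_add_sum_filter_not _ (h · = 0), h8, sum_eq_card_mul fun i hi =>
    hs i (mem_filter.1 hi).1 (mem_filter.1 hi).2, sum_eq_card_mul fun j hj => (h7 j hj).1, H.k0] at h9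
  have h11 := card_sdiff_add_card_eq_card hT
  rw [h8, H.k0] at h10
  by_cases h12 : m = 1
  · rw [eq_empty_of_forall_notMem fun j hj => (h7 j hj).2 h12, card_empty] at h10
    omega
  · have : (#{j ∈ I \ T | ¬h j = 0} : ℤ) = m - 1 :=
      mul_right_cancel₀ (show 8 * m - 8 ≠ 0 by omega) (by push_cast at h9; linarith)
    omega

end TD

end Cfsg.Agent.H86
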