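import Cfsg.Agent.H86.TameB
import Cfsg.Agent.H34.Quot
import Cfsg.Agent.S4608

/-! Blocks with dihedral defect groups, and tame blocks with a central involution. -/

set_option autoImplicit false
set_option linter.unusedSectionVars false

open MonoidAlgebra Subgroup ComplexConjugate

namespace Cfsg.Agent.H86

open Cfsg Cfsg.Agent.H87 Cfsg.Agent.H32

theorem Tame.quot {H K : Type*} [Group H] [Group K] {x y : H} {m : ℕ} (T : Tame x y (2 * m))
    (hm : ∃ k, m = 2 ^ k) {f : H →* K} (hf : Function.Surjective f)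
    (hk : f.ker = zpowers (x ^ (2 * (2 * m)))) :
    Tame (f x) (f y) m ∧ ∀ u ∉ zpowers (f x), u * u = 1 := by
  have := T.finite
  have h1 := H34.card_map_mul_card_inf_ker f (zpowers x)
  have h2 := H34.card_map_mul_card_inf_ker f ⊤
  rw [hk, inf_eq_left.2 Tame.z_le, MonoidHom.map_zpowers, T.card_C, Nat.card_zpowers,
    Nat.card_zpowers, T.ord_z] at h1
  rw [hk, inf_top_eq, Nat.card_zpowers, T.ord_z, map_top_of_surjective f hf, card_top, card_top,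
    T.card] at h2
  have h3 : ∀ u, f u ∈ zpowers (f x) → u ∈ zpowers x := fun u ⟨k, hu⟩ =>
    (mul_mem_cancel_left (inv_mem (zpow_mem (mem_zpowers x) k))).1 (Tame.z_le (by
      rw [← hk, MonoidHom.mem_ker, map_mul, map_inv, map_zpow, ← hu, inv_mul_cancel]))
  refine ⟨⟨by omega, by omega, hm, mt (h3 y) T.nm, .inl (eq_inv_of_mul_eq_one_left ?_)⟩, fun u hu => ?_⟩
  · simpa [← hk] using T.cj_mul_mem (mem_zpowers x)
  · obtain ⟨u, rfl⟩ := hf u
    simpa [← hk] using T.sq_mem fun h : u ∈ zpowers x =>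
      hu (MonoidHom.map_zpowers f x ▸ mem_map_of_mem f h)

variable {M : Ideal AlgInt} [hMm : M.IsMaximal] {G : Type*} [Group G] [Finite G]
  {B : Set (IrrCharacter G)} {P : Subgroup G} {e : (Res M)[G]} {x y : P} {m : ℕ}

theorem coe_mem_zpowers {u v : P} : (u : G) ∈ zpowers (v : G) ↔ u ∈ zpowers v :=
  exists_congr fun k => by simp only [← SubgroupClass.coe_zpow, Subtype.val_inj]

namespace Tame

variable (T : Tame x y m)
include T

theorem mem_Ce_of_odd {Q : Subgroup G} (hQ : Q ≤ P) {g : G} (hg : g ∈ No Q) (h1 : ¬ 2 ∣ orderOf g)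
    (H : ∀ u v : P, (v : G) = g * u * g⁻¹ → (v ∈ zpowers x ↔ u ∈ zpowers x)) : g ∈ Ce Q := by
  have h3 := H42.OddAut.of_conj (T.pgp.to_le hQ) hg (Nat.odd_iff.2 (Nat.two_dvd_ne_zero.1 h1))
  refine mem_Ce.2 fun q hq => (mul_inv_eq_iff_eq_mul.1 (h3.fix_of_fix hq ?_)).symm
  have h4 := conj_mem_of_No hg hq
  have h5 := mul_mem h4 (inv_mem hq)
  have h6 : (⟨_, hQ h4⟩ * ⟨q, hQ hq⟩⁻¹ : P) ∈ zpowers x := by
    rw [T.mul_mem_iff, inv_mem_iff]; exact H _ _ rfl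
  exact h3.fix_of_mem_cyclic h5 (coe_mem_zpowers.2 h6)
    (coe_mem_zpowers.2 ((H _ ⟨_, hQ (conj_mem_of_No hg h5)⟩ rfl).2 h6))

theorem No_le_Ce {w : P} (hw : w ∈ zpowers x) (hz : x ^ (2 * m) ∈ zpowers w) :
    No (zpowers (w : G)) ≤ Ce (zpowers ((x ^ (2 * m) : P) : G)) := fun g hg => by
  obtain ⟨k, hk⟩ := conj_mem_of_No hg (coe_mem_zpowers.2 hz)
  have h1 : ((w ^ k : P) : G) = _ := hk
  have h2 := T.mem_z.1 (T.mem_z_of_sq (zpow_mem hw k) (Subtype.ext (by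
    rw [coe_mul, h1, conj_mul, ← coe_mul, T.zz]; simp)))
  rw [h2.resolve_left fun h3 => T.z_ne (Subtype.ext (by simpa [h3] using h1.symm))] at h1
  exact (isCent_zpowers _ g).2 (mul_inv_eq_iff_eq_mul.1 h1.symm)

variable [Fintype P] (h : Ctx M 2 B P e)
include h

theorem exists_gl_w : ∃ S δ, Gl M 2 B P e S (x ^ (2 * m)) δ ∧ ∀ u ∈ sS x m, u ∈ S := by
  have h1 : x ^ (2 * m) ∈ zpowers (x ^ m) := ww (x := x) ▸ mul_mem (mem_zpowers _) (mem_zpowers _)
  obtain ⟨δ, L⟩ := h.exists_gl (x ^ (2 * m)) (x ^ m) T.z_mem_Ce (fun g hg =>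
    H91.mem_normalizer_of_conj_mem fun _ ⟨k, hk⟩ => by
      simp only [← hk, ← conj_zpow]; exact zpow_mem (coe_mem_zpowers.2 (T.cj_w_mem ⟨g, hg⟩)) k)
    (coe_mem_zpowers.2 h1) (T.No_le_Ce (npow_mem_zpowers _ _) h1) fun Q hQ g hg h2 =>
      T.mem_Ce_of_odd hQ hg.2 h2 fun u v huv => by
        have h3 := (H42.OddAut.of_conj (T.pgp.to_le (zpowers_le.2 (x ^ m).2)) hg.1 (Nat.odd_iff.2
          (Nat.two_dvd_ne_zero.1 h2))).fix_of_mem_zpowers (mem_zpowers _)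
          (conj_mem_of_No hg.1 (mem_zpowers _))
        rw [T.mem_C_iff (npow_mem_zpowers x m) T.w_nm, T.mem_C_iff (npow_mem_zpowers x m) T.w_nm,
          Subtype.ext_iff, Subtype.ext_iff, coe_mul, coe_mul, coe_inv, coe_mul, coe_mul, coe_inv, huv,
          ← h3, conj_mul, conj_inv, conj_mul, mul_left_inj, mul_right_inj, h3]
  exact ⟨_, δ, L, fun u hu => coe_mem_zpowers.2 (T.w_mem (mem_sS.1 hu).1 (mem_sS.1 hu).2)⟩

theorem exists_gl_z (hD : ∀ u ∉ zpowers x, u * u = 1) :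
    ∃ S δ, Gl M 2 B P e S (x ^ (2 * m)) δ ∧ (∀ u ∈ sS x m, u ∈ S) ∧ x ^ (2 * m) ∈ S := by
  have h1 := T.No_le_Ce (npow_mem_zpowers _ _) (mem_zpowers (x ^ (2 * m)))
  have h2 : ∀ u, u ∈ zpowers x ↔ u * u ≠ 1 ∨ u = 1 ∨ u = x ^ (2 * m) := fun u => by
    rw [← T.mem_z]
    exact ⟨fun h => not_or_of_imp (T.mem_z_of_sq h), fun h => h.elim (not_imp_comm.1 (hD u))
      fun h => z_le h⟩
  obtain ⟨δ, L⟩ := h.exists_gl (x ^ (2 * m)) (x ^ (2 * m)) T.z_mem_Ce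
    ((le_Ce_comm.1 (zpowers_le.2 T.z_mem_Ce)).trans (Ce_le_No _)) (mem_zpowers _) h1
    fun Q hQ g hg h3 => T.mem_Ce_of_odd hQ hg.2 h3 fun u v huv => by
      have h4 := mul_inv_eq_iff_eq_mul.2 ((isCent_zpowers _ g).1 (h1 hg.1))
      simp only [h2, Ne, Subtype.ext_iff, coe_mul, coe_one, huv, conj_mul, conj_eq_one_iff]
      rw [← h4, mul_left_inj, mul_right_inj, h4]
  exact ⟨_, δ, L, fun u hu => coe_mem_zpowers.2 (T.z_mem (mem_sS.1 hu).1 fun h =>
    (mem_sS.1 hu).2 (h ▸ one_mem _)), mem_zpowers _⟩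

theorem not_five (hm : m = 2) (hk : (fs B).card = 5) (hl : (blockRank 2 B : ℤ) = 1) : False := by
  have := S4608.result 2 M h.hM B h.hB P h.isDefectGroup (by omega) (by rw [← card_fs]; omega)
  have := T.card
  omega

theorem rho_nonneg : 0 ≤ rho e x :=
  Finset.sum_nonneg fun u _ => mul_nonneg (h.wt_pos u.2).le (Nat.cast_nonneg _)

theorem dihedral (hD : ∀ u ∉ zpowers x, u * u = 1) : Nat.card B = 2 * m + 3 ∧ blockRank 2 B ≤ 3 ∧
    ((fs B).filter fun χ : IrrCharacter G => blockHeight 2 B (χ : G → ℂ) = 0).card = 4 ∧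
    (∀ χ ∈ B, blockHeight 2 B (χ : G → ℂ) ≤ 1) ∧ blockRank 2 B + rho e x = 3 := by
  classical
  obtain ⟨S, δ, L, hS, hz⟩ := T.exists_gl_z h hD
  obtain ⟨A, Z, s, t, r, H, -, -, -, -, h1⟩ := L.exists_td T hS
  have h2 : lb 2 P e (x ^ (2 * m) : P) = 1 := L.r1 _ hz
  obtain ⟨h3, h4⟩ := H.dihedral (fun χ hχ => h1 hz χ (mem_fs.1 hχ)) (by simp only [h2]; rfl)
  obtain ⟨h4, h5⟩ := h4.resolve_right fun h4 => T.not_five h (by omega) h4.2.1 h4.2.2
  have h6 : Nat.card B = 2 * m + 3 := by rw [← card_fs]; omega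
  refine ⟨h6, by omega, H.k0, fun χ hχ => h3 χ (mem_fs.2 hχ), ?_⟩
  have h7 := L.card_eq T hS
  rw [h2, h6] at h7
  push_cast at h7
  linarith

theorem central (hz : ((x ^ (2 * m) : P) : G) ∈ center G) : blockRank 2 B + rho e x = 3 := by
  classical
  have := Fintype.ofFinite G
  obtain ⟨S, δ, L, hS⟩ := T.exists_gl_w h
  obtain ⟨A, Z, s, t, r, H, hA, -, hs, -, -⟩ := L.exists_td T hS
  have h1 : ∀ χ : IrrCharacter G, ∃ a : ℤ, (a = 1 ∨ a = -1) ∧
      ∀ g, (χ : G → ℂ) ((x ^ (2 * m) : P) * g) = a * (χ : G → ℂ) g := fun χ => by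
    obtain ⟨ω, h1, h2⟩ := exists_central_root hz χ
    rw [orderOf_coe, T.ord_z, sq] at h1
    rcases mul_self_eq_one_iff.1 h1 with rfl | rfl
    exacts [⟨1, .inl rfl, by simpa using h2 1⟩, ⟨-1, .inr rfl, by simpa using h2 1⟩]
  choose ε h1 h2 using h1
  set N := (fs B).filter (ε · = -1) with hN
  have h3 : ∀ F : IrrCharacter G → ℤ, ∑ χ ∈ fs B, ε χ * F χ =
      ∑ χ ∈ fs B \ N, F χ - ∑ χ ∈ N, F χ := fun F => by
    rw [← Finset.sum_sdiff (Finset.filter_subset (ε · = -1) _), sub_eq_add_neg,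
      ← Finset.sum_neg_distrib]
    congr 1 <;> refine Finset.sum_congr rfl fun χ hχ => ?_
    · rw [(h1 χ).resolve_right fun h => (Finset.mem_sdiff.1 hχ).2
        (Finset.mem_filter.2 ⟨(Finset.mem_sdiff.1 hχ).1, h⟩), one_mul]
    · rw [(Finset.mem_filter.1 hχ).2, neg_one_mul]
  have hw := T.w_mem_sS
  have h4 : ∀ χ ∈ N, blockHeight 2 B (χ : G → ℂ) ≠ 0 := fun χ hχ h0 => by
    rw [Finset.mem_filter] at hχ
    have h4 := h.D_mul (irr_cf χ.2) (x ^ m).2 (x ^ (2 * m)).2 hz (h2 χ)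
    rw [← coe_mul, D_fz h (irr_cf χ.2) (x ^ m).2 (h.fz_of_isConj ((T.isConj_mul_z_iff
      (mem_sS.1 hw).1 (mem_sS.1 hw).2).2 (.inl rfl))), hχ.2] at h4
    exact h.D_ne_zero (x ^ m).2 (L.r1 _ (hS _ hw)) (mem_fs.1 hχ.1) h0
      (by push_cast at h4; linear_combination h4 / 2)
  have h5 : ∀ χ ∈ fs B, ∑ ψ ∈ fs B \ N, A χ ψ ^ 2 = ∑ ψ ∈ N, A χ ψ ^ 2 := fun χ hχ => by
    have h5 := h.sum_cn_mul_cn P.one_mem (mul_mem P.one_mem (x ^ (2 * m)).2) (irr_cf χ.2)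
      (irr_cf χ.2)
    rw [if_neg fun h6 => T.z_ne (Subtype.ext (by simpa [eq_comm] using h6.isConj))] at h5
    rw [← sub_eq_zero, ← h3, ← mul_eq_zero_iff_left (show ε χ ≠ 0 by have := h1 χ; omega)]
    refine Int.cast_injective (α := ℂ) (Eq.trans ?_ ((congrArg ((8 * m : ℂ) ^ 2 * ·) h5).trans
      (by simp)))
    simp only [Int.cast_mul, Int.cast_sum, Int.cast_pow]
    rw [Finset.mul_sum, Finset.mul_sum]
    refine Finset.sum_congr rfl fun ψ hψ => ?_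
    rw [h.cn_mul P.one_mem (x ^ (2 * m)).2 hz (h2 ψ) (h2 χ), sq (A χ ψ : ℂ), map_intCast]
    nth_rw 2 [H.matA.symm χ hχ ψ hψ]
    rw [← hA, ← hA]; ring
  have h6 : ∑ χ ∈ N, s χ = 8 * m * (m - 1) := by
    have h6 : ∑ χ ∈ fs B, ε χ * s χ = 8 * m := Int.cast_injective (α := ℂ) (by
      push_cast
      rw [Finset.sum_congr rfl fun χ hχ => by
        rw [hs χ (mem_fs.1 hχ), Finset.mul_sum, Finset.sum_congr rfl fun u _ => by
          rw [← mul_assoc, ← h.D_mul (irr_cf χ.2) u.2 (x ^ (2 * m)).2 hz (h2 χ), ← coe_mul]],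
        Finset.sum_comm, Finset.sum_congr rfl fun u hu => by
          rw [L.sum_D T hS hu (mul_mem (mem_sS.1 hu).1 (npow_mem_zpowers _ _)), if_congr
            (T.isConj_mul_z_iff (mem_sS.1 hu).1 (mem_sS.1 hu).2) rfl rfl], ← Finset.sum_filter,
        show Finset.filter _ _ = {x ^ m, (x ^ m)⁻¹} from Finset.ext fun w => by
          simp only [Finset.mem_filter, Finset.mem_insert, Finset.mem_singleton]
          exact and_iff_right_of_imp fun h => h.elim (· ▸ hw) (· ▸ T.cj_w ▸ T.cj_mem_sS hw y),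
        Finset.sum_pair T.w_ne_inv.symm]
      ring)
    have h7 := H.sum
    rw [← Finset.sum_sdiff (Finset.filter_subset (ε · = -1) _)] at h7
    rw [h3] at h6
    linarith
  have h7 := H.signed (fun χ hχ h0 => by_contra fun h7 => ?_) (Finset.filter_subset _ _) h4 h5 h6
  · have h8 := L.card_eq T hS
    have h9 := h.lb_mul P.one_mem (x ^ (2 * m)).2 hz
    rw [one_mul, h.lb_one] at h9
    have h10 : (Nat.card B : ℝ) = blockRank 2 B + 2 * m + 2 := by rw [← card_fs]; exact_mod_cast h7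
    rw [h9] at h8
    linarith
  rcases H.nonstd hχ h0 h7 with h8 | ⟨h8, h9, -, -, h10⟩
  · exact T.not_five h (by omega) h8.2.1 h8.2.2
  obtain rfl : m = 2 * 2 := by omega
  have : (zpowers ((x ^ (2 * (2 * 2)) : P) : G)).Normal := ⟨fun a ha g => by
    rwa [mem_center_iff.1 (zpowers_le.2 hz ha), mul_inv_cancel_right]⟩
  have : Fact (Nat.Prime 2) := ⟨Nat.prime_two⟩
  have hπ := QuotientGroup.mk'_surjective (zpowers ((x ^ (2 * (2 * 2)) : P) : G))
  have hk := QuotientGroup.ker_mk' (zpowers ((x ^ (2 * (2 * 2)) : P) : G))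
  generalize QuotientGroup.mk' (zpowers ((x ^ (2 * (2 * 2)) : P) : G)) = π at hπ hk
  obtain ⟨b, hb, hbB, hd⟩ := H34.exists_block_defectGroup_map h.hM hπ
    (T.pgp.to_le (hk.le.trans (zpowers_le.2 (x ^ _).2))) h.hB
  obtain ⟨e', h'⟩ := exists_ctx h.hM hb ((hd _).2 ⟨P, h.isDefectGroup, rfl⟩)
  obtain ⟨T', hD⟩ := T.quot ⟨1, rfl⟩ (π.subgroupMap_surjective P) (by
    ext u
    rw [← coe_mem_zpowers, ← SetLike.ext_iff.1 hk, MonoidHom.mem_ker, MonoidHom.mem_ker,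
      Subtype.ext_iff]; rfl)
  have := Fintype.ofFinite (P.map π)
  have h11 := (T'.dihedral h' hD).1
  have h12 := Finset.card_le_card_of_injOn (s := fs b) (t := fs B \ N) (H34.infl hπ)
    (fun φ hφ => Finset.mem_coe.2 (Finset.mem_sdiff.2 ⟨mem_fs.2 (hbB (mem_fs.1 hφ)), fun h12 => by
      have h13 := h2 (H34.infl hπ φ) 1
      rw [(Finset.mem_filter.1 h12).2, H34.infl_apply, H34.infl_apply, map_mul,
        MonoidHom.mem_ker.1 (hk.ge (mem_zpowers _)), map_one, one_mul] at h13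
      exact H5.degree_ne_zero φ.2 (by push_cast at h13; linear_combination h13 / 2)⟩))
    (H34.infl_injective hπ).injOn
  have h13 := Finset.card_sdiff_add_card_eq_card (Finset.filter_subset (ε · = -1) (fs B))
  rw [sum_eq_card_mul (T := N) fun χ hχ => h10 χ (Finset.mem_filter.1 hχ).1 (h4 χ hχ)] at h6
  rw [card_fs b] at h12
  rw [← hN] at h13
  omega

end Tame

end Cfsg.Agent.H86
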