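import Cfsg.Agent.H86.Wat
import Cfsg.Agent.H87.Frob
import Cfsg.Agent.H42.Index2

/-! Transfer of subsection data to the normalizer of a normal subpair of a maximal Brauer pair. -/

set_option autoImplicit false
set_option linter.unusedSectionVars false

open MonoidAlgebra Subgroup ComplexConjugate

namespace Cfsg.Agent.H86

open Cfsg Cfsg.Agent.H87 Cfsg.Agent.H32

theorem orderOf_isConj {G : Type*} [Group G] {g h : G} (hc : IsConj g h) :
    orderOf g = orderOf h := by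
  obtain ⟨c, rfl⟩ := isConj_iff.1 hc
  exact SemiconjBy.orderOf_eq c (by simp [SemiconjBy])

section Alg

variable {k : Type*} [Field k] {G : Type*} [Group G] {p : ℕ} {N N' P Q R : Subgroup G}
  {b e f : k[G]}

theorem Pair.of_Ce_le (h : Pair p N Q f) (h1 : Ce Q ≤ N) (h2 : Ce Q ≤ N') (h3 : Q ≤ No N') :
    Pair p N' Q f := ⟨h.pgp, h3, by
  have := h.blk
  rwa [inf_eq_right.2 h1, ← inf_eq_right.2 h2] at this⟩

theorem Sub.of_Ce_le (h : Sub p N Q f P e) (h1 : Ce Q ≤ N) (h2 : Ce Q ≤ N') (h3 : P ≤ No N') :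
    Sub p N' Q f P e := by
  have key : ∀ a : Subgroup G × k[G], Relation.ReflTransGen (NSub p N) a (P, e) →
      Q ≤ a.1 → Relation.ReflTransGen (NSub p N') a (P, e) := by
    intro a ha
    induction ha using Relation.ReflTransGen.head_induction_on with
    | refl => exact fun _ => .refl
    | @head a c h4 h5 ih =>
      intro hQ
      have hc : c.1 ≤ P := (sub_aux h5).1
      have h6 := Ce_anti hQ
      have h7 := Ce_anti (hQ.trans h4.le)
      exact .head ⟨Pair.of_Ce_le h4.left (h6.trans h1) (h6.trans h2) ((h4.le.trans hc).trans h3),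
        Pair.of_Ce_le h4.right (h7.trans h1) (h7.trans h2) (hc.trans h3), h4.le, h4.norm, h4.inv,
        h4.br⟩ (ih (hQ.trans h4.le))
  exact key _ h le_rfl

variable [Finite G] [Fact p.Prime] [CharP k p]

theorem nilp_of_reg (hb : Blk N N b) (hm : MaxPair p N N b P e)
    (h : ∀ Q ≤ P, ∀ x ∈ N ⊓ No Q, ¬ p ∣ orderOf x → x ∈ Ce Q) : Nilp p N b := by
  intro Q f hf x hx _ hp
  obtain ⟨y, hy, hs⟩ := hm.conj_sub le_rfl le_normalizer hb hf
  have h1 := h _ hs.le (y * x * y⁻¹) ⟨N.mul_mem (N.mul_mem hy hx.1) (N.inv_mem hy),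
    cjS_No y Q ▸ conj_mem_cjS hx.2⟩ (by rwa [← MulAut.conj_apply, MulEquiv.orderOf_eq])
  rw [← cjS_Ce, mem_cjS] at h1
  rwa [show y⁻¹ * (y * x * y⁻¹) * y = x by group] at h1

end Alg

variable {M : Ideal AlgInt} [hMm : M.IsMaximal] {G K : Type*} [Group G] [Finite G] [Group K]
  [Finite K] {p : ℕ} {B : Set (IrrCharacter G)} {P R N : Subgroup G} {e f : (Res M)[G]}
  {χ ψ : G → ℂ} {ι : K →* G} {u v : G}

theorem tau_up (hι : Function.Injective ι) (hχ : IsClassFunction G χ) {g : K} {j : (Res M)[K]}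
    (hj : Inv (zpowers g) j) (hi : IsIdempotentElem j) :
    tau χ (ι g) (up ι j) = tau (fun x => χ (ι x)) g j := by
  obtain ⟨a, h1, h2, rfl⟩ := exists_lift hj hi
  rw [← redG_up ι h1.2, tau_eq (isClassFunction_comp hχ ι) h1 h2, tau_eq hχ ⟨mem_fixT.2 (by
    rw [← MonoidHom.map_zpowers]; exact (inv_up_iff hι).2 (mem_fixT.1 h1.1)),
    H32.up_mem_RG ι h1.2⟩ (h2.map _)]
  refine Eq.trans ?_ (H32.ev_up ι χ _)
  rw [← up_single ι g, ← map_mul (up ι)]

variable (p P e) in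
/-- `(R, f)` is a normal subpair of `(P, e)` with normalizer `N`. -/
structure Lc (R : Subgroup G) (f : (Res M)[G]) (N : Subgroup G) : Prop where
  sub : Sub p ⊤ R f P e
  norm : P ≤ No R
  mem : ∀ g, g ∈ N ↔ g ∈ No R ∧ cj g f = f

theorem Ctx.exists_lc (h : Ctx M p B P e) (h1 : R ≤ P) (h2 : P ≤ No R) :
    ∃ f N, Lc p P e R f N := by
  have : Fact p.Prime := ⟨h.hM.1⟩
  have := res_charP h.hM
  obtain ⟨f, hf⟩ := exists_sub h.pair h1
  exact ⟨f, No R ⊓ stab f, hf, h2, fun _ => Iff.rfl⟩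

namespace Lc

variable (h : Ctx M p B P e) (L : Lc p P e R f N)
include h L

theorem pair : Pair p ⊤ R f := L.sub.pair_iff.2 h.pair

theorem le : P ≤ N := by
  have : Fact p.Prime := ⟨h.hM.1⟩
  have := res_charP h.hM
  exact fun g hg => (L.mem g).2 ⟨L.norm hg, L.sub.inv h.pair g ⟨hg, L.norm hg⟩⟩

theorem Ce_le : Ce R ≤ N := fun g hg =>
  (L.mem g).2 ⟨Ce_le_No R hg, (L.pair h).blk.inv g ⟨mem_top g, hg⟩⟩

theorem blk : Blk N N f := by
  have : Fact p.Prime := ⟨h.hM.1⟩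
  have := res_charP h.hM
  have h1 := (L.pair h).blk_of_le (inf_le_right.trans (L.Ce_le h)) fun g hg => ((L.mem g).1 hg).2
  rw [top_inf_eq, ← inf_eq_right.2 (L.Ce_le h)] at h1
  exact (blk_inf_Ce_iff le_rfl (L.pair h).pgp (L.sub.le.trans (L.le h))
    fun g hg => ((L.mem g).1 hg).1).1 h1

theorem maxPair : MaxPair p N N f P e := by
  have : Fact p.Prime := ⟨h.hM.1⟩
  have := res_charP h.hM
  exact BPair.maxPair_of_isDef ⟨Pair.of_Ce_le h.pair le_top ((Ce_anti L.sub.le).trans (L.Ce_le h))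
    ((L.le h).trans le_normalizer), L.le h, (L.sub.nsub h.pair L.norm).br⟩
    (h.hm.isDef_of_le le_rfl top_le_No_top (blk_eB h.hB) L.sub (inf_le_right.trans (L.Ce_le h))
      (fun g hg => ⟨⟨mem_top g, ((L.mem g).1 hg).1⟩, ((L.mem g).1 hg).2⟩) (L.le h))

theorem sub_iff {Q : Subgroup G} {j : (Res M)[G]} (hQ : R ≤ Q) :
    Sub p N Q j P e ↔ Sub p ⊤ Q j P e :=
  have h1 := (Ce_anti hQ).trans (L.Ce_le h)
  ⟨fun h2 => Sub.of_Ce_le h2 h1 le_top (le_No_top P),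
    fun h2 => Sub.of_Ce_le h2 le_top h1 ((L.le h).trans le_normalizer)⟩

theorem sub_bi (hu : u ∈ P) (hR : R ≤ zpowers u) : Sub p N (zpowers u) (bi p P e u) P e :=
  (L.sub_iff h hR).2 (h.blk_spec hu).2

theorem inf_Ce (hR : R ≤ zpowers u) : N ⊓ Ce (zpowers u) = ⊤ ⊓ Ce (zpowers u) := by
  rw [top_inf_eq, inf_eq_right.2 ((Ce_anti hR).trans (L.Ce_le h))]

theorem mem_of_into (hu : u ∈ P) (hR : R ≤ zpowers u) {g : G} (hg : Into p P e g u (bi p P e u))
    (hR' : R ≤ zpowers (g * u * g⁻¹)) : g ∈ N := by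
  have : Fact p.Prime := ⟨h.hM.1⟩
  have := res_charP h.hM
  have h1 : cjS g R = R := H42.eq_of_le_zpowers_of_card
    (cjS_zpowers g u ▸ cjS_mono g hR) hR' (card_cjS g R)
  have h2 := (L.sub.of_le h.pair (h.blk_spec hu).2 hR).cj (top_le_No_top (mem_top g))
  rw [h1, cjS_zpowers] at h2
  exact (L.mem g).2 ⟨mem_No_iff_cjS.2 h1, (h2.trans hg).unique h.pair L.sub⟩

variable (hn : Nilp p N f)
include hn

theorem r1 (hu : u ∈ P) (hR : R ≤ zpowers u) : R1 p P e u := by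
  have : Fact p.Prime := ⟨h.hM.1⟩
  have := res_charP h.hM
  refine r1_of_nilp h hu (L.inf_Ce h hR ▸ hn.of_bpair (L.blk h) ?_)
  exact (L.maxPair h).bpair.of_sub le_rfl (L.blk h).mem (L.blk h).idem (L.sub_bi h hu hR)

theorem pow_df (u : P) (hR : R ≤ zpowers (u : G)) :
    p ^ df p P e u = Nat.card (centralizer {u} : Subgroup P) := by
  have : Fact p.Prime := ⟨h.hM.1⟩
  have := res_charP h.hM
  rw [← card_inf_Ce]
  exact h.pow_df u.2 (L.inf_Ce h hR ▸
    hn.isDef_inf_Ce (good h.hM) (L.blk h) (L.maxPair h) (L.sub_bi h u.2 hR))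

theorem fz_iff (u v : P) (hR : R ≤ zpowers (u : G)) (hR' : R ≤ zpowers (v : G)) :
    Fz p P e u v ↔ IsConj u v := by
  have : Fact p.Prime := ⟨h.hM.1⟩
  have := res_charP h.hM
  refine ⟨fun ⟨g, hg, hv⟩ => ?_, fun h1 => ?_⟩
  · obtain ⟨c, hc, h1⟩ := hn.control (good h.hM) (L.blk h) (L.maxPair h) (L.sub_bi h u.2 hR)
      (L.mem_of_into h u.2 hR hg (hv ▸ hR')) (by
        rw [cjS_zpowers]; exact (L.sub_iff h (hv ▸ hR')).2 hg)
    exact isConj_iff.2 ⟨⟨c, hc⟩, Subtype.ext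
      ((conj_eq_of_mem_Ce h1 (mem_zpowers (u : G))).symm.trans hv)⟩
  · obtain ⟨c, rfl⟩ := isConj_iff.1 h1
    exact h.fz_conj u.2 c.2

end Lc

namespace Lc

variable (h : Ctx M p B P e) (L : Lc p P e R f N) (hι : Emb ι N) {c : Set (IrrCharacter K)}
  (hc : IsPBlock M c) (hf : idm M ι c = f) {u v : K}
include h L hι

theorem exists_blk : ∃ c, IsPBlock M c ∧ idm M ι c = f := hι.exists_idm_eq (L.blk h)

include hc hf

theorem ctx : Ctx M p c (P.comap ι) (pb ι e) := hι.ctx h.hM hc (hf ▸ L.maxPair h)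

theorem sub_up_iff {Q : Subgroup K} {j : (Res M)[K]} (hR : R ≤ Q.map ι) :
    Sub p ⊤ Q j (P.comap ι) (pb ι e) ↔ Sub p ⊤ (Q.map ι) (up ι j) P e := by
  have : Fact p.Prime := ⟨h.hM.1⟩
  have := res_charP h.hM
  rw [← H87.sub_up_iff hι.inj (L.ctx h hι hc hf).pair, hι.map_top, hι.map_comap (L.le h),
    hι.up_pb_of_supp (L.maxPair h).bpair.pair.suppN, L.sub_iff h hR]

theorem up_bi (hu : ι u ∈ P) (hR : R ≤ zpowers (ι u)) :
    up ι (bi p (P.comap ι) (pb ι e) u) = bi p P e (ι u) := by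
  rw [← MonoidHom.map_zpowers] at hR
  have h1 := (L.sub_up_iff h hι hc hf hR).1 ((L.ctx h hι hc hf).blk_spec hu).2
  rw [MonoidHom.map_zpowers] at h1
  exact h.eq_bi h1

theorem map_Ce (hR : R ≤ zpowers (ι u)) : (Ce (zpowers u)).map ι = Ce (zpowers (ι u)) := by
  rw [hι.map_Ce, MonoidHom.map_zpowers, L.inf_Ce h hR, top_inf_eq]

theorem D_up (hχ : IsClassFunction G χ) (hu : ι u ∈ P) (hR : R ≤ zpowers (ι u)) :
    D p (P.comap ι) (pb ι e) u (fun x => χ (ι x)) = D p P e (ι u) χ := by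
  have h1 := ((L.ctx h hι hc hf).blk_spec hu).2.pair_iff.2 (L.ctx h hι hc hf).pair
  rw [D, D, H87.dn, H87.dn, ← L.up_bi h hι hc hf hu hR, tau_up hι.inj hχ h1.inv h1.blk.idem,
    ← L.map_Ce h hι hc hf hR, len_up hι.inj h1.supp h1.blk.idem]

theorem lb_up (hu : ι u ∈ P) (hR : R ≤ zpowers (ι u)) :
    lb p (P.comap ι) (pb ι e) u = lb p P e (ι u) := by
  refine (h.lb_eq (((emb_subtype _).comp hι.inj).of_eq (L.map_Ce h hι hc hf hR))
    ((L.ctx h hι hc hf).blk_spec hu).1 ?_).symm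
  rw [idm_comp, L.up_bi h hι hc hf hu hR]
  exact (h.blk_spec hu).2

theorem fz_up (hu : ι u ∈ P) (hR : R ≤ zpowers (ι u)) (hR' : R ≤ zpowers (ι v)) :
    Fz p (P.comap ι) (pb ι e) u v ↔ Fz p P e (ι u) (ι v) := by
  have h1 : ∀ g : K, g * u * g⁻¹ = v → (Into p (P.comap ι) (pb ι e) g u
      (bi p (P.comap ι) (pb ι e) u) ↔ Into p P e (ι g) (ι u) (bi p P e (ι u))) := fun g hg => by
    rw [Into, Into, L.sub_up_iff h hι hc hf (by rwa [hg, MonoidHom.map_zpowers]),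
      MonoidHom.map_zpowers, ← cj_up, L.up_bi h hι hc hf hu hR, map_mul, map_mul, map_inv]
  refine ⟨fun ⟨g, hg, hv⟩ => ⟨ι g, (h1 g hv).1 hg, by rw [← hv, map_mul, map_mul, map_inv]⟩,
    fun ⟨g, hg, hv⟩ => ?_⟩
  obtain ⟨g, rfl⟩ := hι.exists (L.mem_of_into h hu hR hg (hv ▸ hR'))
  have h2 : g * u * g⁻¹ = v := hι.inj (by rw [← hv, map_mul, map_mul, map_inv])
  exact ⟨g, (h1 g h2).2 hg, h2⟩

theorem wt_up (hu : ι u ∈ P) (hR : ∀ v ∈ P, orderOf v = orderOf (ι u) → R ≤ zpowers v) :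
    wt p (P.comap ι) (pb ι e) u = wt p P e (ι u) := by
  rw [(L.ctx h hι hc hf).wt_eq hu, h.wt_eq hu]
  refine congrArg (fun n : ℕ => (n : ℝ)⁻¹) (Nat.card_congr ((hι.res (L.le h)).symm.subtypeEquiv
    fun v => ?_))
  have h1 : ((hι.res (L.le h)).symm v : G) = ι v := by
    rw [← hι.coe_res (L.le h), MulEquiv.apply_symm_apply]
  change _ ↔ Fz p P e (ι u) ((hι.res (L.le h)).symm v)
  rw [h1]
  by_cases h2 : orderOf (ι v) = orderOf (ι u)
  · exact L.fz_up h hι hc hf hu (hR _ hu rfl) (hR _ v.2 h2)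
  · refine iff_of_false (fun h3 => h2 ?_) fun h3 => h2 (orderOf_isConj h3.isConj).symm
    rw [orderOf_injective ι hι.inj, orderOf_injective ι hι.inj,
      orderOf_isConj h3.isConj]

end Lc

end Cfsg.Agent.H86
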