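import Cfsg.Agent.H87.Frob

/-! Variance estimates for integer vectors and Fourier expansion on finite abelian groups. -/

set_option autoImplicit false
set_option linter.unusedSectionVars false

open MonoidAlgebra Subgroup ComplexConjugate

namespace Cfsg.Agent.H86

open Cfsg Cfsg.Agent.H87 Cfsg.Agent.H32 Cfsg.Agent.H34

section Var

variable {ι : Type*} (J : Finset ι) (c : ι → ℤ)

/-- `|J| ∑ c² - (∑ c)²`. -/
def vr : ℤ := J.card * ∑ j ∈ J, c j ^ 2 - (∑ j ∈ J, c j) ^ 2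

theorem exists_vr {n : ℤ} (hn : (J.card : ℤ) = 2 * n) (h0 : 0 < n) :
    ∃ q σ t : ℤ, vr J c = 2 * n * q - σ ^ 2 ∧ ∑ j ∈ J, c j = σ + 2 * n * t ∧ |σ| ≤ n ∧
      |σ| ≤ q ∧ Even (q - σ) := by
  obtain ⟨t, ht⟩ : ∃ t : ℤ, |∑ j ∈ J, c j - 2 * n * t| ≤ n := by
    refine ⟨(∑ j ∈ J, c j + n) / (2 * n), ?_⟩
    have h1 := Int.emod_add_mul_ediv (∑ j ∈ J, c j + n) (2 * n)
    have h2 := Int.emod_nonneg (∑ j ∈ J, c j + n) (show 2 * n ≠ 0 by omega)
    have h3 := Int.emod_lt_of_pos (∑ j ∈ J, c j + n) (show 0 < 2 * n by omega)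
    rw [abs_le]; constructor <;> linarith
  have h1 : ∑ j ∈ J, (c j - t) = ∑ j ∈ J, c j - 2 * n * t := by
    rw [Finset.sum_sub_distrib, Finset.sum_const, nsmul_eq_mul, hn]
  refine ⟨∑ j ∈ J, (c j - t) ^ 2, _, t, ?_, by ring, ht, ?_, ?_⟩
  · simp only [vr, sub_sq, Finset.sum_add_distrib, Finset.sum_sub_distrib, Finset.sum_const,
      nsmul_eq_mul, hn, ← Finset.sum_mul, ← Finset.mul_sum]
    ring
  · rw [← h1]
    refine (Finset.abs_sum_le_sum_abs _ _).trans (Finset.sum_le_sum fun j _ => ?_)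
    rw [← sq_abs]; exact Int.le_self_sq _
  · rw [← h1, ← Finset.sum_sub_distrib]
    exact Finset.even_sum _ fun j _ => by
      rw [sq, ← mul_sub_one]; exact Int.even_mul_pred_self _

theorem vr_of_even {n : ℤ} (hn : (J.card : ℤ) = 2 * n) (h0 : 0 < n) (h : Even (∑ j ∈ J, c j)) :
    (vr J c = 0 ∧ 2 * n ∣ ∑ j ∈ J, c j) ∨ 4 * n - 4 ≤ vr J c := by
  obtain ⟨q, σ, t, h1, h2, h3, h4, h5⟩ := exists_vr J c hn h0
  rw [h1, h2, ← sq_abs]
  rw [h2, mul_assoc] at h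
  obtain ⟨a, ha⟩ := h
  obtain ⟨b, hb⟩ := h5
  have h6 := abs_nonneg σ
  by_cases hq : q = 0
  · have h7 : σ = 0 := abs_eq_zero.1 (by omega)
    exact .inl ⟨by simp [hq, h7], by simp [h7]⟩
  refine .inr ?_
  have h7 : 2 ≤ q := by omega
  rcases le_total |σ| 2 with h8 | h8 <;> nlinarith

theorem vr_of_odd {n : ℤ} (hn : (J.card : ℤ) = 2 * n) (h0 : 0 < n) (h : Odd (∑ j ∈ J, c j)) :
    vr J c = 2 * n - 1 ∨ (6 * n - 9 ≤ vr J c ∧ 6 * n - n ^ 2 ≤ vr J c) := by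
  obtain ⟨q, σ, t, h1, h2, h3, h4, h5⟩ := exists_vr J c hn h0
  rw [h1, ← sq_abs]
  rw [h2, mul_assoc] at h
  obtain ⟨a, ha⟩ := h
  obtain ⟨b, hb⟩ := h5
  have h6 := abs_nonneg σ
  by_cases hq : q = 1
  · have h7 : |σ| = 1 := by rcases abs_cases σ with h | h <;> omega
    exact .inl (by simp [hq, h7])
  have h7 : 3 ≤ q := by omega
  refine .inr ⟨?_, by nlinarith⟩
  rcases le_total |σ| 3 with h8 | h8 <;> nlinarith

theorem even_sum_of_invol {σ : ι → ι} (h1 : ∀ j ∈ J, σ j ∈ J) (h2 : ∀ j ∈ J, σ (σ j) = j)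
    (h3 : ∀ j ∈ J, c (σ j) = c j) (h4 : ∀ j ∈ J, σ j ≠ j) : Even (∑ j ∈ J, c j) := by
  rw [← ZMod.intCast_eq_zero_iff_even, Int.cast_sum]
  exact Finset.sum_involution (fun j _ => σ j) (fun j hj => by
    rw [h3 j hj]; exact CharTwo.add_self_eq_zero _) (fun j hj _ => h4 j hj) h1 h2

end Var

section Four

variable {A : Type*} [Group A] [Fintype A] [Fintype (A →* ℂˣ)] {f : A → ℂ}

theorem exists_fourier (hA : ∀ a b : A, a * b = b * a) (hf : IsGeneralizedCharacter A f) :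
    ∃ c : (A →* ℂˣ) → ℤ, (∀ l, ∑ u, f u * lc l u⁻¹ = Nat.card A * c l) ∧
      (∀ u, f u = ∑ l, c l * lc l u) ∧ ∑ u, ‖f u‖ ^ 2 = Nat.card A * ∑ l, (c l : ℝ) ^ 2 := by
  have h0 : (Nat.card A : ℂ) ≠ 0 := Nat.cast_ne_zero.2 Nat.card_pos.ne'
  choose c hc using fun l : A →* ℂˣ => H53.virt_ci_int hf (virt_lc' l)
  have h1 : ∀ l, ∑ u, f u * lc l u⁻¹ = Nat.card A * c l := fun l => by
    rw [← hc, classInner, mul_inv_cancel_left₀ h0]
    simp only [lc_inv]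
  have h2 : ∀ u, f u = ∑ l, c l * lc l u := fun u => by
    rw [fourier_lc hA f u]
    simp only [h1, inv_mul_cancel_left₀ h0]
  refine ⟨c, h1, h2, Complex.ofReal_injective ?_⟩
  push_cast
  simp only [← Complex.mul_conj']
  calc ∑ u, f u * conj (f u) = ∑ u, ∑ l, c l * (f u * lc l u⁻¹) := by
        refine Finset.sum_congr rfl fun u _ => ?_
        conv_lhs => arg 2; rw [h2 u]
        simp only [map_sum, map_mul, map_intCast, lc_inv, Finset.mul_sum]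
        exact Finset.sum_congr rfl fun l _ => by ring
    _ = _ := by
        rw [Finset.sum_comm, Finset.mul_sum]
        exact Finset.sum_congr rfl fun l _ => by rw [← Finset.mul_sum, h1]; ring

end Four

end Cfsg.Agent.H86
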